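import Cfsg.Agent.Lib.KnownB.U62Mult.Trie

/-! Roots, symbols and the action of generators of the monomial group. -/

set_option autoImplicit false
set_option maxRecDepth 100000

namespace CfsgLib.Chev.E62Two

open CfsgLib.KnownB.U62Mult

/-- the orbit of a symbol -/
def soT : Trie := (.nd (.nd (.nd (.nd (.nd (.nd (.nd (.lf 0) (.lf 41)) (.nd (.lf 21) (.lf 0))) (.nd (.nd (.lf 11) (.lf 0)) (.nd (.lf 31) (.lf 0)))) (.nd (.nd (.nd (.lf 6) (.lf 0)) (.nd (.lf 26) (.lf 0))) (.nd (.nd (.lf 15) (.lf 0)) (.nd (.lf 36) (.lf 0))))) (.nd (.nd (.nd (.nd (.lf 3) (.lf 44)) (.nd (.lf 24) (.lf 0))) (.nd (.nd (.lf 13) (.lf 0)) (.nd (.lf 34) (.lf 0)))) (.nd (.nd (.nd (.lf 8) (.lf 0)) (.nd (.lf 28) (.lf 0))) (.nd (.nd (.lf 18) (.lf 0)) (.nd (.lf 39) (.lf 0)))))) (.nd (.nd (.nd (.nd (.nd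 (.lf 2) (.lf 43)) (.nd (.lf 22) (.lf 0))) (.nd (.nd (.lf 12) (.lf 0)) (.nd (.lf 32) (.lf 0)))) (.nd (.nd (.nd (.lf 7) (.lf 0)) (.nd (.lf 27) (.lf 0))) (.nd (.nd (.lf 17) (.lf 0)) (.nd (.lf 37) (.lf 0))))) (.nd (.nd (.nd (.nd (.lf 4) (.lf 46)) (.nd (.lf 25) (.lf 0))) (.nd (.nd (.lf 14) (.lf 0)) (.nd (.lf 35) (.lf 0)))) (.nd (.nd (.nd (.lf 9) (.lf 0)) (.nd (.lf 29) (.lf 0))) (.nd (.nd (.lf 20) (.lf 0)) (.nd (.lf 40) (.lf 0))))))) (.nd (.nd (.nd (.nd (.nd (.nd (.lf 1) (.lf 42)) (.nd (.lf 22) (.lf 0))) (.nd (.nd (.lf 11) (.lf 0)) (.nd (.lf 31) (.lf 0)))) (.nd (.nd (.nd (.lf 6) (.lf 0)) (.nd (.lf 26) (.lf 0))) (.nd (.nd (.lf 16) (.lf 0)) (.nd (.lf 37) (.lf 0))))) (.nd (.nd (.nd (.nd (.lf 4) (.lf 45)) (.nd (.lf 24) (.lf 0))) (.nd (.nd (.lf 13) (.lf 0)) (.nd (.lf 34) (.lf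 0)))) (.nd (.nd (.nd (.lf 9) (.lf 0)) (.nd (.lf 29) (.lf 0))) (.nd (.nd (.lf 19) (.lf 0)) (.nd (.lf 39) (.lf 0)))))) (.nd (.nd (.nd (.nd (.nd (.lf 3) (.lf 44)) (.nd (.lf 23) (.lf 0))) (.nd (.nd (.lf 12) (.lf 0)) (.nd (.lf 33) (.lf 0)))) (.nd (.nd (.nd (.lf 8) (.lf 0)) (.nd (.lf 28) (.lf 0))) (.nd (.nd (.lf 17) (.lf 0)) (.nd (.lf 38) (.lf 0))))) (.nd (.nd (.nd (.nd (.lf 5) (.lf 47)) (.nd (.lf 25) (.lf 0))) (.nd (.nd (.lf 14) (.lf 0)) (.nd (.lf 35) (.lf 0)))) (.nd (.nd (.nd (.lf 10) (.lf 0)) (.nd (.lf 30) (.lf 0))) (.nd (.nd (.lf 21) (.lf 0)) (.nd (.lf 40) (.lf 0))))))))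

/-- the parameter of a symbol -/
def scT : Trie := (.nd (.nd (.nd (.nd (.nd (.nd (.lf 1) (.nd (.lf 2) (.lf 0))) (.nd (.nd (.lf 1) (.lf 0)) (.nd (.lf 1) (.lf 0)))) (.nd (.nd (.nd (.lf 1) (.lf 0)) (.nd (.lf 1) (.lf 0))) (.nd (.nd (.lf 1) (.lf 0)) (.nd (.lf 1) (.lf 0))))) (.nd (.nd (.nd (.lf 2) (.nd (.lf 1) (.lf 0))) (.nd (.nd (.lf 1) (.lf 0)) (.nd (.lf 1) (.lf 0)))) (.nd (.nd (.nd (.lf 2) (.lf 0)) (.nd (.lf 2) (.lf 0))) (.nd (.nd (.lf 1) (.lf 0)) (.nd (.lf 1) (.lf 0)))))) (.nd (.nd (.nd (.nd (.lf 1) (.nd (.lf 2) (.lf 0))) (.nd (.nd (.lf 1) (.lf 0)) (.nd (.lf 1) (.lf 0)))) (.nd (.nd (.nd (.lf 1) (.lf 0)) (.nd (.lf 1) (.lf 0))) (.nd (.nd (.lf 1) (.lf 0)) (.nd (.lf 2) (.lf 0))))) (.nd (.nd (.nd (.nd (.lf 2) (.lf 1)) (.nd (.lf 1) (.lf 0))) (.nd (.nd (.lf 1) (.lf 0)) (.nd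 (.lf 1) (.lf 0)))) (.nd (.nd (.nd (.lf 2) (.lf 0)) (.nd (.lf 2) (.lf 0))) (.nd (.nd (.lf 1) (.lf 0)) (.nd (.lf 1) (.lf 0))))))) (.nd (.nd (.nd (.nd (.nd (.lf 1) (.nd (.lf 1) (.lf 0))) (.nd (.nd (.lf 2) (.lf 0)) (.nd (.lf 2) (.lf 0)))) (.nd (.nd (.nd (.lf 2) (.lf 0)) (.nd (.lf 2) (.lf 0))) (.nd (.nd (.lf 1) (.lf 0)) (.nd (.lf 1) (.lf 0))))) (.nd (.nd (.nd (.lf 1) (.nd (.lf 2) (.lf 0))) (.nd (.nd (.lf 2) (.lf 0)) (.nd (.lf 2) (.lf 0)))) (.nd (.nd (.nd (.lf 1) (.lf 0)) (.nd (.lf 1) (.lf 0))) (.nd (.nd (.lf 1) (.lf 0)) (.nd (.lf 2) (.lf 0)))))) (.nd (.nd (.nd (.nd (.lf 1) (.nd (.lf 1) (.lf 0))) (.nd (.nd (.lf 2) (.lf 0)) (.nd (.lf 1) (.lf 0)))) (.nd (.nd (.nd (.lf 1) (.lf 0)) (.nd (.lf 1) (.lf 0))) (.nd (.nd (.lf 2) (.lf 0)) (.nd (.lf 1) (.lf 0))))) (.nd (.nd (.nd (.lf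 1) (.nd (.lf 2) (.lf 0))) (.nd (.nd (.lf 2) (.lf 0)) (.nd (.lf 2) (.lf 0)))) (.nd (.nd (.nd (.lf 1) (.lf 0)) (.nd (.lf 1) (.lf 0))) (.nd (.nd (.lf 1) (.lf 0)) (.nd (.lf 2) (.lf 0))))))))

/-- the first root of an orbit -/
def repT : Trie := (.nd (.nd (.nd (.nd (.nd (.nd (.lf 0) (.lf 46)) (.nd (.lf 20) (.lf 0))) (.nd (.nd (.lf 9) (.lf 55)) (.nd (.lf 36) (.lf 0)))) (.nd (.nd (.nd (.lf 4) (.lf 51)) (.nd (.lf 27) (.lf 0))) (.nd (.nd (.lf 13) (.lf 66)) (.nd (.lf 40) (.lf 0))))) (.nd (.nd (.nd (.nd (.lf 2) (.lf 48)) (.nd (.lf 24) (.lf 0))) (.nd (.nd (.lf 11) (.lf 63)) (.nd (.lf 38) (.lf 0)))) (.nd (.nd (.nd (.lf 7) (.lf 53)) (.nd (.lf 29) (.lf 0))) (.nd (.nd (.lf 15) (.lf 70)) (.nd (.lf 44) (.lf 0)))))) (.nd (.nd (.nd (.nd (.nd (.lf 1) (.lf 47)) (.nd (.lf 21) (.lf 0))) (.nd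 (.nd (.lf 10) (.lf 60)) (.nd (.lf 37) (.lf 0)))) (.nd (.nd (.nd (.lf 6) (.lf 52)) (.nd (.lf 28) (.lf 0))) (.nd (.nd (.lf 14) (.lf 69)) (.nd (.lf 41) (.lf 0))))) (.nd (.nd (.nd (.nd (.lf 3) (.lf 49)) (.nd (.lf 25) (.lf 0))) (.nd (.nd (.lf 12) (.lf 65)) (.nd (.lf 39) (.lf 0)))) (.nd (.nd (.nd (.lf 8) (.lf 54)) (.nd (.lf 32) (.lf 0))) (.nd (.nd (.lf 18) (.lf 71)) (.nd (.lf 45) (.lf 0)))))))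

/-- the second root of an orbit -/
def rpT : Trie := (.nd (.nd (.nd (.nd (.nd (.nd (.lf 0) (.lf 46)) (.nd (.lf 20) (.lf 0))) (.nd (.nd (.lf 19) (.lf 67)) (.nd (.lf 56) (.lf 0)))) (.nd (.nd (.nd (.lf 16) (.lf 51)) (.nd (.lf 27) (.lf 0))) (.nd (.nd (.lf 30) (.lf 68)) (.nd (.lf 43) (.lf 0))))) (.nd (.nd (.nd (.nd (.lf 2) (.lf 50)) (.nd (.lf 24) (.lf 0))) (.nd (.nd (.lf 11) (.lf 63)) (.nd (.lf 57) (.lf 0)))) (.nd (.nd (.nd (.lf 17) (.lf 53)) (.nd (.lf 34) (.lf 0))) (.nd (.nd (.lf 35) (.lf 70)) (.nd (.lf 44) (.lf 0)))))) (.nd (.nd (.nd (.nd (.nd (.lf 1) (.lf 47)) (.nd (.lf 23) (.lf 0))) (.nd (.nd (.lf 22) (.lf 60)) (.nd (.lf 42) (.lf 0)))) (.nd (.nd (.nd (.lf 6) (.lf 62)) (.nd (.lf 31) (.lf 0))) (.nd (.nd (.lf 33) (.lf 69)) (.nd (.lf 58) (.lf 0))))) (.nd (.nd (.nd (.nd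 (.lf 5) (.lf 61)) (.nd (.lf 25) (.lf 0))) (.nd (.nd (.lf 26) (.lf 65)) (.nd (.lf 39) (.lf 0)))) (.nd (.nd (.nd (.lf 8) (.lf 64)) (.nd (.lf 32) (.lf 0))) (.nd (.nd (.lf 18) (.lf 71)) (.nd (.lf 59) (.lf 0)))))))

/-- the opposite orbit -/
def onegT : Trie := (.nd (.nd (.nd (.nd (.nd (.nd (.lf 47) (.lf 19)) (.nd (.lf 36) (.lf 0))) (.nd (.nd (.lf 37) (.lf 4)) (.nd (.lf 14) (.lf 0)))) (.nd (.nd (.nd (.lf 40) (.lf 16)) (.nd (.lf 30) (.lf 0))) (.nd (.nd (.lf 29) (.lf 3)) (.nd (.lf 21) (.lf 0))))) (.nd (.nd (.nd (.nd (.lf 45) (.lf 17)) (.nd (.lf 33) (.lf 0))) (.nd (.nd (.lf 41) (.lf 7)) (.nd (.lf 13) (.lf 0)))) (.nd (.nd (.nd (.lf 39) (.lf 15)) (.nd (.lf 25) (.lf 0))) (.nd (.nd (.lf 24) (.lf 1)) (.nd (.lf 20) (.lf 0)))))) (.nd (.nd (.nd (.nd (.nd (.lf 46) (.lf 18)) (.nd (.lf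 34) (.lf 0))) (.nd (.nd (.lf 35) (.lf 10)) (.nd (.lf 22) (.lf 0)))) (.nd (.nd (.nd (.lf 43) (.lf 8)) (.nd (.lf 28) (.lf 0))) (.nd (.nd (.lf 26) (.lf 2)) (.nd (.lf 12) (.lf 0))))) (.nd (.nd (.nd (.nd (.lf 44) (.lf 9)) (.nd (.lf 32) (.lf 0))) (.nd (.nd (.lf 31) (.lf 5)) (.nd (.lf 23) (.lf 0)))) (.nd (.nd (.nd (.lf 42) (.lf 6)) (.nd (.lf 27) (.lf 0))) (.nd (.nd (.lf 38) (.lf 0)) (.nd (.lf 11) (.lf 0)))))))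

/-- the orbit of a root -/
def orbT : Trie := (.nd (.nd (.nd (.nd (.nd (.nd (.nd (.lf 0) (.lf 39)) (.nd (.lf 23) (.lf 0))) (.nd (.nd (.lf 4) (.lf 0)) (.nd (.lf 34) (.lf 0)))) (.nd (.nd (.nd (.lf 7) (.lf 0)) (.nd (.lf 28) (.lf 0))) (.nd (.nd (.lf 18) (.lf 0)) (.nd (.lf 24) (.lf 0))))) (.nd (.nd (.nd (.nd (.lf 4) (.lf 44)) (.nd (.lf 24) (.lf 0))) (.nd (.nd (.lf 16) (.lf 0)) (.nd (.lf 37) (.lf 0)))) (.nd (.nd (.nd (.lf 11) (.lf 0)) (.nd (.lf 30) (.lf 0))) (.nd (.nd (.lf 21) (.lf 0)) (.nd (.lf 41) (.lf 0)))))) (.nd (.nd (.nd (.nd (.nd (.lf 2) (.lf 44)) (.nd (.lf 22) (.lf 0))) (.nd (.nd (.lf 15) (.lf 0)) (.nd (.lf 34) (.lf 0)))) (.nd (.nd (.nd (.lf 9) (.lf 0)) (.nd (.lf 25) (.lf 0))) (.nd (.nd (.lf 11) (.lf 0)) (.nd (.lf 29) (.lf 0))))) (.nd (.nd (.nd (.nd (.lf 5) (.lf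 46)) (.nd (.lf 26) (.lf 0))) (.nd (.nd (.lf 9) (.lf 0)) (.nd (.lf 39) (.lf 0)))) (.nd (.nd (.nd (.lf 13) (.lf 0)) (.nd (.lf 32) (.lf 0))) (.nd (.nd (.lf 12) (.lf 0)) (.nd (.lf 37) (.lf 0))))))) (.nd (.nd (.nd (.nd (.nd (.nd (.lf 1) (.lf 43)) (.nd (.lf 13) (.lf 0))) (.nd (.nd (.lf 6) (.lf 0)) (.nd (.lf 35) (.lf 0)))) (.nd (.nd (.nd (.lf 8) (.lf 0)) (.nd (.lf 29) (.lf 0))) (.nd (.nd (.lf 19) (.lf 0)) (.nd (.lf 26) (.lf 0))))) (.nd (.nd (.nd (.nd (.lf 3) (.lf 45)) (.nd (.lf 25) (.lf 0))) (.nd (.nd (.lf 17) (.lf 0)) (.nd (.lf 38) (.lf 0)))) (.nd (.nd (.nd (.lf 12) (.lf 0)) (.nd (.lf 31) (.lf 0))) (.nd (.nd (.lf 22) (.lf 0)) (.nd (.lf 35) (.lf 0)))))) (.nd (.nd (.nd (.nd (.nd (.lf 3) (.lf 40)) (.nd (.lf 14) (.lf 0))) (.nd (.nd (.lf 8) (.lf 0)) (.nd (.lf 36) (.lf 0)))) (.nd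 (.nd (.nd (.lf 10) (.lf 0)) (.nd (.lf 28) (.lf 0))) (.nd (.nd (.lf 20) (.lf 0)) (.nd (.lf 31) (.lf 0))))) (.nd (.nd (.nd (.nd (.lf 6) (.lf 47)) (.nd (.lf 27) (.lf 0))) (.nd (.nd (.lf 17) (.lf 0)) (.nd (.lf 40) (.lf 0)))) (.nd (.nd (.nd (.lf 14) (.lf 0)) (.nd (.lf 33) (.lf 0))) (.nd (.nd (.lf 21) (.lf 0)) (.nd (.lf 42) (.lf 0))))))))

/-- orbits in commutators -/
def sum0 : Trie := (.nd (.nd (.nd (.nd (.nd (.nd (.lf 0) (.lf 2)) (.lf 0)) (.nd (.nd (.lf 0) (.lf 1994)) (.lf 0))) (.nd (.nd (.nd (.lf 0) (.lf 6)) (.lf 0)) (.nd (.nd (.lf 0) (.lf 2706)) (.lf 0)))) (.nd (.nd (.nd (.nd (.lf 0) (.lf 708)) (.lf 0)) (.nd (.nd (.lf 0) (.lf 16)) (.lf 0))) (.nd (.nd (.nd (.lf 0) (.lf 8)) (.lf 0)) (.nd (.nd (.lf 0) (.lf 20)) (.lf 0))))) (.nd (.nd (.nd (.nd (.nd (.lf 0) (.lf 3)) (.lf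 0)) (.lf 0)) (.nd (.nd (.nd (.lf 0) (.lf 1543)) (.lf 0)) (.nd (.nd (.lf 0) (.lf 19)) (.lf 0)))) (.nd (.nd (.nd (.nd (.lf 0) (.lf 1349)) (.lf 0)) (.nd (.nd (.lf 0) (.lf 17)) (.lf 0))) (.nd (.nd (.nd (.lf 0) (.lf 1801)) (.lf 0)) (.lf 0)))))

/-- orbits in commutators -/
def sum1 : Trie := (.nd (.nd (.nd (.nd (.lf 0) (.nd (.nd (.lf 0) (.lf 2381)) (.lf 0))) (.nd (.lf 0) (.nd (.nd (.lf 0) (.lf 2774)) (.nd (.lf 516) (.lf 0))))) (.nd (.lf 0) (.nd (.nd (.nd (.lf 0) (.lf 11)) (.lf 0)) (.nd (.lf 0) (.nd (.lf 6) (.lf 0)))))) (.nd (.nd (.nd (.lf 0) (.nd (.nd (.lf 0) (.lf 16)) (.lf 0))) (.nd (.lf 0) (.nd (.nd (.lf 0) (.lf 24)) (.nd (.lf 1093) (.lf 0))))) (.nd (.nd (.nd (.lf 0) (.nd (.lf 1) (.lf 0))) (.nd (.nd (.lf 0) (.lf 21)) (.nd (.lf 3) (.lf 0)))) (.nd (.nd (.nd (.lf 0) (.lf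 2188)) (.lf 0)) (.nd (.nd (.lf 0) (.lf 33)) (.nd (.lf 1223) (.lf 0)))))))

/-- orbits in commutators -/
def sum2 : Trie := (.nd (.nd (.nd (.nd (.lf 0) (.nd (.nd (.lf 0) (.lf 2510)) (.lf 0))) (.nd (.nd (.nd (.lf 0) (.lf 11)) (.lf 0)) (.nd (.nd (.lf 0) (.lf 2839)) (.lf 0)))) (.nd (.nd (.nd (.lf 0) (.nd (.lf 1) (.lf 0))) (.nd (.nd (.lf 0) (.lf 21)) (.nd (.lf 1029) (.lf 0)))) (.nd (.lf 0) (.nd (.nd (.lf 0) (.lf 28)) (.nd (.lf 8) (.lf 0)))))) (.nd (.nd (.nd (.lf 0) (.nd (.nd (.lf 0) (.lf 17)) (.nd (.lf 388) (.lf 0)))) (.nd (.nd (.nd (.lf 0) (.lf 2124)) (.lf 0)) (.lf 0))) (.nd (.lf 0) (.nd (.nd (.lf 0) (.nd (.lf 2) (.lf 0))) (.nd (.nd (.lf 0) (.lf 34)) (.nd (.lf 1289) (.lf 0)))))))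

/-- orbits in commutators -/
def sum3 : Trie := (.nd (.nd (.nd (.nd (.lf 0) (.nd (.nd (.lf 0) (.lf 15)) (.nd (.lf 5) (.lf 0)))) (.nd (.lf 0) (.nd (.lf 0) (.nd (.lf 8) (.lf 0))))) (.nd (.nd (.nd (.nd (.lf 0) (.lf 11)) (.lf 0)) (.nd (.nd (.lf 0) (.lf 1410)) (.nd (.lf 7) (.lf 0)))) (.nd (.nd (.lf 0) (.nd (.lf 3) (.lf 0))) (.nd (.nd (.lf 0) (.lf 1864)) (.lf 0))))) (.nd (.nd (.nd (.nd (.lf 0) (.nd (.lf 1) (.lf 0))) (.nd (.nd (.lf 0) (.lf 1153)) (.nd (.lf 6) (.lf 0)))) (.nd (.nd (.nd (.lf 0) (.lf 13)) (.nd (.lf 2) (.lf 0))) (.nd (.nd (.lf 0) (.lf 1670)) (.nd (.lf 9) (.lf 0))))) (.nd (.nd (.nd (.nd (.lf 0) (.lf 12)) (.lf 0)) (.nd (.nd (.lf 0) (.lf 1475)) (.lf 0))) (.nd (.nd (.nd (.lf 0) (.lf 14)) (.lf 0)) (.nd (.nd (.lf 0) (.lf 2251)) (.nd (.lf 10) (.lf 0)))))))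

/-- orbits in commutators -/
def sum4 : Trie := (.nd (.nd (.nd (.lf 0) (.nd (.nd (.nd (.lf 0) (.lf 834)) (.lf 0)) (.nd (.nd (.lf 2) (.lf 25)) (.nd (.lf 9) (.lf 0))))) (.nd (.nd (.nd (.nd (.lf 0) (.lf 12)) (.lf 0)) (.nd (.lf 0) (.nd (.lf 16) (.lf 0)))) (.nd (.nd (.nd (.lf 0) (.lf 899)) (.lf 0)) (.nd (.nd (.lf 4) (.lf 1937)) (.nd (.lf 641) (.lf 0)))))) (.nd (.nd (.nd (.lf 0) (.nd (.nd (.lf 1) (.lf 0)) (.nd (.lf 7) (.lf 0)))) (.nd (.nd (.nd (.lf 0) (.lf 22)) (.lf 0)) (.nd (.nd (.lf 3) (.lf 1744)) (.nd (.lf 17) (.lf 0))))) (.nd (.nd (.nd (.nd (.lf 0) (.lf 21)) (.lf 0)) (.lf 0)) (.nd (.nd (.nd (.lf 0) (.lf 23)) (.lf 0)) (.nd (.nd (.lf 0) (.lf 2325)) (.nd (.lf 18) (.lf 0)))))))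

/-- orbits in commutators -/
def sum5 : Trie := (.nd (.nd (.nd (.nd (.nd (.lf 0) (.nd (.lf 1) (.lf 0))) (.nd (.lf 0) (.nd (.lf 1031) (.lf 0)))) (.nd (.nd (.lf 0) (.nd (.lf 2) (.lf 0))) (.nd (.nd (.lf 0) (.lf 2970)) (.lf 0)))) (.nd (.nd (.lf 0) (.nd (.nd (.lf 0) (.lf 24)) (.lf 0))) (.nd (.nd (.lf 0) (.nd (.lf 259) (.lf 0))) (.nd (.nd (.lf 0) (.lf 31)) (.lf 0))))) (.nd (.nd (.nd (.nd (.nd (.lf 0) (.lf 11)) (.lf 0)) (.nd (.nd (.lf 0) (.lf 19)) (.lf 0))) (.nd (.lf 0) (.nd (.lf 0) (.nd (.lf 1290) (.lf 0))))) (.nd (.nd (.nd (.nd (.lf 0) (.lf 2125)) (.lf 0)) (.nd (.lf 0) (.nd (.lf 8) (.lf 0)))) (.nd (.nd (.nd (.lf 0) (.lf 2511)) (.lf 0)) (.nd (.nd (.lf 0) (.lf 37)) (.lf 0))))))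

/-- orbits in commutators -/
def sum6 : Trie := (.nd (.nd (.nd (.nd (.lf 0) (.nd (.nd (.lf 1) (.lf 26)) (.nd (.lf 16) (.lf 0)))) (.nd (.lf 0) (.nd (.nd (.lf 0) (.lf 27)) (.nd (.lf 10) (.lf 0))))) (.nd (.nd (.nd (.nd (.lf 0) (.lf 13)) (.lf 0)) (.lf 0)) (.nd (.nd (.nd (.lf 0) (.lf 966)) (.nd (.lf 5) (.lf 0))) (.nd (.nd (.lf 6) (.lf 2067)) (.lf 0))))) (.nd (.nd (.nd (.nd (.nd (.lf 0) (.lf 770)) (.lf 0)) (.lf 0)) (.nd (.nd (.nd (.lf 0) (.lf 24)) (.lf 0)) (.nd (.nd (.lf 4) (.lf 0)) (.nd (.lf 18) (.lf 0))))) (.nd (.nd (.nd (.nd (.lf 0) (.lf 22)) (.lf 0)) (.nd (.nd (.lf 2) (.lf 1616)) (.nd (.lf 577) (.lf 0)))) (.nd (.lf 0) (.nd (.nd (.lf 0) (.lf 2456)) (.nd (.lf 19) (.lf 0)))))))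

/-- orbits in commutators -/
def sum7 : Trie := (.nd (.nd (.nd (.nd (.nd (.nd (.lf 0) (.lf 11)) (.lf 0)) (.nd (.lf 0) (.nd (.lf 1097) (.lf 0)))) (.nd (.nd (.lf 0) (.nd (.lf 3) (.lf 0))) (.nd (.nd (.lf 0) (.lf 3037)) (.lf 0)))) (.nd (.nd (.lf 0) (.nd (.lf 0) (.nd (.lf 1226) (.lf 0)))) (.lf 0))) (.nd (.nd (.nd (.lf 0) (.nd (.nd (.lf 0) (.lf 20)) (.lf 0))) (.nd (.nd (.nd (.lf 0) (.lf 2383)) (.nd (.lf 258) (.lf 0))) (.nd (.nd (.lf 0) (.lf 31)) (.lf 0)))) (.nd (.nd (.nd (.nd (.lf 0) (.lf 2190)) (.lf 0)) (.nd (.nd (.lf 0) (.lf 28)) (.lf 0))) (.nd (.nd (.lf 0) (.nd (.lf 6) (.lf 0))) (.nd (.nd (.lf 1) (.lf 39)) (.lf 0))))))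

/-- orbits in commutators -/
def sum8 : Trie := (.nd (.nd (.nd (.nd (.nd (.nd (.lf 0) (.lf 771)) (.lf 0)) (.nd (.nd (.lf 0) (.lf 29)) (.nd (.lf 17) (.lf 0)))) (.nd (.nd (.nd (.lf 0) (.lf 968)) (.lf 0)) (.nd (.nd (.lf 4) (.lf 30)) (.lf 0)))) (.nd (.nd (.nd (.nd (.lf 0) (.lf 14)) (.lf 0)) (.nd (.nd (.lf 0) (.lf 1617)) (.nd (.lf 18) (.lf 0)))) (.nd (.nd (.nd (.lf 1) (.lf 0)) (.lf 0)) (.nd (.nd (.lf 8) (.lf 0)) (.lf 0))))) (.nd (.nd (.nd (.lf 0) (.nd (.lf 0) (.nd (.lf 10) (.lf 0)))) (.nd (.nd (.lf 0) (.nd (.lf 5) (.lf 0))) (.nd (.nd (.lf 0) (.lf 2068)) (.lf 0)))) (.nd (.nd (.nd (.nd (.lf 0) (.lf 23)) (.lf 0)) (.nd (.nd (.lf 3) (.lf 0)) (.lf 0))) (.nd (.nd (.nd (.lf 0) (.lf 28)) (.nd (.lf 449) (.lf 0))) (.nd (.nd (.lf 0) (.lf 2588)) (.nd (.lf 20) (.lf 0)))))))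

/-- orbits in commutators -/
def sum9 : Trie := (.nd (.nd (.nd (.nd (.nd (.nd (.lf 0) (.lf 838)) (.lf 0)) (.nd (.nd (.lf 0) (.lf 31)) (.nd (.lf 18) (.lf 0)))) (.nd (.nd (.nd (.lf 1) (.lf 0)) (.nd (.lf 321) (.lf 0))) (.nd (.nd (.lf 6) (.lf 32)) (.lf 0)))) (.nd (.nd (.nd (.nd (.lf 0) (.lf 15)) (.lf 0)) (.nd (.nd (.lf 0) (.lf 1747)) (.nd (.lf 19) (.lf 0)))) (.nd (.nd (.lf 0) (.nd (.lf 9) (.lf 0))) (.lf 0)))) (.nd (.nd (.nd (.nd (.nd (.lf 0) (.lf 904)) (.lf 0)) (.lf 0)) (.nd (.nd (.nd (.lf 0) (.lf 26)) (.nd (.lf 7) (.lf 0))) (.nd (.nd (.lf 8) (.lf 0)) (.nd (.lf 20) (.lf 0))))) (.nd (.nd (.lf 0) (.nd (.nd (.lf 4) (.lf 1940)) (.lf 0))) (.nd (.nd (.nd (.lf 0) (.lf 29)) (.lf 0)) (.nd (.nd (.lf 0) (.lf 2655)) (.lf 0))))))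

/-- orbits in commutators -/
def sum10 : Trie := (.nd (.nd (.nd (.nd (.nd (.lf 0) (.nd (.lf 3) (.lf 0))) (.nd (.lf 0) (.nd (.lf 1356) (.lf 0)))) (.nd (.lf 0) (.nd (.nd (.lf 0) (.lf 3107)) (.lf 0)))) (.nd (.nd (.nd (.lf 0) (.nd (.lf 6) (.lf 0))) (.nd (.nd (.lf 0) (.lf 33)) (.nd (.lf 1549) (.lf 0)))) (.nd (.lf 0) (.nd (.nd (.lf 0) (.lf 39)) (.lf 0))))) (.nd (.nd (.nd (.nd (.lf 0) (.nd (.lf 257) (.lf 0))) (.lf 0)) (.nd (.lf 0) (.nd (.nd (.lf 0) (.lf 37)) (.nd (.lf 1806) (.lf 0))))) (.nd (.nd (.nd (.lf 0) (.nd (.lf 8) (.lf 0))) (.nd (.nd (.lf 0) (.lf 34)) (.lf 0))) (.nd (.lf 0) (.nd (.nd (.lf 2) (.lf 0)) (.nd (.lf 1999) (.lf 0)))))))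

/-- orbits in commutators -/
def sum11 : Trie := (.nd (.nd (.nd (.nd (.lf 0) (.nd (.nd (.lf 3) (.lf 35)) (.nd (.lf 21) (.lf 0)))) (.nd (.lf 0) (.nd (.nd (.lf 0) (.lf 36)) (.nd (.lf 14) (.lf 0))))) (.nd (.nd (.nd (.lf 0) (.nd (.lf 450) (.lf 0))) (.nd (.lf 0) (.nd (.lf 22) (.lf 0)))) (.nd (.nd (.nd (.lf 2) (.lf 0)) (.lf 0)) (.nd (.nd (.lf 11) (.lf 2594)) (.nd (.lf 971) (.lf 0)))))) (.nd (.nd (.nd (.nd (.lf 0) (.nd (.lf 5) (.lf 0))) (.nd (.nd (.lf 4) (.lf 1621)) (.nd (.lf 13) (.lf 0)))) (.nd (.nd (.nd (.lf 0) (.lf 33)) (.lf 0)) (.nd (.nd (.lf 0) (.lf 2465)) (.nd (.lf 23) (.lf 0))))) (.nd (.nd (.nd (.lf 0) (.nd (.lf 579) (.lf 0))) (.lf 0)) (.nd (.nd (.nd (.lf 0) (.lf 34)) (.lf 0)) (.lf 0)))))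

/-- orbits in commutators -/
def sum12 : Trie := (.nd (.nd (.nd (.nd (.nd (.lf 0) (.nd (.lf 322) (.lf 0))) (.nd (.nd (.lf 4) (.lf 37)) (.nd (.lf 22) (.lf 0)))) (.nd (.nd (.nd (.lf 2) (.lf 0)) (.lf 0)) (.nd (.nd (.lf 0) (.lf 38)) (.nd (.lf 15) (.lf 0))))) (.nd (.nd (.lf 0) (.nd (.lf 0) (.nd (.lf 24) (.lf 0)))) (.nd (.nd (.lf 0) (.nd (.lf 12) (.lf 0))) (.nd (.nd (.lf 0) (.lf 2661)) (.lf 0))))) (.nd (.nd (.nd (.nd (.lf 0) (.nd (.lf 7) (.lf 0))) (.nd (.nd (.lf 6) (.lf 1752)) (.lf 0))) (.nd (.lf 0) (.nd (.nd (.lf 11) (.lf 0)) (.lf 0)))) (.nd (.nd (.nd (.nd (.lf 0) (.lf 33)) (.nd (.lf 646) (.lf 0))) (.nd (.nd (.lf 0) (.lf 2337)) (.nd (.lf 907) (.lf 0)))) (.nd (.nd (.nd (.lf 0) (.lf 35)) (.lf 0)) (.nd (.lf 0) (.nd (.lf 26) (.lf 0)))))))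

/-- orbits in commutators -/
def sum13 : Trie := (.nd (.nd (.nd (.nd (.lf 0) (.nd (.nd (.lf 0) (.lf 39)) (.nd (.lf 23) (.lf 0)))) (.nd (.nd (.nd (.lf 3) (.lf 0)) (.lf 0)) (.nd (.nd (.lf 11) (.lf 40)) (.lf 0)))) (.nd (.nd (.nd (.lf 0) (.nd (.lf 648) (.lf 0))) (.nd (.nd (.lf 0) (.lf 2338)) (.lf 0))) (.nd (.nd (.nd (.lf 4) (.lf 0)) (.lf 0)) (.lf 0)))) (.nd (.nd (.nd (.nd (.lf 0) (.nd (.lf 9) (.lf 0))) (.nd (.nd (.lf 8) (.lf 1948)) (.nd (.lf 15) (.lf 0)))) (.nd (.nd (.nd (.lf 0) (.lf 35)) (.nd (.lf 12) (.lf 0))) (.nd (.nd (.lf 0) (.lf 2663)) (.nd (.lf 28) (.lf 0))))) (.nd (.nd (.nd (.nd (.lf 0) (.lf 34)) (.lf 0)) (.lf 0)) (.nd (.nd (.lf 0) (.nd (.lf 843) (.lf 0))) (.nd (.nd (.lf 323) (.lf 0)) (.nd (.lf 29) (.lf 0)))))))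

/-- orbits in commutators -/
def sum14 : Trie := (.nd (.nd (.nd (.nd (.nd (.lf 0) (.nd (.lf 584) (.lf 0))) (.nd (.nd (.lf 8) (.lf 0)) (.lf 0))) (.nd (.nd (.nd (.lf 4) (.lf 0)) (.nd (.lf 779) (.lf 0))) (.nd (.nd (.lf 0) (.lf 41)) (.lf 0)))) (.nd (.nd (.lf 0) (.nd (.nd (.lf 0) (.lf 2469)) (.nd (.lf 26) (.lf 0)))) (.nd (.nd (.nd (.lf 6) (.lf 0)) (.nd (.lf 14) (.lf 0))) (.lf 0)))) (.nd (.nd (.nd (.nd (.lf 0) (.nd (.lf 10) (.lf 0))) (.nd (.nd (.lf 0) (.lf 2079)) (.lf 0))) (.nd (.nd (.nd (.lf 0) (.lf 37)) (.nd (.lf 13) (.lf 0))) (.nd (.lf 0) (.nd (.lf 29) (.lf 0))))) (.nd (.nd (.nd (.nd (.lf 0) (.lf 35)) (.lf 0)) (.nd (.nd (.lf 11) (.lf 2599)) (.lf 0))) (.nd (.nd (.nd (.lf 0) (.lf 39)) (.lf 0)) (.nd (.nd (.lf 454) (.lf 0)) (.nd (.lf 31) (.lf 0)))))))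

/-- orbits in commutators -/
def sum15 : Trie := (.nd (.nd (.nd (.nd (.lf 0) (.nd (.nd (.lf 0) (.lf 2971)) (.lf 0))) (.nd (.nd (.nd (.lf 0) (.lf 24)) (.lf 0)) (.nd (.lf 0) (.nd (.lf 1298) (.lf 0))))) (.nd (.nd (.nd (.nd (.lf 0) (.lf 2134)) (.lf 0)) (.nd (.nd (.lf 2) (.lf 0)) (.lf 0))) (.nd (.lf 0) (.nd (.nd (.lf 454) (.lf 42)) (.nd (.lf 19) (.lf 0)))))) (.nd (.nd (.nd (.nd (.nd (.lf 0) (.lf 21)) (.lf 0)) (.lf 0)) (.nd (.lf 0) (.nd (.nd (.lf 323) (.lf 0)) (.lf 0)))) (.nd (.nd (.lf 0) (.nd (.lf 0) (.nd (.lf 17) (.lf 0)))) (.nd (.nd (.nd (.lf 1) (.lf 2841)) (.lf 0)) (.nd (.nd (.lf 0) (.lf 43)) (.lf 0))))))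

/-- orbits in commutators -/
def sum16 : Trie := (.nd (.nd (.nd (.nd (.nd (.nd (.lf 0) (.lf 21)) (.lf 0)) (.nd (.nd (.lf 0) (.lf 3038)) (.lf 0))) (.nd (.lf 0) (.nd (.nd (.lf 322) (.lf 0)) (.lf 0)))) (.nd (.nd (.nd (.nd (.lf 0) (.lf 2199)) (.lf 0)) (.nd (.nd (.lf 3) (.lf 0)) (.lf 0))) (.nd (.nd (.nd (.lf 0) (.lf 28)) (.lf 0)) (.nd (.nd (.lf 584) (.lf 0)) (.nd (.lf 20) (.lf 0)))))) (.nd (.nd (.nd (.lf 0) (.nd (.lf 0) (.nd (.lf 1234) (.lf 0)))) (.nd (.nd (.nd (.lf 1) (.lf 2777)) (.lf 0)) (.nd (.nd (.lf 0) (.lf 42)) (.lf 0)))) (.nd (.lf 0) (.nd (.nd (.lf 0) (.nd (.lf 16) (.lf 0))) (.nd (.nd (.lf 0) (.lf 44)) (.lf 0))))))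

/-- orbits in commutators -/
def sum17 : Trie := (.nd (.nd (.nd (.nd (.nd (.nd (.lf 0) (.lf 1424)) (.lf 0)) (.nd (.nd (.lf 0) (.lf 32)) (.lf 0))) (.nd (.nd (.nd (.lf 0) (.lf 1683)) (.lf 0)) (.nd (.nd (.lf 7) (.lf 42)) (.nd (.lf 20) (.lf 0))))) (.nd (.nd (.lf 0) (.nd (.nd (.lf 257) (.lf 0)) (.lf 0))) (.nd (.nd (.nd (.lf 0) (.lf 1876)) (.nd (.lf 17) (.lf 0))) (.nd (.nd (.lf 10) (.lf 0)) (.lf 0))))) (.nd (.nd (.nd (.nd (.nd (.lf 0) (.lf 1489)) (.lf 0)) (.nd (.lf 0) (.nd (.lf 19) (.lf 0)))) (.nd (.nd (.nd (.lf 0) (.lf 27)) (.nd (.lf 16) (.lf 0))) (.nd (.nd (.lf 9) (.lf 0)) (.lf 0)))) (.nd (.nd (.nd (.nd (.lf 1) (.lf 25)) (.lf 0)) (.nd (.nd (.lf 5) (.lf 0)) (.lf 0))) (.nd (.nd (.nd (.lf 0) (.lf 30)) (.lf 0)) (.nd (.nd (.lf 0) (.lf 2922)) (.lf 0))))))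

/-- orbits in commutators -/
def sum18 : Trie := (.nd (.nd (.nd (.nd (.nd (.nd (.lf 0) (.lf 24)) (.lf 0)) (.lf 0)) (.nd (.nd (.lf 0) (.nd (.lf 16) (.lf 0))) (.lf 0))) (.nd (.nd (.nd (.nd (.lf 1) (.lf 2394)) (.lf 0)) (.nd (.nd (.lf 6) (.lf 0)) (.lf 0))) (.nd (.nd (.nd (.lf 0) (.lf 31)) (.nd (.lf 1169) (.lf 0))) (.lf 0)))) (.nd (.nd (.lf 0) (.nd (.lf 0) (.nd (.nd (.lf 648) (.lf 0)) (.lf 0)))) (.nd (.nd (.nd (.nd (.lf 0) (.lf 2779)) (.lf 0)) (.nd (.nd (.lf 450) (.lf 42)) (.nd (.lf 20) (.lf 0)))) (.nd (.nd (.nd (.lf 0) (.lf 3040)) (.lf 0)) (.nd (.nd (.lf 0) (.lf 46)) (.lf 0))))))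

/-- orbits in commutators -/
def sum19 : Trie := (.nd (.nd (.nd (.lf 0) (.nd (.nd (.nd (.lf 0) (.lf 31)) (.nd (.lf 17) (.lf 0))) (.nd (.nd (.lf 646) (.lf 0)) (.lf 0)))) (.nd (.nd (.nd (.nd (.lf 0) (.lf 2525)) (.lf 0)) (.nd (.nd (.lf 8) (.lf 42)) (.lf 0))) (.lf 0))) (.nd (.nd (.nd (.nd (.nd (.lf 1) (.lf 28)) (.lf 0)) (.lf 0)) (.nd (.nd (.nd (.lf 0) (.lf 2976)) (.nd (.lf 1168) (.lf 0))) (.lf 0))) (.nd (.nd (.nd (.nd (.lf 0) (.lf 2846)) (.lf 0)) (.nd (.nd (.lf 579) (.lf 0)) (.lf 0))) (.nd (.nd (.lf 0) (.nd (.lf 19) (.lf 0))) (.nd (.nd (.lf 0) (.lf 47)) (.lf 0))))))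

/-- orbits in commutators -/
def sum20 : Trie := (.nd (.nd (.nd (.nd (.lf 0) (.nd (.nd (.lf 0) (.lf 3108)) (.lf 0))) (.nd (.nd (.nd (.lf 0) (.lf 33)) (.lf 0)) (.nd (.lf 0) (.nd (.lf 1815) (.lf 0))))) (.nd (.nd (.nd (.lf 0) (.nd (.lf 16) (.lf 0))) (.lf 0)) (.nd (.nd (.nd (.lf 0) (.lf 34)) (.lf 0)) (.nd (.nd (.lf 779) (.lf 44)) (.lf 0))))) (.nd (.nd (.nd (.lf 0) (.nd (.nd (.lf 321) (.lf 0)) (.nd (.lf 1558) (.lf 0)))) (.nd (.nd (.nd (.lf 2) (.lf 0)) (.lf 0)) (.nd (.nd (.lf 0) (.lf 43)) (.lf 0)))) (.nd (.nd (.nd (.lf 0) (.nd (.lf 17) (.lf 0))) (.lf 0)) (.nd (.nd (.nd (.lf 3) (.lf 0)) (.lf 0)) (.nd (.lf 0) (.nd (.lf 2713) (.lf 0)))))))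

/-- orbits in commutators -/
def sum21 : Trie := (.nd (.nd (.nd (.nd (.lf 0) (.nd (.nd (.lf 5) (.lf 38)) (.lf 0))) (.nd (.lf 0) (.nd (.nd (.lf 0) (.lf 43)) (.lf 0)))) (.nd (.nd (.nd (.nd (.lf 0) (.lf 33)) (.lf 0)) (.lf 0)) (.nd (.nd (.nd (.lf 0) (.lf 2273)) (.nd (.lf 21) (.lf 0))) (.nd (.nd (.lf 13) (.lf 2923)) (.nd (.lf 1688) (.lf 0)))))) (.nd (.nd (.nd (.nd (.lf 0) (.nd (.lf 16) (.lf 0))) (.nd (.nd (.lf 7) (.lf 0)) (.nd (.lf 24) (.lf 0)))) (.nd (.lf 0) (.nd (.nd (.lf 12) (.lf 0)) (.nd (.lf 25) (.lf 0))))) (.nd (.nd (.nd (.nd (.lf 2) (.lf 0)) (.nd (.lf 1168) (.lf 0))) (.nd (.lf 0) (.nd (.lf 1493) (.lf 0)))) (.nd (.nd (.nd (.lf 258) (.lf 36)) (.lf 0)) (.nd (.lf 0) (.nd (.lf 27) (.lf 0)))))))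

/-- orbits in commutators -/
def sum22 : Trie := (.nd (.nd (.nd (.nd (.lf 0) (.nd (.nd (.lf 0) (.lf 40)) (.lf 0))) (.nd (.nd (.nd (.lf 0) (.lf 2274)) (.lf 0)) (.nd (.nd (.lf 12) (.lf 44)) (.nd (.lf 28) (.lf 0))))) (.nd (.nd (.nd (.nd (.lf 0) (.lf 34)) (.nd (.lf 1169) (.lf 0))) (.nd (.lf 0) (.nd (.lf 25) (.lf 0)))) (.nd (.nd (.nd (.lf 5) (.lf 0)) (.lf 0)) (.nd (.nd (.lf 14) (.lf 0)) (.nd (.lf 1884) (.lf 0)))))) (.nd (.nd (.nd (.nd (.lf 0) (.nd (.lf 17) (.lf 0))) (.nd (.nd (.lf 9) (.lf 0)) (.lf 0))) (.nd (.nd (.nd (.lf 259) (.lf 36)) (.nd (.lf 21) (.lf 0))) (.nd (.nd (.lf 0) (.lf 2924)) (.lf 0)))) (.nd (.nd (.nd (.nd (.lf 3) (.lf 0)) (.lf 0)) (.lf 0)) (.nd (.nd (.lf 0) (.nd (.lf 1429) (.lf 0))) (.nd (.lf 0) (.nd (.lf 30) (.lf 0)))))))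

/-- orbits in commutators -/
def sum23 : Trie := (.nd (.nd (.nd (.nd (.nd (.lf 0) (.nd (.lf 16) (.lf 0))) (.nd (.nd (.lf 449) (.lf 0)) (.lf 0))) (.nd (.lf 0) (.nd (.lf 0) (.nd (.lf 2010) (.lf 0))))) (.nd (.nd (.nd (.nd (.lf 2) (.lf 0)) (.lf 0)) (.lf 0)) (.nd (.nd (.nd (.lf 0) (.lf 37)) (.nd (.lf 1429) (.lf 0))) (.nd (.nd (.lf 0) (.lf 46)) (.lf 0))))) (.nd (.nd (.nd (.nd (.nd (.lf 0) (.lf 33)) (.lf 0)) (.lf 0)) (.nd (.lf 0) (.nd (.nd (.lf 843) (.lf 0)) (.nd (.lf 2715) (.lf 0))))) (.nd (.nd (.nd (.lf 0) (.nd (.lf 19) (.lf 0))) (.nd (.nd (.lf 0) (.lf 43)) (.lf 0))) (.nd (.nd (.nd (.lf 6) (.lf 3110)) (.lf 0)) (.lf 0)))))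

/-- orbits in commutators -/
def sum24 : Trie := (.nd (.nd (.nd (.nd (.lf 0) (.nd (.nd (.lf 17) (.lf 45)) (.lf 0))) (.nd (.nd (.nd (.lf 0) (.lf 2790)) (.lf 0)) (.nd (.nd (.lf 22) (.lf 0)) (.nd (.lf 30) (.lf 0))))) (.nd (.nd (.nd (.nd (.lf 0) (.lf 36)) (.lf 0)) (.nd (.nd (.lf 1356) (.lf 0)) (.lf 0))) (.nd (.nd (.nd (.lf 16) (.lf 2856)) (.lf 0)) (.nd (.lf 0) (.nd (.lf 2720) (.lf 0)))))) (.nd (.nd (.nd (.lf 0) (.nd (.nd (.lf 18) (.lf 0)) (.nd (.lf 27) (.lf 0)))) (.nd (.nd (.nd (.lf 1031) (.lf 43)) (.lf 0)) (.nd (.nd (.lf 23) (.lf 0)) (.lf 0)))) (.nd (.nd (.nd (.nd (.lf 5) (.lf 0)) (.lf 0)) (.nd (.nd (.lf 21) (.lf 0)) (.lf 0))) (.nd (.nd (.nd (.lf 1097) (.lf 44)) (.lf 0)) (.nd (.lf 0) (.nd (.lf 42) (.lf 0)))))))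

/-- orbits in commutators -/
def sum25 : Trie := (.nd (.nd (.nd (.nd (.nd (.lf 0) (.nd (.lf 1234) (.lf 0))) (.nd (.nd (.lf 10) (.lf 0)) (.nd (.lf 27) (.lf 0)))) (.nd (.nd (.nd (.lf 7) (.lf 0)) (.nd (.lf 1558) (.lf 0))) (.nd (.nd (.lf 0) (.lf 46)) (.nd (.lf 31) (.lf 0))))) (.nd (.nd (.nd (.nd (.lf 388) (.lf 37)) (.lf 0)) (.lf 0)) (.lf 0))) (.nd (.nd (.nd (.nd (.nd (.lf 0) (.lf 2403)) (.nd (.lf 19) (.lf 0))) (.lf 0)) (.nd (.nd (.lf 0) (.nd (.lf 24) (.lf 0))) (.nd (.nd (.lf 15) (.lf 0)) (.nd (.lf 32) (.lf 0))))) (.nd (.nd (.nd (.nd (.lf 6) (.lf 38)) (.lf 0)) (.nd (.nd (.lf 13) (.lf 2989)) (.nd (.lf 2013) (.lf 0)))) (.nd (.nd (.nd (.lf 0) (.lf 41)) (.lf 0)) (.lf 0)))))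

/-- orbits in commutators -/
def sum26 : Trie := (.nd (.nd (.nd (.nd (.lf 0) (.nd (.nd (.lf 18) (.lf 46)) (.lf 0))) (.nd (.nd (.nd (.lf 16) (.lf 0)) (.lf 0)) (.nd (.nd (.lf 24) (.lf 0)) (.nd (.lf 32) (.lf 0))))) (.nd (.nd (.nd (.nd (.lf 1029) (.lf 38)) (.lf 0)) (.nd (.nd (.lf 1549) (.lf 0)) (.lf 0))) (.nd (.nd (.nd (.lf 0) (.lf 2985)) (.nd (.lf 25) (.lf 0))) (.nd (.nd (.lf 26) (.lf 0)) (.lf 0))))) (.nd (.nd (.nd (.nd (.nd (.lf 0) (.lf 2788)) (.lf 0)) (.nd (.nd (.lf 19) (.lf 0)) (.lf 0))) (.nd (.lf 0) (.nd (.lf 0) (.nd (.lf 42) (.lf 0))))) (.nd (.nd (.nd (.nd (.lf 7) (.lf 43)) (.lf 0)) (.nd (.nd (.lf 22) (.lf 0)) (.nd (.lf 2718) (.lf 0)))) (.nd (.nd (.nd (.lf 1226) (.lf 45)) (.lf 0)) (.lf 0)))))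

/-- orbits in commutators -/
def sum27 : Trie := (.nd (.nd (.nd (.nd (.nd (.nd (.lf 0) (.lf 34)) (.lf 0)) (.lf 0)) (.nd (.nd (.nd (.lf 0) (.lf 39)) (.lf 0)) (.nd (.nd (.lf 907) (.lf 0)) (.lf 0)))) (.nd (.nd (.nd (.lf 0) (.nd (.lf 20) (.lf 0))) (.nd (.nd (.lf 0) (.lf 44)) (.nd (.lf 2718) (.lf 0)))) (.nd (.nd (.nd (.lf 577) (.lf 0)) (.lf 0)) (.lf 0)))) (.nd (.nd (.nd (.nd (.nd (.lf 3) (.lf 0)) (.lf 0)) (.nd (.lf 0) (.nd (.lf 2013) (.lf 0)))) (.nd (.nd (.nd (.lf 8) (.lf 3112)) (.nd (.lf 1493) (.lf 0))) (.nd (.nd (.lf 0) (.lf 47)) (.lf 0)))) (.nd (.lf 0) (.nd (.lf 0) (.nd (.nd (.lf 17) (.lf 0)) (.lf 0))))))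

/-- orbits in commutators -/
def sum28 : Trie := (.nd (.nd (.nd (.nd (.nd (.nd (.lf 0) (.lf 2531)) (.lf 0)) (.nd (.lf 0) (.nd (.lf 30) (.lf 0)))) (.nd (.nd (.nd (.lf 9) (.lf 0)) (.nd (.lf 1815) (.lf 0))) (.nd (.nd (.lf 15) (.lf 47)) (.lf 0)))) (.nd (.nd (.nd (.nd (.lf 0) (.lf 39)) (.lf 0)) (.nd (.nd (.lf 0) (.lf 3053)) (.nd (.lf 32) (.lf 0)))) (.nd (.nd (.nd (.lf 10) (.lf 0)) (.nd (.lf 28) (.lf 0))) (.lf 0)))) (.nd (.nd (.nd (.nd (.nd (.lf 516) (.lf 0)) (.nd (.lf 20) (.lf 0))) (.nd (.lf 0) (.nd (.lf 31) (.lf 0)))) (.nd (.nd (.nd (.lf 0) (.lf 41)) (.lf 0)) (.lf 0))) (.nd (.nd (.nd (.nd (.lf 8) (.lf 40)) (.lf 0)) (.nd (.nd (.lf 14) (.lf 0)) (.lf 0))) (.nd (.nd (.lf 0) (.nd (.lf 2010) (.lf 0))) (.nd (.nd (.lf 1298) (.lf 0)) (.lf 0))))))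

/-- orbits in commutators -/
def sum29 : Trie := (.nd (.nd (.nd (.nd (.nd (.nd (.lf 0) (.lf 2852)) (.lf 0)) (.nd (.nd (.lf 0) (.lf 47)) (.lf 0))) (.nd (.nd (.nd (.lf 17) (.lf 3049)) (.lf 0)) (.lf 0))) (.nd (.nd (.nd (.nd (.lf 0) (.lf 40)) (.lf 0)) (.nd (.nd (.lf 1806) (.lf 0)) (.nd (.lf 42) (.lf 0)))) (.nd (.nd (.nd (.lf 18) (.lf 0)) (.lf 0)) (.nd (.nd (.lf 29) (.lf 0)) (.lf 0))))) (.nd (.nd (.nd (.nd (.nd (.lf 1093) (.lf 0)) (.lf 0)) (.nd (.nd (.lf 20) (.lf 0)) (.nd (.lf 32) (.lf 0)))) (.nd (.nd (.nd (.lf 1290) (.lf 45)) (.nd (.lf 25) (.lf 0))) (.nd (.nd (.lf 28) (.lf 0)) (.lf 0)))) (.nd (.nd (.nd (.nd (.lf 9) (.lf 44)) (.lf 0)) (.nd (.nd (.lf 23) (.lf 0)) (.lf 0))) (.nd (.nd (.lf 0) (.nd (.lf 2715) (.lf 0))) (.lf 0)))))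

/-- orbits in commutators -/
def sum30 : Trie := (.nd (.nd (.nd (.nd (.nd (.nd (.lf 0) (.lf 37)) (.nd (.lf 20) (.lf 0))) (.nd (.lf 0) (.nd (.lf 2720) (.lf 0)))) (.nd (.nd (.nd (.lf 641) (.lf 0)) (.lf 0)) (.lf 0))) (.nd (.nd (.nd (.nd (.lf 8) (.lf 0)) (.lf 0)) (.nd (.nd (.lf 0) (.lf 46)) (.lf 0))) (.nd (.nd (.lf 0) (.nd (.lf 1884) (.lf 0))) (.lf 0)))) (.nd (.nd (.nd (.nd (.nd (.lf 6) (.lf 39)) (.lf 0)) (.lf 0)) (.nd (.nd (.lf 0) (.nd (.lf 1688) (.lf 0))) (.lf 0))) (.nd (.nd (.nd (.nd (.lf 0) (.lf 3113)) (.lf 0)) (.nd (.nd (.lf 971) (.lf 47)) (.lf 0))) (.nd (.lf 0) (.nd (.nd (.lf 19) (.lf 0)) (.lf 0))))))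

/-- orbits in commutators -/
def sum31 : Trie := (.nd (.nd (.nd (.nd (.nd (.nd (.lf 0) (.lf 2982)) (.lf 0)) (.nd (.nd (.lf 20) (.lf 0)) (.nd (.lf 42) (.lf 0)))) (.nd (.nd (.nd (.lf 18) (.lf 0)) (.nd (.lf 2713) (.lf 0))) (.nd (.nd (.lf 26) (.lf 0)) (.lf 0)))) (.nd (.nd (.nd (.nd (.lf 1289) (.lf 41)) (.lf 0)) (.nd (.nd (.lf 1999) (.lf 0)) (.lf 0))) (.nd (.nd (.nd (.lf 19) (.lf 0)) (.nd (.lf 30) (.lf 0))) (.nd (.nd (.lf 31) (.lf 0)) (.lf 0))))) (.nd (.nd (.nd (.nd (.nd (.lf 1223) (.lf 3048)) (.lf 0)) (.lf 0)) (.nd (.nd (.nd (.lf 0) (.lf 46)) (.nd (.lf 27) (.lf 0))) (.nd (.nd (.lf 29) (.lf 0)) (.lf 0)))) (.nd (.nd (.nd (.nd (.lf 10) (.lf 45)) (.lf 0)) (.lf 0)) (.nd (.nd (.nd (.lf 0) (.lf 47)) (.lf 0)) (.lf 0)))))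

/-- orbits in commutators -/
def sum32 : Trie := (.nd (.nd (.nd (.nd (.nd (.nd (.lf 2) (.lf 0)) (.nd (.lf 21) (.lf 0))) (.nd (.nd (.lf 771) (.lf 0)) (.lf 0))) (.nd (.lf 0) (.nd (.lf 0) (.nd (.lf 2531) (.lf 0))))) (.nd (.nd (.nd (.lf 0) (.nd (.lf 24) (.lf 0))) (.lf 0)) (.nd (.lf 0) (.nd (.nd (.lf 0) (.lf 48)) (.nd (.lf 37) (.lf 0)))))) (.nd (.nd (.nd (.nd (.lf 0) (.nd (.lf 1424) (.lf 0))) (.nd (.nd (.lf 838) (.lf 43)) (.lf 0))) (.nd (.lf 0) (.nd (.lf 0) (.nd (.lf 2852) (.lf 0))))) (.nd (.nd (.lf 0) (.nd (.lf 0) (.nd (.lf 34) (.lf 0)))) (.nd (.nd (.nd (.lf 11) (.lf 0)) (.lf 0)) (.nd (.lf 0) (.nd (.lf 2982) (.lf 0)))))))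

/-- orbits in commutators -/
def sum33 : Trie := (.nd (.nd (.nd (.nd (.nd (.nd (.lf 3) (.lf 0)) (.lf 0)) (.lf 0)) (.lf 0)) (.nd (.nd (.lf 0) (.nd (.lf 0) (.nd (.lf 2788) (.lf 0)))) (.nd (.nd (.nd (.lf 770) (.lf 0)) (.lf 0)) (.nd (.lf 0) (.nd (.lf 39) (.lf 0)))))) (.nd (.nd (.nd (.nd (.lf 0) (.nd (.lf 1489) (.lf 0))) (.nd (.nd (.lf 904) (.lf 44)) (.nd (.lf 2403) (.lf 0)))) (.nd (.nd (.nd (.lf 11) (.lf 0)) (.lf 0)) (.nd (.nd (.lf 0) (.lf 48)) (.lf 0)))) (.nd (.nd (.nd (.lf 0) (.nd (.lf 28) (.lf 0))) (.lf 0)) (.nd (.nd (.lf 0) (.nd (.lf 33) (.lf 0))) (.nd (.nd (.lf 21) (.lf 0)) (.nd (.lf 3048) (.lf 0)))))))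

/-- orbits in commutators -/
def sum34 : Trie := (.nd (.nd (.nd (.nd (.nd (.nd (.lf 708) (.lf 0)) (.nd (.lf 2199) (.lf 0))) (.nd (.nd (.lf 14) (.lf 0)) (.nd (.lf 36) (.lf 0)))) (.nd (.nd (.nd (.lf 12) (.lf 0)) (.lf 0)) (.nd (.nd (.lf 0) (.lf 48)) (.nd (.lf 39) (.lf 0))))) (.nd (.nd (.nd (.lf 0) (.nd (.lf 2394) (.lf 0))) (.nd (.lf 0) (.nd (.lf 38) (.lf 0)))) (.nd (.nd (.nd (.lf 13) (.lf 0)) (.nd (.lf 34) (.lf 0))) (.lf 0)))) (.nd (.nd (.nd (.lf 0) (.nd (.nd (.lf 15) (.lf 3117)) (.nd (.lf 37) (.lf 0)))) (.nd (.nd (.lf 0) (.nd (.lf 33) (.lf 0))) (.nd (.lf 0) (.nd (.lf 40) (.lf 0))))) (.nd (.nd (.nd (.nd (.lf 11) (.lf 0)) (.nd (.lf 2525) (.lf 0))) (.lf 0)) (.nd (.lf 0) (.nd (.nd (.lf 2134) (.lf 0)) (.nd (.lf 41) (.lf 0)))))))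

/-- orbits in commutators -/
def sum35 : Trie := (.nd (.nd (.nd (.nd (.nd (.nd (.lf 1349) (.lf 0)) (.lf 0)) (.nd (.nd (.lf 23) (.lf 48)) (.lf 0))) (.nd (.nd (.nd (.lf 21) (.lf 0)) (.lf 0)) (.nd (.nd (.lf 33) (.lf 0)) (.nd (.lf 40) (.lf 0))))) (.nd (.nd (.nd (.lf 0) (.nd (.lf 2779) (.lf 0))) (.nd (.lf 0) (.nd (.lf 43) (.lf 0)))) (.nd (.nd (.nd (.lf 22) (.lf 0)) (.lf 0)) (.nd (.nd (.lf 35) (.lf 0)) (.nd (.lf 3113) (.lf 0)))))) (.nd (.nd (.nd (.nd (.lf 0) (.nd (.lf 25) (.lf 0))) (.nd (.lf 0) (.nd (.lf 38) (.lf 0)))) (.nd (.nd (.nd (.lf 2125) (.lf 0)) (.lf 0)) (.nd (.nd (.lf 34) (.lf 0)) (.nd (.lf 44) (.lf 0))))) (.nd (.nd (.nd (.nd (.lf 12) (.lf 0)) (.nd (.lf 2846) (.lf 0))) (.lf 0)) (.nd (.nd (.nd (.lf 2190) (.lf 0)) (.lf 0)) (.nd (.lf 0) (.nd (.lf 45) (.lf 0)))))))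

/-- orbits in commutators -/
def sum36 : Trie := (.nd (.nd (.nd (.nd (.nd (.nd (.lf 6) (.lf 0)) (.lf 0)) (.nd (.nd (.lf 968) (.lf 0)) (.nd (.lf 2790) (.lf 0)))) (.nd (.nd (.nd (.lf 834) (.lf 0)) (.nd (.lf 33) (.lf 0))) (.lf 0))) (.nd (.nd (.nd (.nd (.lf 11) (.lf 0)) (.lf 0)) (.lf 0)) (.nd (.nd (.lf 0) (.nd (.lf 2274) (.lf 0))) (.lf 0)))) (.nd (.nd (.nd (.nd (.lf 0) (.nd (.lf 1683) (.lf 0))) (.nd (.nd (.lf 0) (.lf 46)) (.lf 0))) (.nd (.lf 0) (.nd (.lf 0) (.nd (.lf 3049) (.lf 0))))) (.nd (.nd (.nd (.lf 0) (.nd (.lf 31) (.lf 0))) (.nd (.nd (.lf 0) (.lf 48)) (.nd (.lf 39) (.lf 0)))) (.nd (.lf 0) (.nd (.nd (.lf 24) (.lf 0)) (.lf 0))))))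

/-- orbits in commutators -/
def sum37 : Trie := (.nd (.nd (.nd (.nd (.nd (.nd (.lf 1543) (.lf 0)) (.nd (.lf 2777) (.lf 0))) (.nd (.lf 0) (.nd (.lf 43) (.lf 0)))) (.nd (.nd (.nd (.lf 22) (.lf 0)) (.lf 0)) (.nd (.lf 0) (.nd (.lf 41) (.lf 0))))) (.nd (.nd (.nd (.nd (.lf 2124) (.lf 0)) (.lf 0)) (.lf 0)) (.nd (.nd (.nd (.lf 24) (.lf 0)) (.nd (.lf 36) (.lf 0))) (.nd (.nd (.lf 37) (.lf 0)) (.lf 0))))) (.nd (.nd (.nd (.nd (.lf 0) (.nd (.lf 27) (.lf 0))) (.nd (.nd (.lf 26) (.lf 0)) (.lf 0))) (.nd (.lf 0) (.nd (.nd (.lf 35) (.lf 0)) (.nd (.lf 45) (.lf 0))))) (.nd (.nd (.nd (.nd (.lf 13) (.lf 0)) (.nd (.lf 2976) (.lf 0))) (.nd (.nd (.lf 33) (.lf 0)) (.nd (.lf 3112) (.lf 0)))) (.nd (.nd (.nd (.lf 2383) (.lf 48)) (.lf 0)) (.nd (.lf 0) (.nd (.lf 46) (.lf 0)))))))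

/-- orbits in commutators -/
def sum38 : Trie := (.nd (.nd (.nd (.nd (.nd (.nd (.lf 8) (.lf 0)) (.nd (.lf 28) (.lf 0))) (.nd (.lf 0) (.nd (.lf 2856) (.lf 0)))) (.nd (.nd (.nd (.lf 899) (.lf 0)) (.nd (.lf 34) (.lf 0))) (.lf 0))) (.nd (.nd (.nd (.lf 0) (.nd (.lf 31) (.lf 0))) (.nd (.nd (.lf 0) (.lf 48)) (.nd (.lf 2985) (.lf 0)))) (.nd (.nd (.nd (.lf 966) (.lf 0)) (.lf 0)) (.lf 0)))) (.nd (.nd (.nd (.nd (.nd (.lf 11) (.lf 0)) (.nd (.lf 1876) (.lf 0))) (.nd (.nd (.lf 0) (.lf 47)) (.lf 0))) (.nd (.nd (.lf 0) (.nd (.lf 2273) (.lf 0))) (.lf 0))) (.nd (.lf 0) (.nd (.nd (.lf 0) (.nd (.lf 37) (.lf 0))) (.lf 0)))))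

/-- orbits in commutators -/
def sum39 : Trie := (.nd (.nd (.nd (.nd (.nd (.nd (.lf 1801) (.lf 0)) (.lf 0)) (.nd (.nd (.lf 28) (.lf 0)) (.nd (.lf 44) (.lf 0)))) (.nd (.nd (.nd (.lf 23) (.lf 0)) (.lf 0)) (.nd (.nd (.lf 35) (.lf 0)) (.lf 0)))) (.nd (.nd (.nd (.lf 0) (.nd (.lf 3040) (.lf 0))) (.nd (.lf 0) (.nd (.lf 45) (.lf 0)))) (.nd (.lf 0) (.nd (.nd (.lf 39) (.lf 0)) (.lf 0))))) (.nd (.nd (.nd (.nd (.nd (.lf 2188) (.lf 0)) (.nd (.lf 30) (.lf 0))) (.nd (.nd (.lf 29) (.lf 0)) (.nd (.lf 41) (.lf 0)))) (.nd (.nd (.nd (.lf 2511) (.lf 48)) (.nd (.lf 36) (.lf 0))) (.lf 0))) (.nd (.nd (.nd (.nd (.lf 14) (.lf 0)) (.lf 0)) (.nd (.nd (.lf 34) (.lf 0)) (.lf 0))) (.nd (.nd (.lf 0) (.nd (.lf 3110) (.lf 0))) (.nd (.nd (.lf 2841) (.lf 0)) (.nd (.lf 47) (.lf 0)))))))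

/-- orbits in commutators -/
def sum40 : Trie := (.nd (.nd (.nd (.nd (.nd (.nd (.lf 1994) (.lf 0)) (.nd (.lf 3038) (.lf 0))) (.nd (.nd (.lf 29) (.lf 0)) (.nd (.lf 45) (.lf 0)))) (.nd (.nd (.lf 0) (.nd (.lf 3108) (.lf 0))) (.nd (.nd (.lf 37) (.lf 0)) (.lf 0)))) (.nd (.nd (.nd (.nd (.lf 2510) (.lf 0)) (.lf 0)) (.nd (.lf 0) (.nd (.lf 46) (.lf 0)))) (.nd (.nd (.nd (.lf 26) (.lf 0)) (.nd (.lf 40) (.lf 0))) (.lf 0)))) (.nd (.nd (.nd (.nd (.nd (.lf 2381) (.lf 0)) (.nd (.lf 32) (.lf 0))) (.nd (.nd (.lf 31) (.lf 0)) (.lf 0))) (.nd (.nd (.lf 0) (.nd (.lf 38) (.lf 0))) (.nd (.nd (.lf 39) (.lf 0)) (.nd (.lf 47) (.lf 0))))) (.nd (.nd (.nd (.nd (.lf 15) (.lf 48)) (.lf 0)) (.nd (.nd (.lf 35) (.lf 0)) (.lf 0))) (.nd (.lf 0) (.nd (.nd (.lf 2971) (.lf 0)) (.lf 0))))))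

/-- orbits in commutators -/
def sum41 : Trie := (.nd (.nd (.nd (.nd (.nd (.nd (.lf 0) (.lf 43)) (.lf 0)) (.lf 0)) (.nd (.nd (.nd (.lf 0) (.lf 46)) (.lf 0)) (.nd (.nd (.lf 1752) (.lf 0)) (.lf 0)))) (.nd (.nd (.nd (.nd (.lf 17) (.lf 3117)) (.lf 0)) (.lf 0)) (.nd (.nd (.nd (.lf 0) (.lf 47)) (.lf 0)) (.nd (.nd (.lf 2079) (.lf 0)) (.lf 0))))) (.nd (.nd (.nd (.nd (.nd (.lf 16) (.lf 44)) (.lf 0)) (.lf 0)) (.nd (.nd (.nd (.lf 19) (.lf 0)) (.lf 0)) (.nd (.nd (.lf 1948) (.lf 0)) (.lf 0)))) (.nd (.nd (.nd (.nd (.lf 1153) (.lf 0)) (.lf 0)) (.nd (.nd (.lf 1621) (.lf 0)) (.lf 0))) (.nd (.nd (.nd (.lf 20) (.lf 0)) (.lf 0)) (.lf 0)))))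

/-- orbits in commutators -/
def sum42 : Trie := (.nd (.nd (.nd (.nd (.nd (.nd (.lf 16) (.lf 0)) (.lf 0)) (.nd (.nd (.lf 1617) (.lf 0)) (.lf 0))) (.nd (.lf 0) (.nd (.lf 0) (.nd (.lf 3053) (.lf 0))))) (.nd (.nd (.nd (.nd (.lf 21) (.lf 0)) (.lf 0)) (.nd (.nd (.lf 33) (.lf 0)) (.lf 0))) (.nd (.nd (.nd (.lf 0) (.lf 48)) (.lf 0)) (.nd (.nd (.lf 2469) (.lf 0)) (.nd (.lf 46) (.lf 0)))))) (.nd (.nd (.nd (.lf 0) (.nd (.nd (.lf 1747) (.lf 0)) (.lf 0))) (.nd (.nd (.nd (.lf 24) (.lf 0)) (.lf 0)) (.nd (.nd (.lf 2338) (.lf 0)) (.lf 0)))) (.nd (.nd (.nd (.nd (.lf 1410) (.lf 0)) (.nd (.lf 42) (.lf 0))) (.nd (.lf 0) (.nd (.lf 44) (.lf 0)))) (.lf 0))))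

/-- orbits in commutators -/
def sum43 : Trie := (.nd (.nd (.nd (.nd (.nd (.nd (.lf 17) (.lf 0)) (.lf 0)) (.lf 0)) (.nd (.nd (.nd (.lf 0) (.lf 48)) (.lf 0)) (.nd (.nd (.lf 2337) (.lf 0)) (.lf 0)))) (.nd (.nd (.nd (.lf 0) (.nd (.lf 42) (.lf 0))) (.nd (.nd (.lf 34) (.lf 0)) (.lf 0))) (.nd (.nd (.nd (.lf 1616) (.lf 0)) (.lf 0)) (.nd (.nd (.lf 2599) (.lf 0)) (.nd (.lf 47) (.lf 0)))))) (.nd (.nd (.nd (.nd (.nd (.lf 21) (.lf 0)) (.lf 0)) (.nd (.nd (.lf 1940) (.lf 0)) (.nd (.lf 2989) (.lf 0)))) (.lf 0)) (.nd (.nd (.nd (.nd (.lf 1475) (.lf 0)) (.lf 0)) (.lf 0)) (.nd (.nd (.nd (.lf 28) (.lf 0)) (.nd (.lf 43) (.lf 0))) (.lf 0)))))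

/-- orbits in commutators -/
def sum44 : Trie := (.nd (.nd (.nd (.nd (.nd (.nd (.lf 2706) (.lf 0)) (.lf 0)) (.nd (.nd (.lf 30) (.lf 0)) (.lf 0))) (.nd (.nd (.nd (.lf 25) (.lf 0)) (.lf 0)) (.nd (.nd (.lf 38) (.lf 0)) (.nd (.lf 47) (.lf 0))))) (.nd (.nd (.nd (.nd (.lf 2839) (.lf 48)) (.lf 0)) (.nd (.nd (.lf 3107) (.lf 0)) (.lf 0))) (.nd (.nd (.nd (.lf 27) (.lf 0)) (.nd (.lf 44) (.lf 0))) (.nd (.nd (.lf 41) (.lf 0)) (.lf 0))))) (.nd (.nd (.nd (.nd (.nd (.lf 2774) (.lf 0)) (.nd (.lf 42) (.lf 0))) (.nd (.nd (.lf 32) (.lf 0)) (.nd (.lf 46) (.lf 0)))) (.nd (.nd (.nd (.lf 2970) (.lf 0)) (.nd (.lf 43) (.lf 0))) (.nd (.nd (.lf 40) (.lf 0)) (.lf 0)))) (.nd (.nd (.lf 0) (.nd (.nd (.lf 36) (.lf 0)) (.lf 0))) (.nd (.nd (.nd (.lf 3037) (.lf 0)) (.lf 0)) (.lf 0)))))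

/-- orbits in commutators -/
def sum45 : Trie := (.nd (.nd (.nd (.nd (.nd (.nd (.lf 19) (.lf 0)) (.nd (.lf 42) (.lf 0))) (.nd (.nd (.lf 2068) (.lf 0)) (.lf 0))) (.nd (.nd (.nd (.lf 1744) (.lf 0)) (.nd (.lf 43) (.lf 0))) (.lf 0))) (.nd (.nd (.lf 0) (.nd (.nd (.lf 37) (.lf 0)) (.lf 0))) (.nd (.nd (.lf 0) (.nd (.lf 2924) (.lf 0))) (.lf 0)))) (.nd (.nd (.nd (.nd (.nd (.lf 24) (.lf 48)) (.lf 0)) (.lf 0)) (.nd (.lf 0) (.nd (.nd (.lf 2663) (.lf 0)) (.lf 0)))) (.nd (.nd (.nd (.nd (.lf 1670) (.lf 0)) (.lf 0)) (.nd (.nd (.lf 2465) (.lf 0)) (.nd (.lf 47) (.lf 0)))) (.nd (.nd (.nd (.lf 31) (.lf 0)) (.lf 0)) (.lf 0)))))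

/-- orbits in commutators -/
def sum46 : Trie := (.nd (.nd (.nd (.nd (.nd (.nd (.lf 20) (.lf 48)) (.lf 0)) (.lf 0)) (.nd (.nd (.nd (.lf 1937) (.lf 0)) (.nd (.lf 44) (.lf 0))) (.nd (.nd (.lf 2661) (.lf 0)) (.lf 0)))) (.nd (.nd (.nd (.nd (.lf 28) (.lf 0)) (.lf 0)) (.nd (.nd (.lf 39) (.lf 0)) (.lf 0))) (.nd (.nd (.nd (.lf 2067) (.lf 0)) (.lf 0)) (.lf 0)))) (.nd (.nd (.lf 0) (.nd (.nd (.nd (.lf 31) (.lf 0)) (.nd (.lf 2923) (.lf 0))) (.lf 0))) (.nd (.nd (.nd (.nd (.lf 1864) (.lf 0)) (.lf 0)) (.nd (.nd (.lf 2594) (.lf 0)) (.lf 0))) (.nd (.nd (.lf 0) (.nd (.lf 46) (.lf 0))) (.nd (.nd (.lf 42) (.lf 0)) (.lf 0))))))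

/-- orbits in commutators -/
def sum47 : Trie := (.nd (.nd (.nd (.nd (.nd (.lf 0) (.nd (.lf 44) (.lf 0))) (.nd (.nd (.lf 2588) (.lf 0)) (.lf 0))) (.nd (.nd (.nd (.lf 2325) (.lf 0)) (.lf 0)) (.lf 0))) (.nd (.nd (.nd (.nd (.lf 34) (.lf 0)) (.nd (.lf 46) (.lf 0))) (.lf 0)) (.nd (.nd (.nd (.lf 2456) (.lf 0)) (.lf 0)) (.lf 0)))) (.nd (.nd (.nd (.nd (.nd (.lf 33) (.lf 0)) (.nd (.lf 2922) (.lf 0))) (.nd (.nd (.lf 2655) (.lf 0)) (.lf 0))) (.nd (.nd (.nd (.lf 37) (.lf 0)) (.lf 0)) (.lf 0))) (.nd (.nd (.nd (.nd (.lf 2251) (.lf 0)) (.nd (.lf 47) (.lf 0))) (.lf 0)) (.nd (.nd (.nd (.lf 39) (.lf 0)) (.lf 0)) (.nd (.nd (.lf 43) (.lf 0)) (.lf 0))))))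

/-- orbits in commutators -/
noncomputable def sumRow (x : Nat) : Trie :=
  (bif Nat.blt x 24 then (bif Nat.blt x 12 then (bif Nat.blt x 6 then (bif Nat.blt x 3 then (bif Nat.blt x 1 then sum0 else (bif Nat.blt x 2 then sum1 else sum2)) else (bif Nat.blt x 4 then sum3 else (bif Nat.blt x 5 then sum4 else sum5))) else (bif Nat.blt x 9 then (bif Nat.blt x 7 then sum6 else (bif Nat.blt x 8 then sum7 else sum8)) else (bif Nat.blt x 10 then sum9 else (bif Nat.blt x 11 then sum10 else sum11)))) else (bif Nat.blt x 18 then (bif Nat.blt x 15 then (bif Nat.blt x 13 then sum12 else (bif Nat.blt x 14 then sum13 else sum14)) else (bif Nat.blt x 16 then sum15 else (bif Nat.blt x 17 then sum16 else sum17))) else (bif Nat.blt x 21 then (bif Nat.blt x 19 then sum18 else (bif Nat.blt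 x 20 then sum19 else sum20)) else (bif Nat.blt x 22 then sum21 else (bif Nat.blt x 23 then sum22 else sum23))))) else (bif Nat.blt x 36 then (bif Nat.blt x 30 then (bif Nat.blt x 27 then (bif Nat.blt x 25 then sum24 else (bif Nat.blt x 26 then sum25 else sum26)) else (bif Nat.blt x 28 then sum27 else (bif Nat.blt x 29 then sum28 else sum29))) else (bif Nat.blt x 33 then (bif Nat.blt x 31 then sum30 else (bif Nat.blt x 32 then sum31 else sum32)) else (bif Nat.blt x 34 then sum33 else (bif Nat.blt x 35 then sum34 else sum35)))) else (bif Nat.blt x 42 then (bif Nat.blt x 39 then (bif Nat.blt x 37 then sum36 else (bif Nat.blt x 38 then sum37 else sum38)) else (bif Nat.blt x 40 then sum39 else (bif Nat.blt x 41 then sum40 else sum41))) else (bif Nat.blt x 45 then (bif Nat.blt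 x 43 then sum42 else (bif Nat.blt x 44 then sum43 else sum44)) else (bif Nat.blt x 46 then sum45 else (bif Nat.blt x 47 then sum46 else sum47))))))

/-- action on orbits -/
def sig0 : Trie := (.nd (.nd (.nd (.nd (.nd (.nd (.lf 1) (.lf 19)) (.nd (.lf 20) (.lf 0))) (.nd (.nd (.lf 11) (.lf 40)) (.nd (.lf 24) (.lf 0)))) (.nd (.nd (.nd (.lf 4) (.lf 30)) (.nd (.lf 16) (.lf 0))) (.nd (.nd (.lf 9) (.lf 44)) (.nd (.lf 34) (.lf 0))))) (.nd (.nd (.nd (.nd (.lf 2) (.lf 28)) (.nd (.lf 23) (.lf 0))) (.nd (.nd (.lf 7) (.lf 41)) (.nd (.lf 26) (.lf 0)))) (.nd (.nd (.nd (.lf 6) (.lf 38)) (.nd (.lf 22) (.lf 0))) (.nd (.nd (.lf 14) (.lf 47)) (.nd (.lf 36) (.lf 0)))))) (.nd (.nd (.nd (.nd (.nd (.lf 0) (.lf 27)) (.nd (.lf 21) (.lf 0))) (.nd (.nd (.lf 12) (.lf 42)) (.nd (.lf 25) (.lf 0))))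 (.nd (.nd (.nd (.lf 5) (.lf 31)) (.nd (.lf 17) (.lf 0))) (.nd (.nd (.lf 13) (.lf 45)) (.nd (.lf 35) (.lf 0))))) (.nd (.nd (.nd (.nd (.lf 3) (.lf 29)) (.nd (.lf 32) (.lf 0))) (.nd (.nd (.lf 8) (.lf 43)) (.nd (.lf 33) (.lf 0)))) (.nd (.nd (.nd (.lf 10) (.lf 39)) (.nd (.lf 18) (.lf 0))) (.nd (.nd (.lf 15) (.lf 46)) (.nd (.lf 37) (.lf 0)))))))

/-- action on symbols -/
def img0 : Trie := (.nd (.nd (.nd (.nd (.nd (.nd (.nd (.lf 8) (.lf 264)) (.nd (.lf 112) (.lf 0))) (.nd (.nd (.lf 48) (.lf 0)) (.nd (.lf 232) (.lf 0)))) (.nd (.nd (.nd (.lf 36) (.lf 0)) (.nd (.lf 164) (.lf 0))) (.nd (.nd (.lf 100) (.lf 0)) (.nd (.lf 192) (.lf 0))))) (.nd (.nd (.nd (.nd (.lf 20) (.lf 276)) (.nd (.lf 148) (.lf 0))) (.nd (.nd (.lf 84) (.lf 0)) (.nd (.lf 176) (.lf 0)))) (.nd (.nd (.nd (.lf 72)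 (.lf 0)) (.nd (.lf 216) (.lf 0))) (.nd (.nd (.lf 144) (.lf 0)) (.nd (.lf 244) (.lf 0)))))) (.nd (.nd (.nd (.nd (.nd (.lf 12) (.lf 268)) (.nd (.lf 140) (.lf 0))) (.nd (.nd (.lf 56) (.lf 0)) (.nd (.lf 120) (.lf 0)))) (.nd (.nd (.nd (.lf 64) (.lf 0)) (.nd (.lf 208) (.lf 0))) (.nd (.nd (.lf 128) (.lf 0)) (.nd (.lf 200) (.lf 0))))) (.nd (.nd (.nd (.nd (.lf 28) (.lf 288)) (.nd (.lf 156) (.lf 0))) (.nd (.nd (.lf 92) (.lf 0)) (.nd (.lf 184) (.lf 0)))) (.nd (.nd (.nd (.lf 80) (.lf 0)) (.nd (.lf 224) (.lf 0))) (.nd (.nd (.lf 104) (.lf 0)) (.nd (.lf 252) (.lf 0))))))) (.nd (.nd (.nd (.nd (.nd (.nd (.lf 4) (.lf 260)) (.nd (.lf 136) (.lf 0))) (.nd (.nd (.lf 52) (.lf 0)) (.nd (.lf 236) (.lf 0)))) (.nd (.nd (.nd (.lf 40) (.lf 0)) (.nd (.lf 168) (.lf 0))) (.nd (.nd (.lf 124) (.lf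 0)) (.nd (.lf 196) (.lf 0))))) (.nd (.nd (.nd (.nd (.lf 24) (.lf 280)) (.nd (.lf 152) (.lf 0))) (.nd (.nd (.lf 88) (.lf 0)) (.nd (.lf 180) (.lf 0)))) (.nd (.nd (.nd (.lf 76) (.lf 0)) (.nd (.lf 220) (.lf 0))) (.nd (.nd (.lf 204) (.lf 0)) (.nd (.lf 248) (.lf 0)))))) (.nd (.nd (.nd (.nd (.nd (.lf 16) (.lf 272)) (.nd (.lf 116) (.lf 0))) (.nd (.nd (.lf 60) (.lf 0)) (.nd (.lf 172) (.lf 0)))) (.nd (.nd (.nd (.lf 68) (.lf 0)) (.nd (.lf 212) (.lf 0))) (.nd (.nd (.lf 132) (.lf 0)) (.nd (.lf 240) (.lf 0))))) (.nd (.nd (.nd (.nd (.lf 32) (.lf 284)) (.nd (.lf 160) (.lf 0))) (.nd (.nd (.lf 96) (.lf 0)) (.nd (.lf 188) (.lf 0)))) (.nd (.nd (.nd (.lf 44) (.lf 0)) (.nd (.lf 228) (.lf 0))) (.nd (.nd (.lf 108) (.lf 0)) (.nd (.lf 256) (.lf 0))))))))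

/-- action on orbits -/
def sig1 : Trie := (.nd (.nd (.nd (.nd (.nd (.nd (.lf 0) (.lf 33)) (.nd (.lf 15) (.lf 0))) (.nd (.nd (.lf 6) (.lf 40)) (.nd (.lf 24) (.lf 0)))) (.nd (.nd (.nd (.lf 4) (.lf 38)) (.nd (.lf 20) (.lf 0))) (.nd (.nd (.lf 13) (.lf 44)) (.nd (.lf 25) (.lf 0))))) (.nd (.nd (.nd (.nd (.lf 1) (.lf 34)) (.nd (.lf 19) (.lf 0))) (.nd (.nd (.lf 10) (.lf 43)) (.nd (.lf 29) (.lf 0)))) (.nd (.nd (.nd (.lf 8) (.lf 36)) (.nd (.lf 21) (.lf 0))) (.nd (.nd (.lf 14) (.lf 45)) (.nd (.lf 30) (.lf 0)))))) (.nd (.nd (.nd (.nd (.nd (.lf 2) (.lf 32)) (.nd (.lf 17) (.lf 0))) (.nd (.nd (.lf 9) (.lf 41)) (.nd (.lf 28) (.lf 0)))) (.nd (.nd (.nd (.lf 7) (.lf 39)) (.nd (.lf 22) (.lf 0))) (.nd (.nd (.lf 12) (.lf 46)) (.nd (.lf 26) (.lf 0))))) (.nd (.nd (.nd (.nd (.lf 3) (.lf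 35)) (.nd (.lf 18) (.lf 0))) (.nd (.nd (.lf 11) (.lf 42)) (.nd (.lf 23) (.lf 0)))) (.nd (.nd (.nd (.lf 5) (.lf 37)) (.nd (.lf 27) (.lf 0))) (.nd (.nd (.lf 16) (.lf 47)) (.nd (.lf 31) (.lf 0)))))))

/-- action on symbols -/
def img1 : Trie := (.nd (.nd (.nd (.nd (.nd (.nd (.nd (.lf 4) (.lf 260)) (.nd (.lf 140) (.lf 0))) (.nd (.nd (.lf 68) (.lf 0)) (.nd (.lf 196) (.lf 0)))) (.nd (.nd (.nd (.lf 48) (.lf 0)) (.nd (.lf 184) (.lf 0))) (.nd (.nd (.lf 104) (.lf 0)) (.nd (.lf 240) (.lf 0))))) (.nd (.nd (.nd (.nd (.lf 20) (.lf 276)) (.nd (.lf 148) (.lf 0))) (.nd (.nd (.lf 76) (.lf 0)) (.nd (.lf 212) (.lf 0)))) (.nd (.nd (.nd (.lf 40) (.lf 0)) (.nd (.lf 160) (.lf 0))) (.nd (.nd (.lf 120) (.lf 0)) (.nd (.lf 232) (.lf 0)))))) (.nd (.nd (.nd (.nd (.nd (.lf 8) (.lf 264)) (.nd (.lf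 132) (.lf 0))) (.nd (.nd (.lf 84) (.lf 0)) (.nd (.lf 208) (.lf 0)))) (.nd (.nd (.nd (.lf 32) (.lf 0)) (.nd (.lf 144) (.lf 0))) (.nd (.nd (.lf 108) (.lf 0)) (.nd (.lf 248) (.lf 0))))) (.nd (.nd (.nd (.nd (.lf 28) (.lf 280)) (.nd (.lf 176) (.lf 0))) (.nd (.nd (.lf 92) (.lf 0)) (.nd (.lf 220) (.lf 0)))) (.nd (.nd (.nd (.lf 60) (.lf 0)) (.nd (.lf 168) (.lf 0))) (.nd (.nd (.lf 124) (.lf 0)) (.nd (.lf 252) (.lf 0))))))) (.nd (.nd (.nd (.nd (.nd (.nd (.lf 12) (.lf 268)) (.nd (.lf 128) (.lf 0))) (.nd (.nd (.lf 72) (.lf 0)) (.nd (.lf 200) (.lf 0)))) (.nd (.nd (.nd (.lf 52) (.lf 0)) (.nd (.lf 188) (.lf 0))) (.nd (.nd (.lf 100) (.lf 0)) (.nd (.lf 244) (.lf 0))))) (.nd (.nd (.nd (.nd (.lf 24) (.lf 284)) (.nd (.lf 152) (.lf 0))) (.nd (.nd (.lf 80) (.lf 0)) (.nd (.lf 216) (.lf 0))))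 (.nd (.nd (.nd (.lf 56) (.lf 0)) (.nd (.lf 164) (.lf 0))) (.nd (.nd (.lf 116) (.lf 0)) (.nd (.lf 236) (.lf 0)))))) (.nd (.nd (.nd (.nd (.nd (.lf 16) (.lf 272)) (.nd (.lf 172) (.lf 0))) (.nd (.nd (.lf 88) (.lf 0)) (.nd (.lf 204) (.lf 0)))) (.nd (.nd (.nd (.lf 36) (.lf 0)) (.nd (.lf 156) (.lf 0))) (.nd (.nd (.lf 112) (.lf 0)) (.nd (.lf 228) (.lf 0))))) (.nd (.nd (.nd (.nd (.lf 44) (.lf 288)) (.nd (.lf 180) (.lf 0))) (.nd (.nd (.lf 96) (.lf 0)) (.nd (.lf 224) (.lf 0)))) (.nd (.nd (.nd (.lf 64) (.lf 0)) (.nd (.lf 192) (.lf 0))) (.nd (.nd (.lf 136) (.lf 0)) (.nd (.lf 256) (.lf 0))))))))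

/-- action on orbits -/
def sig2 : Trie := (.nd (.nd (.nd (.nd (.nd (.nd (.lf 0) (.lf 32)) (.nd (.lf 18) (.lf 0))) (.nd (.nd (.lf 9) (.lf 39)) (.nd (.lf 26) (.lf 0)))) (.nd (.nd (.nd (.lf 6) (.lf 33)) (.nd (.lf 23) (.lf 0))) (.nd (.nd (.lf 11) (.lf 44)) (.nd (.lf 28) (.lf 0))))) (.nd (.nd (.nd (.nd (.lf 5) (.lf 34)) (.nd (.lf 16) (.lf 0))) (.nd (.nd (.lf 10) (.lf 42)) (.nd (.lf 24) (.lf 0)))) (.nd (.nd (.nd (.lf 4) (.lf 38)) (.nd (.lf 25) (.lf 0))) (.nd (.nd (.lf 13) (.lf 46)) (.nd (.lf 27) (.lf 0)))))) (.nd (.nd (.nd (.nd (.nd (.lf 1) (.lf 36)) (.nd (.lf 17) (.lf 0))) (.nd (.nd (.lf 8) (.lf 41)) (.nd (.lf 22) (.lf 0)))) (.nd (.nd (.nd (.lf 2) (.lf 35)) (.nd (.lf 21) (.lf 0))) (.nd (.nd (.lf 14) (.lf 43)) (.nd (.lf 31) (.lf 0))))) (.nd (.nd (.nd (.nd (.lf 3) (.lf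 37)) (.nd (.lf 19) (.lf 0))) (.nd (.nd (.lf 12) (.lf 45)) (.nd (.lf 30) (.lf 0)))) (.nd (.nd (.nd (.lf 7) (.lf 40)) (.nd (.lf 20) (.lf 0))) (.nd (.nd (.lf 15) (.lf 47)) (.nd (.lf 29) (.lf 0)))))))

/-- action on symbols -/
def img2 : Trie := (.nd (.nd (.nd (.nd (.nd (.nd (.nd (.lf 4) (.lf 260)) (.nd (.lf 17025) (.lf 0))) (.nd (.nd (.lf 76) (.lf 0)) (.nd (.lf 184) (.lf 0)))) (.nd (.nd (.nd (.lf 24) (.lf 0)) (.nd (.lf 148) (.lf 0))) (.nd (.nd (.lf 100) (.lf 0)) (.nd (.lf 208) (.lf 0))))) (.nd (.nd (.nd (.nd (.lf 2577) (.lf 35601)) (.nd (.lf 164) (.lf 0))) (.nd (.nd (.lf 92) (.lf 0)) (.nd (.lf 212) (.lf 0)))) (.nd (.nd (.nd (.lf 60) (.lf 0)) (.nd (.lf 23217) (.lf 0))) (.nd (.nd (.lf 104) (.lf 0)) (.nd (.lf 252) (.lf 0)))))) (.nd (.nd (.nd (.nd (.nd (.lf 32) (.lf 280))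 (.nd (.lf 20637) (.lf 0))) (.nd (.nd (.lf 68) (.lf 0)) (.nd (.lf 204) (.lf 0)))) (.nd (.nd (.nd (.lf 44) (.lf 0)) (.nd (.lf 192) (.lf 0))) (.nd (.nd (.lf 108) (.lf 0)) (.nd (.lf 225) (.lf 0))))) (.nd (.nd (.nd (.nd (.lf 40) (.lf 284)) (.nd (.lf 136) (.lf 0))) (.nd (.nd (.lf 84) (.lf 0)) (.nd (.lf 232) (.lf 0)))) (.nd (.nd (.nd (.lf 52) (.lf 0)) (.nd (.lf 201) (.lf 0))) (.nd (.nd (.lf 144) (.lf 0)) (.nd (.lf 244) (.lf 0))))))) (.nd (.nd (.nd (.nd (.nd (.nd (.lf 8) (.lf 264)) (.nd (.lf 156) (.lf 0))) (.nd (.nd (.lf 80) (.lf 0)) (.nd (.lf 189) (.lf 0)))) (.nd (.nd (.nd (.lf 28) (.lf 0)) (.nd (.lf 153) (.lf 0))) (.nd (.nd (.lf 116) (.lf 0)) (.nd (.lf 220) (.lf 0))))) (.nd (.nd (.nd (.nd (.lf 36) (.lf 268)) (.nd (.lf 169) (.lf 0))) (.nd (.nd (.lf 96) (.lf 0)) (.nd (.lf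 27861) (.lf 0)))) (.nd (.nd (.nd (.lf 48) (.lf 0)) (.nd (.lf 196) (.lf 0))) (.nd (.nd (.lf 120) (.lf 0)) (.nd (.lf 257) (.lf 0)))))) (.nd (.nd (.nd (.nd (.nd (.lf 16) (.lf 272)) (.nd (.lf 124) (.lf 0))) (.nd (.nd (.lf 72) (.lf 0)) (.nd (.lf 228) (.lf 0)))) (.nd (.nd (.nd (.lf 56) (.lf 0)) (.nd (.lf 176) (.lf 0))) (.nd (.nd (.lf 14445) (.lf 0)) (.nd (.lf 240) (.lf 0))))) (.nd (.nd (.nd (.nd (.lf 12) (.lf 288)) (.nd (.lf 18057) (.lf 0))) (.nd (.nd (.lf 88) (.lf 0)) (.nd (.lf 237) (.lf 0)))) (.nd (.nd (.nd (.lf 64) (.lf 0)) (.nd (.lf 172) (.lf 0))) (.nd (.nd (.lf 128) (.lf 0)) (.nd (.lf 249) (.lf 0))))))))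

/-- action on orbits -/
def sig3 : Trie := (.nd (.nd (.nd (.nd (.nd (.nd (.lf 0) (.lf 32)) (.nd (.lf 7) (.lf 0))) (.nd (.nd (.lf 8) (.lf 44)) (.nd (.lf 14) (.lf 0)))) (.nd (.nd (.nd (.lf 3) (.lf 42)) (.nd (.lf 10) (.lf 0))) (.nd (.nd (.lf 21) (.lf 40)) (.nd (.lf 29) (.lf 0))))) (.nd (.nd (.nd (.nd (.lf 2) (.lf 35)) (.nd (.lf 18) (.lf 0))) (.nd (.nd (.lf 20) (.lf 36)) (.nd (.lf 25) (.lf 0)))) (.nd (.nd (.nd (.lf 6) (.lf 43)) (.nd (.lf 13) (.lf 0))) (.nd (.nd (.lf 24) (.lf 46)) (.nd (.lf 41) (.lf 0)))))) (.nd (.nd (.nd (.nd (.nd (.lf 1) (.lf 33)) (.nd (.lf 9) (.lf 0))) (.nd (.nd (.lf 17) (.lf 30)) (.nd (.lf 26) (.lf 0)))) (.nd (.nd (.nd (.lf 15) (.lf 37)) (.nd (.lf 12) (.lf 0))) (.nd (.nd (.lf 22) (.lf 45)) (.nd (.lf 28) (.lf 0))))) (.nd (.nd (.nd (.nd (.lf 4) (.lf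 34)) (.nd (.lf 19) (.lf 0))) (.nd (.nd (.lf 11) (.lf 38)) (.nd (.lf 27) (.lf 0)))) (.nd (.nd (.nd (.lf 16) (.lf 39)) (.nd (.lf 23) (.lf 0))) (.nd (.nd (.lf 5) (.lf 47)) (.nd (.lf 31) (.lf 0)))))))

/-- action on symbols -/
def img3 : Trie := (.nd (.nd (.nd (.nd (.nd (.nd (.nd (.lf 4) (.lf 192)) (.nd (.lf 81) (.lf 0))) (.nd (.nd (.lf 68) (.lf 0)) (.nd (.lf 196) (.lf 0)))) (.nd (.nd (.nd (.lf 36) (.lf 0)) (.nd (.lf 156) (.lf 0))) (.nd (.nd (.lf 32) (.lf 0)) (.nd (.lf 264) (.lf 0))))) (.nd (.nd (.nd (.nd (.lf 29) (.lf 256)) (.nd (.lf 92) (.lf 0))) (.nd (.nd (.lf 136) (.lf 0)) (.nd (.lf 220) (.lf 0)))) (.nd (.nd (.nd (.lf 6705) (.lf 0)) (.nd (.lf 188) (.lf 0))) (.nd (.nd (.lf 116) (.lf 0)) (.nd (.lf 244) (.lf 0)))))) (.nd (.nd (.nd (.nd (.nd (.lf 12) (.lf 240)) (.nd (.lf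 89) (.lf 0))) (.nd (.nd (.lf 128) (.lf 0)) (.nd (.lf 204) (.lf 0)))) (.nd (.nd (.nd (.lf 104) (.lf 0)) (.nd (.lf 172) (.lf 0))) (.nd (.nd (.lf 56) (.lf 0)) (.nd (.lf 30441) (.lf 0))))) (.nd (.nd (.nd (.nd (.lf 21) (.lf 284)) (.nd (.lf 164) (.lf 0))) (.nd (.nd (.lf 148) (.lf 0)) (.nd (.lf 212) (.lf 0)))) (.nd (.nd (.nd (.lf 113) (.lf 0)) (.nd (.lf 180) (.lf 0))) (.nd (.nd (.lf 64) (.lf 0)) (.nd (.lf 272) (.lf 0))))))) (.nd (.nd (.nd (.nd (.nd (.nd (.lf 8) (.lf 228)) (.nd (.lf 84) (.lf 0))) (.nd (.nd (.lf 9285) (.lf 0)) (.nd (.lf 25797) (.lf 0)))) (.nd (.nd (.nd (.lf 5157) (.lf 0)) (.nd (.lf 160) (.lf 0))) (.nd (.nd (.lf 44) (.lf 0)) (.nd (.lf 232) (.lf 0))))) (.nd (.nd (.nd (.nd (.lf 16) (.lf 280)) (.nd (.lf 12381) (.lf 0))) (.nd (.nd (.lf 141) (.lf 0)) (.nd (.lf 224)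 (.lf 0)))) (.nd (.nd (.nd (.lf 108) (.lf 0)) (.nd (.lf 176) (.lf 0))) (.nd (.nd (.lf 120) (.lf 0)) (.nd (.lf 31989) (.lf 0)))))) (.nd (.nd (.nd (.nd (.nd (.lf 24) (.lf 252)) (.nd (.lf 144) (.lf 0))) (.nd (.nd (.lf 133) (.lf 0)) (.nd (.lf 208) (.lf 0)))) (.nd (.nd (.nd (.lf 48) (.lf 0)) (.nd (.lf 184) (.lf 0))) (.nd (.nd (.lf 61) (.lf 0)) (.nd (.lf 268) (.lf 0))))) (.nd (.nd (.nd (.nd (.lf 100) (.lf 288)) (.nd (.lf 168) (.lf 0))) (.nd (.nd (.lf 19605) (.lf 0)) (.nd (.lf 216) (.lf 0)))) (.nd (.nd (.nd (.lf 124) (.lf 0)) (.nd (.lf 260) (.lf 0))) (.nd (.nd (.lf 76) (.lf 0)) (.nd (.lf 276) (.lf 0))))))))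

/-- action on orbits -/
def sig4 : Trie := (.nd (.nd (.nd (.nd (.nd (.nd (.lf 0) (.lf 32)) (.nd (.lf 16) (.lf 0))) (.nd (.nd (.lf 8) (.lf 40)) (.nd (.lf 24) (.lf 0)))) (.nd (.nd (.nd (.lf 4) (.lf 36)) (.nd (.lf 20) (.lf 0))) (.nd (.nd (.lf 12) (.lf 44)) (.nd (.lf 28) (.lf 0))))) (.nd (.nd (.nd (.nd (.lf 2) (.lf 34)) (.nd (.lf 18) (.lf 0))) (.nd (.nd (.lf 10) (.lf 42)) (.nd (.lf 26) (.lf 0)))) (.nd (.nd (.nd (.lf 6) (.lf 38)) (.nd (.lf 22) (.lf 0))) (.nd (.nd (.lf 14) (.lf 46)) (.nd (.lf 30) (.lf 0)))))) (.nd (.nd (.nd (.nd (.nd (.lf 1) (.lf 33)) (.nd (.lf 17) (.lf 0))) (.nd (.nd (.lf 9) (.lf 41)) (.nd (.lf 25) (.lf 0)))) (.nd (.nd (.nd (.lf 5) (.lf 37)) (.nd (.lf 21) (.lf 0))) (.nd (.nd (.lf 13) (.lf 45)) (.nd (.lf 29) (.lf 0))))) (.nd (.nd (.nd (.nd (.lf 3) (.lf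 35)) (.nd (.lf 19) (.lf 0))) (.nd (.nd (.lf 11) (.lf 43)) (.nd (.lf 27) (.lf 0)))) (.nd (.nd (.nd (.lf 7) (.lf 39)) (.nd (.lf 23) (.lf 0))) (.nd (.nd (.lf 15) (.lf 47)) (.nd (.lf 31) (.lf 0)))))))

/-- action on symbols -/
def img4 : Trie := (.nd (.nd (.nd (.nd (.nd (.nd (.nd (.lf 4) (.lf 260)) (.nd (.lf 17025) (.lf 0))) (.nd (.nd (.lf 75) (.lf 0)) (.nd (.lf 203) (.lf 0)))) (.nd (.nd (.nd (.lf 43) (.lf 0)) (.nd (.lf 21671) (.lf 0))) (.nd (.nd (.lf 100) (.lf 0)) (.nd (.lf 228) (.lf 0))))) (.nd (.nd (.nd (.nd (.lf 2577) (.lf 35601)) (.nd (.lf 155) (.lf 0))) (.nd (.nd (.lf 11350) (.lf 0)) (.nd (.lf 218) (.lf 0)))) (.nd (.nd (.nd (.lf 6705) (.lf 0)) (.nd (.lf 23217) (.lf 0))) (.nd (.nd (.lf 116) (.lf 0)) (.nd (.lf 251) (.lf 0)))))) (.nd (.nd (.nd (.nd (.nd (.lf 12) (.lf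 268)) (.nd (.lf 18057) (.lf 0))) (.nd (.nd (.lf 10318) (.lf 0)) (.nd (.lf 204) (.lf 0)))) (.nd (.nd (.nd (.lf 44) (.lf 0)) (.nd (.lf 172) (.lf 0))) (.nd (.nd (.lf 114) (.lf 0)) (.nd (.lf 30441) (.lf 0))))) (.nd (.nd (.nd (.nd (.lf 27) (.lf 284)) (.nd (.lf 162) (.lf 0))) (.nd (.nd (.lf 99) (.lf 0)) (.nd (.lf 28895) (.lf 0)))) (.nd (.nd (.nd (.lf 59) (.lf 0)) (.nd (.lf 186) (.lf 0))) (.nd (.nd (.lf 124) (.lf 0)) (.nd (.lf 33023) (.lf 0))))))) (.nd (.nd (.nd (.nd (.nd (.nd (.lf 8) (.lf 264)) (.nd (.lf 142) (.lf 0))) (.nd (.nd (.lf 9285) (.lf 0)) (.nd (.lf 25797) (.lf 0)))) (.nd (.nd (.nd (.lf 5157) (.lf 0)) (.nd (.lf 166) (.lf 0))) (.nd (.nd (.lf 104) (.lf 0)) (.nd (.lf 239) (.lf 0))))) (.nd (.nd (.nd (.nd (.lf 3610) (.lf 280)) (.nd (.lf 19605) (.lf 0))) (.nd (.nd (.lf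 87) (.lf 0)) (.nd (.lf 27861) (.lf 0)))) (.nd (.nd (.nd (.lf 7738) (.lf 0)) (.nd (.lf 24251) (.lf 0))) (.nd (.nd (.lf 120) (.lf 0)) (.nd (.lf 31989) (.lf 0)))))) (.nd (.nd (.nd (.nd (.nd (.lf 22) (.lf 278)) (.nd (.lf 144) (.lf 0))) (.nd (.nd (.lf 79) (.lf 0)) (.nd (.lf 208) (.lf 0)))) (.nd (.nd (.nd (.lf 55) (.lf 0)) (.nd (.lf 182) (.lf 0))) (.nd (.nd (.lf 14445) (.lf 0)) (.nd (.lf 240) (.lf 0))))) (.nd (.nd (.nd (.nd (.lf 32) (.lf 288)) (.nd (.lf 20637) (.lf 0))) (.nd (.nd (.lf 12381) (.lf 0)) (.nd (.lf 222) (.lf 0)))) (.nd (.nd (.nd (.lf 64) (.lf 0)) (.nd (.lf 192) (.lf 0))) (.nd (.nd (.lf 134) (.lf 0)) (.nd (.lf 254) (.lf 0))))))))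

/-- action on orbits -/
def sig5 : Trie := (.nd (.nd (.nd (.nd (.nd (.nd (.lf 0) (.lf 32)) (.nd (.lf 16) (.lf 0))) (.nd (.nd (.lf 8) (.lf 40)) (.nd (.lf 24) (.lf 0)))) (.nd (.nd (.nd (.lf 4) (.lf 36)) (.nd (.lf 20) (.lf 0))) (.nd (.nd (.lf 12) (.lf 44)) (.nd (.lf 28) (.lf 0))))) (.nd (.nd (.nd (.nd (.lf 2) (.lf 34)) (.nd (.lf 18) (.lf 0))) (.nd (.nd (.lf 10) (.lf 42)) (.nd (.lf 26) (.lf 0)))) (.nd (.nd (.nd (.lf 6) (.lf 38)) (.nd (.lf 22) (.lf 0))) (.nd (.nd (.lf 14) (.lf 46)) (.nd (.lf 30) (.lf 0)))))) (.nd (.nd (.nd (.nd (.nd (.lf 1) (.lf 33)) (.nd (.lf 17) (.lf 0))) (.nd (.nd (.lf 9) (.lf 41)) (.nd (.lf 25) (.lf 0)))) (.nd (.nd (.nd (.lf 5) (.lf 37)) (.nd (.lf 21) (.lf 0))) (.nd (.nd (.lf 13) (.lf 45)) (.nd (.lf 29) (.lf 0))))) (.nd (.nd (.nd (.nd (.lf 3) (.lf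 35)) (.nd (.lf 19) (.lf 0))) (.nd (.nd (.lf 11) (.lf 43)) (.nd (.lf 27) (.lf 0)))) (.nd (.nd (.nd (.lf 7) (.lf 39)) (.nd (.lf 23) (.lf 0))) (.nd (.nd (.lf 15) (.lf 47)) (.nd (.lf 31) (.lf 0)))))))

/-- action on symbols -/
def img5 : Trie := (.nd (.nd (.nd (.nd (.nd (.nd (.nd (.lf 4) (.lf 260)) (.nd (.lf 17025) (.lf 0))) (.nd (.nd (.lf 75) (.lf 0)) (.nd (.lf 203) (.lf 0)))) (.nd (.nd (.nd (.lf 43) (.lf 0)) (.nd (.lf 21671) (.lf 0))) (.nd (.nd (.lf 100) (.lf 0)) (.nd (.lf 228) (.lf 0))))) (.nd (.nd (.nd (.nd (.lf 2577) (.lf 35601)) (.nd (.lf 155) (.lf 0))) (.nd (.nd (.lf 11350) (.lf 0)) (.nd (.lf 218) (.lf 0)))) (.nd (.nd (.nd (.lf 6705) (.lf 0)) (.nd (.lf 23217) (.lf 0))) (.nd (.nd (.lf 116) (.lf 0)) (.nd (.lf 251) (.lf 0)))))) (.nd (.nd (.nd (.nd (.nd (.lf 12) (.lf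 268)) (.nd (.lf 18057) (.lf 0))) (.nd (.nd (.lf 10318) (.lf 0)) (.nd (.lf 204) (.lf 0)))) (.nd (.nd (.nd (.lf 44) (.lf 0)) (.nd (.lf 172) (.lf 0))) (.nd (.nd (.lf 114) (.lf 0)) (.nd (.lf 30441) (.lf 0))))) (.nd (.nd (.nd (.nd (.lf 27) (.lf 284)) (.nd (.lf 162) (.lf 0))) (.nd (.nd (.lf 99) (.lf 0)) (.nd (.lf 28895) (.lf 0)))) (.nd (.nd (.nd (.lf 59) (.lf 0)) (.nd (.lf 186) (.lf 0))) (.nd (.nd (.lf 124) (.lf 0)) (.nd (.lf 33023) (.lf 0))))))) (.nd (.nd (.nd (.nd (.nd (.nd (.lf 8) (.lf 264)) (.nd (.lf 142) (.lf 0))) (.nd (.nd (.lf 9285) (.lf 0)) (.nd (.lf 25797) (.lf 0)))) (.nd (.nd (.nd (.lf 5157) (.lf 0)) (.nd (.lf 166) (.lf 0))) (.nd (.nd (.lf 104) (.lf 0)) (.nd (.lf 239) (.lf 0))))) (.nd (.nd (.nd (.nd (.lf 3610) (.lf 280)) (.nd (.lf 19605) (.lf 0))) (.nd (.nd (.lf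 87) (.lf 0)) (.nd (.lf 27861) (.lf 0)))) (.nd (.nd (.nd (.lf 7738) (.lf 0)) (.nd (.lf 24251) (.lf 0))) (.nd (.nd (.lf 120) (.lf 0)) (.nd (.lf 31989) (.lf 0)))))) (.nd (.nd (.nd (.nd (.nd (.lf 22) (.lf 278)) (.nd (.lf 144) (.lf 0))) (.nd (.nd (.lf 79) (.lf 0)) (.nd (.lf 208) (.lf 0)))) (.nd (.nd (.nd (.lf 55) (.lf 0)) (.nd (.lf 182) (.lf 0))) (.nd (.nd (.lf 14445) (.lf 0)) (.nd (.lf 240) (.lf 0))))) (.nd (.nd (.nd (.nd (.lf 32) (.lf 288)) (.nd (.lf 20637) (.lf 0))) (.nd (.nd (.lf 12381) (.lf 0)) (.nd (.lf 222) (.lf 0)))) (.nd (.nd (.nd (.lf 64) (.lf 0)) (.nd (.lf 192) (.lf 0))) (.nd (.nd (.lf 134) (.lf 0)) (.nd (.lf 254) (.lf 0))))))))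

/-- all actions -/
noncomputable def sigRow (x : Nat) : Trie :=
  (bif Nat.blt x 3 then (bif Nat.blt x 1 then sig0 else (bif Nat.blt x 2 then sig1 else sig2)) else (bif Nat.blt x 4 then sig3 else (bif Nat.blt x 5 then sig4 else sig5)))

/-- all actions -/
noncomputable def imgRow (x : Nat) : Trie :=
  (bif Nat.blt x 3 then (bif Nat.blt x 1 then img0 else (bif Nat.blt x 2 then img1 else img2)) else (bif Nat.blt x 4 then img3 else (bif Nat.blt x 5 then img4 else img5)))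

/-- the positive symbols -/
def posL : List Nat := [36, 37, 38, 39, 42, 50, 40, 41, 43, 44, 51, 45, 46, 47, 52, 53, 48, 49, 54, 55, 56, 57, 58, 59, 64, 60, 61, 65, 62, 63, 66, 67, 68, 69, 70, 71]

end CfsgLib.Chev.E62Two
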