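import Cfsg.Agent.Lib.Chev.E62Two.Derive
import Cfsg.Agent.Lib.Chev.E62Two.StepData

/-! The derivation steps are correct. -/

set_option autoImplicit false
set_option maxRecDepth 100000

namespace CfsgLib.Chev.E62Two

theorem runA_1 : runB knownA_1 stepsA_1 knownA_2 = true := by decide +kernel

theorem runA_5 : runB knownA_5 stepsA_5 knownA_6 = true := by decide +kernel

theorem runA_9 : runB knownA_9 stepsA_9 knownA_10 = true := by decide +kernel

theorem runA_13 : runB knownA_13 stepsA_13 knownA_14 = true := by decide +kernel

theorem runA_17 : runB knownA_17 stepsA_17 knownA_18 = true := by decide +kernel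

theorem runA_21 : runB knownA_21 stepsA_21 knownA_22 = true := by decide +kernel

theorem runA_25 : runB knownA_25 stepsA_25 knownA_26 = true := by decide +kernel

theorem runA_29 : runB knownA_29 stepsA_29 knownA_30 = true := by decide +kernel

theorem runA_33 : runB knownA_33 stepsA_33 knownA_34 = true := by decide +kernel

theorem runB_3 : runB knownB_3 stepsB_3 knownB_4 = true := by decide +kernel

theorem runB_7 : runB knownB_7 stepsB_7 knownB_8 = true := by decide +kernel

end CfsgLib.Chev.E62Two
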