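import Cfsg.Agent.Lib.Chev.E62Two.Derive
import Cfsg.Agent.Lib.Chev.E62Two.StepData

/-! The derivation steps are correct. -/

set_option autoImplicit false
set_option maxRecDepth 100000

namespace CfsgLib.Chev.E62Two

theorem runA_2 : runB knownA_2 stepsA_2 knownA_3 = true := by decide +kernel

theorem runA_6 : runB knownA_6 stepsA_6 knownA_7 = true := by decide +kernel

theorem runA_10 : runB knownA_10 stepsA_10 knownA_11 = true := by decide +kernel

theorem runA_14 : runB knownA_14 stepsA_14 knownA_15 = true := by decide +kernel

theorem runA_18 : runB knownA_18 stepsA_18 knownA_19 = true := by decide +kernel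

theorem runA_22 : runB knownA_22 stepsA_22 knownA_23 = true := by decide +kernel

theorem runA_26 : runB knownA_26 stepsA_26 knownA_27 = true := by decide +kernel

theorem runA_30 : runB knownA_30 stepsA_30 knownA_31 = true := by decide +kernel

theorem runB_0 : runB knownB_0 stepsB_0 knownB_1 = true := by decide +kernel

theorem runB_4 : runB knownB_4 stepsB_4 knownB_5 = true := by decide +kernel

end CfsgLib.Chev.E62Two
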