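import Cfsg.Agent.Lib.Chev.E62Two.Derive
import Cfsg.Agent.Lib.Chev.E62Two.StepData

/-! The derivation steps are correct. -/

set_option autoImplicit false
set_option maxRecDepth 100000

namespace CfsgLib.Chev.E62Two

theorem runA_3 : runB knownA_3 stepsA_3 knownA_4 = true := by decide +kernel

theorem runA_7 : runB knownA_7 stepsA_7 knownA_8 = true := by decide +kernel

theorem runA_11 : runB knownA_11 stepsA_11 knownA_12 = true := by decide +kernel

theorem runA_15 : runB knownA_15 stepsA_15 knownA_16 = true := by decide +kernel

theorem runA_19 : runB knownA_19 stepsA_19 knownA_20 = true := by decide +kernel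

theorem runA_23 : runB knownA_23 stepsA_23 knownA_24 = true := by decide +kernel

theorem runA_27 : runB knownA_27 stepsA_27 knownA_28 = true := by decide +kernel

theorem runA_31 : runB knownA_31 stepsA_31 knownA_32 = true := by decide +kernel

theorem runB_1 : runB knownB_1 stepsB_1 knownB_2 = true := by decide +kernel

theorem runB_5 : runB knownB_5 stepsB_5 knownB_6 = true := by decide +kernel

end CfsgLib.Chev.E62Two
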