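import Cfsg.Agent.Lib.Chev.E62Two.StepChk0
import Cfsg.Agent.Lib.Chev.E62Two.StepChk1
import Cfsg.Agent.Lib.Chev.E62Two.StepChk2
import Cfsg.Agent.Lib.Chev.E62Two.StepChk3

/-! The derivations chained. -/

set_option autoImplicit false
set_option maxRecDepth 100000

namespace CfsgLib.Chev.E62Two

variable {X : Type*} [Group X] {a : ℕ → X}

theorem chainA (hc : Central a) (h : Holds a knownA_0) : Holds a knownA_34 :=
  run_spec hc runA_33 <|
    run_spec hc runA_32 <|
    run_spec hc runA_31 <|
    run_spec hc runA_30 <|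
    run_spec hc runA_29 <|
    run_spec hc runA_28 <|
    run_spec hc runA_27 <|
    run_spec hc runA_26 <|
    run_spec hc runA_25 <|
    run_spec hc runA_24 <|
    run_spec hc runA_23 <|
    run_spec hc runA_22 <|
    run_spec hc runA_21 <|
    run_spec hc runA_20 <|
    run_spec hc runA_19 <|
    run_spec hc runA_18 <|
    run_spec hc runA_17 <|
    run_spec hc runA_16 <|
    run_spec hc runA_15 <|
    run_spec hc runA_14 <|
    run_spec hc runA_13 <|
    run_spec hc runA_12 <|
    run_spec hc runA_11 <|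
    run_spec hc runA_10 <|
    run_spec hc runA_9 <|
    run_spec hc runA_8 <|
    run_spec hc runA_7 <|
    run_spec hc runA_6 <|
    run_spec hc runA_5 <|
    run_spec hc runA_4 <|
    run_spec hc runA_3 <|
    run_spec hc runA_2 <|
    run_spec hc runA_1 <|
    run_spec hc runA_0 h

theorem chainB (hc : Central a) (h : Holds a knownB_0) : Holds a knownB_8 :=
  run_spec hc runB_7 <|
    run_spec hc runB_6 <|
    run_spec hc runB_5 <|
    run_spec hc runB_4 <|
    run_spec hc runB_3 <|
    run_spec hc runB_2 <|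
    run_spec hc runB_1 <|
    run_spec hc runB_0 h

/-- the gauge pairs give the symbols, start the derivation, and the last set contains every defect -/
noncomputable def boundChk : Bool :=
  ((List.range 72).all fun l =>
    okP (gaugeL.getD l 0 / 72) (gaugeL.getD l 0 % 72) && Nat.blt (gaugeL.getD l 0) 5184 &&
      decide (tabE.W (gaugeL.getD l 0 / 72) (gaugeL.getD l 0 % 72) = [l])) &&
    Nat.beq (gaugeL.foldl (fun S v => S ||| Nat.shiftLeft 1 v) 0) knownA_0 &&
    Nat.beq ([base0.1, base1.1].foldl (fun S v => S ||| Nat.shiftLeft 1 v) knownA_34) knownB_0 &&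
    stepOK 2 knownA_34 base0 && stepOK 2 knownA_34 base1 && vOK base0.1 && vOK base1.1 &&
    (List.range 5256).all fun k => !vOK k || hasB knownB_8 k

theorem boundChk_true : boundChk = true := by decide +kernel

theorem bound_spec : (∀ l < 72, ∃ x z, okP x z = true ∧ gaugeL.getD l 0 = x * 72 + z ∧ tabE.W x z = [l]) ∧
    gaugeL.foldl (fun S v => S ||| Nat.shiftLeft 1 v) 0 = knownA_0 ∧
    [base0.1, base1.1].foldl (fun S v => S ||| Nat.shiftLeft 1 v) knownA_34 = knownB_0 ∧
    stepOK 2 knownA_34 base0 = true ∧ stepOK 2 knownA_34 base1 = true ∧ vOK base0.1 = true ∧ vOK base1.1 = true ∧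
    ∀ k, vOK k = true → hasB knownB_8 k = true := by
  have h := boundChk_true
  simp only [boundChk, Bool.and_eq_true, List.all_eq_true, List.mem_range, decide_eq_true_eq, Nat.beq_eq,
    Bool.or_eq_true, Bool.not_eq_true', Nat.blt_eq] at h
  obtain ⟨⟨⟨⟨⟨⟨⟨h1, h2⟩, h3⟩, h4⟩, h5⟩, h6⟩, h7⟩, h8⟩ := h
  refine ⟨fun l hl => ⟨_, _, (h1 l hl).1.1, by omega, (h1 l hl).2⟩, h2, h3, h4, h5, h6, h7, fun k hk => ?_⟩
  have hlt : k < 5256 := by
    simp only [vOK] at hk
    cases e : Nat.blt k 5184 <;> simp only [e, cond_false, cond_true] at hk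
    · exact Nat.blt_eq.mp hk
    · have := Nat.blt_eq.mp e; omega
  rcases h8 k hlt with h' | h'
  · rw [hk] at h'; exact absurd h' (by simp)
  · exact h'

end CfsgLib.Chev.E62Two
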