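import Mathlib

/-!
Groups given by commutation rules of involutions up to central elements: collection of words, normal forms,
and homomorphisms out of such groups.
-/

set_option autoImplicit false

namespace CfsgLib.Chev.E62Two

open Subgroup

/-- A table of commutation rules: `x z = z x (W x z) (D x z)` for allowed pairs. -/
structure Tab where
  ok : ℕ → ℕ → Bool
  W : ℕ → ℕ → List ℕ
  D : ℕ → ℕ → ℕ

/-- the central elements used by the defects: four of them, multiplied as bit vectors -/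
structure Cen (Y : Type*) [Group Y] where
  ι : ℕ → Y
  central : ∀ a, ι a ∈ center Y
  zero : ι 0 = 1
  xor : ∀ a b, ι (a ^^^ b) = ι a * ι b
  mod4 : ∀ a, ι (a % 4) = ι a

namespace Cen

variable {Y : Type*} [Group Y] (c : Cen Y)

theorem sq (a : ℕ) : c.ι a * c.ι a = 1 := by rw [← c.xor, Nat.xor_self, c.zero]

theorem comm (a : ℕ) (x : Y) : x * c.ι a = c.ι a * x := mem_center_iff.1 (c.central a) x

theorem inv (a : ℕ) : (c.ι a)⁻¹ = c.ι a := inv_eq_of_mul_eq_one_right (c.sq a)

/-- the product of two systems of central elements -/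
def prod {Y' : Type*} [Group Y'] (c' : Cen Y') : Cen (Y × Y') where
  ι a := (c.ι a, c'.ι a)
  central a := mem_center_iff.2 fun x => Prod.ext (c.comm a x.1) (c'.comm a x.2)
  zero := by rw [c.zero, c'.zero]; rfl
  xor a b := Prod.ext (c.xor a b) (c'.xor a b)
  mod4 a := Prod.ext (c.mod4 a) (c'.mod4 a)

/-- no central elements -/
def trivial (Y : Type*) [Group Y] : Cen Y where
  ι _ := 1
  central _ := one_mem _
  zero := rfl
  xor _ _ := (one_mul 1).symm
  mod4 _ := rfl

end Cen

/-- the value of a word -/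
def ev {Y : Type*} [Group Y] (y : ℕ → Y) (w : List ℕ) : Y := (w.map y).prod

section Ev

variable {Y : Type*} [Group Y] (y : ℕ → Y)

@[simp] theorem ev_nil : ev y [] = 1 := rfl

@[simp] theorem ev_cons (a : ℕ) (w : List ℕ) : ev y (a :: w) = y a * ev y w := by simp [ev]

@[simp] theorem ev_append (v w : List ℕ) : ev y (v ++ w) = ev y v * ev y w := by simp [ev]

theorem map_ev {Y' : Type*} [Group Y'] (f : Y →* Y') (w : List ℕ) : f (ev y w) = ev (fun l => f (y l)) w := by
  simp [ev, map_list_prod, List.map_map, Function.comp_def]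

theorem ev_congr {y' : ℕ → Y} {w : List ℕ} (h : ∀ l ∈ w, y l = y' l) : ev y w = ev y' w := by
  rw [ev, ev, List.map_congr_left h]

theorem ev_mem {H : Subgroup Y} {w : List ℕ} (h : ∀ l ∈ w, y l ∈ H) : ev y w ∈ H :=
  list_prod_mem fun x hx => by
    obtain ⟨l, hl, rfl⟩ := List.mem_map.1 hx
    exact h l hl

end Ev

variable (T : Tab)

/-- the relations among the members of a set -/
structure Rel {Y : Type*} [Group Y] (c : Cen Y) (y : ℕ → Y) (S : ℕ → Prop) : Prop where
  sq : ∀ l, S l → y l * y l = 1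
  comm : ∀ x z, S x → S z → T.ok x z = true → y x * y z = y z * y x * ev y (T.W x z) * c.ι (T.D x z)

/-- the words of the relations stay in the set -/
def Closed (S : ℕ → Prop) : Prop := ∀ x z, S x → S z → T.ok x z = true → ∀ l ∈ T.W x z, S l

theorem Rel.mono {Y : Type*} [Group Y] {c : Cen Y} {y : ℕ → Y} {S S' : ℕ → Prop} (h : Rel T c y S)
    (hle : ∀ l, S' l → S l) : Rel T c y S' :=
  ⟨fun l hl => h.sq l (hle l hl), fun x z hx hz => h.comm x z (hle x hx) (hle z hz)⟩

theorem Rel.prod {Y Y' : Type*} [Group Y] [Group Y'] {c : Cen Y} {c' : Cen Y'} {y : ℕ → Y} {y' : ℕ → Y'}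
    {S : ℕ → Prop} (h : Rel T c y S) (h' : Rel T c' y' S) :
    Rel T (c.prod c') (fun l => (y l, y' l)) S := by
  have e : ∀ w, ev (fun l => (y l, y' l)) w = (ev y w, ev y' w) := fun w => by
    induction w with
    | nil => rfl
    | cons a w ih => simp [ih]
  exact ⟨fun l hl => Prod.ext (h.sq l hl) (h'.sq l hl),
    fun x z hx hz ho => by rw [e]; exact Prod.ext (h.comm x z hx hz ho) (h'.comm x z hx hz ho)⟩

/-- collection towards increasing words: processed letters reversed, the others, the defect so far -/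
noncomputable def Tab.coll : ℕ → List ℕ → List ℕ → ℕ → Option (List ℕ × ℕ)
  | 0, _, _, _ => none
  | _ + 1, L, [], d => some (L.reverse, d)
  | f + 1, [], x :: R, d => Tab.coll f [x] R d
  | f + 1, a :: L, x :: R, d =>
    bif Nat.beq a x then Tab.coll f L R d
    else bif Nat.ble a x then Tab.coll f (x :: a :: L) R d
    else bif T.ok a x then Tab.coll f L (x :: a :: (T.W a x ++ R)) (Nat.xor d (T.D a x))
    else none

/-- two words agree up to the central element -/
noncomputable def Tab.eqc (w₁ w₂ : List ℕ) (d : ℕ) : Bool :=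
  match T.coll 200 [] w₁ 0, T.coll 200 [] w₂ 0 with
  | some p, some q => decide (p.1 = q.1) && Nat.beq p.2 (Nat.xor q.2 d)
  | _, _ => false

section Sound

variable {T}
variable {Y : Type*} [Group Y] {c : Cen Y} {y : ℕ → Y} {S : ℕ → Prop} (hR : Rel T c y S) (hS : Closed T S)
include hR hS

theorem coll_spec : ∀ (f : ℕ) (L R : List ℕ) (d : ℕ) {p : List ℕ × ℕ}, (∀ l ∈ L, S l) → (∀ l ∈ R, S l) →
    T.coll f L R d = some p → ev y (L.reverse ++ R) * c.ι d = ev y p.1 * c.ι p.2
  | 0, _, _, _, p, _, _, h => by simp [Tab.coll] at h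
  | f + 1, L, [], d, p, _, _, h => by
    obtain rfl := Option.some.inj h
    simp
  | f + 1, [], x :: R, d, p, _, hR', h => by
    have := coll_spec f [x] R d (by simpa using hR' x) (fun l hl => hR' l (List.mem_cons_of_mem _ hl)) h
    simpa using this
  | f + 1, a :: L, x :: R, d, p, hL', hR', h => by
    have ha := hL' a (List.mem_cons_self ..)
    have hx := hR' x (List.mem_cons_self ..)
    have hL : ∀ l ∈ L, S l := fun l hl => hL' l (List.mem_cons_of_mem _ hl)
    have hR0 : ∀ l ∈ R, S l := fun l hl => hR' l (List.mem_cons_of_mem _ hl)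
    simp only [Tab.coll] at h
    cases e1 : Nat.beq a x <;> simp only [e1, cond_false, cond_true] at h
    · cases e2 : Nat.ble a x <;> simp only [e2, cond_false, cond_true] at h
      · cases e3 : T.ok a x <;> simp only [e3, cond_false, cond_true] at h
        · simp at h
        · have := coll_spec f L (x :: a :: (T.W a x ++ R)) (Nat.xor d (T.D a x)) hL
            (fun l hl => by
              simp only [List.mem_cons, List.mem_append] at hl
              rcases hl with rfl | rfl | hl | hl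
              exacts [hx, ha, hS a x ha hx e3 l hl, hR0 l hl]) h
          rw [← this]
          simp only [ev_append, ev_cons, List.reverse_cons, ev_nil, mul_one]
          rw [show Nat.xor d (T.D a x) = T.D a x ^^^ d from Nat.xor_comm _ _, c.xor]
          calc ev y L.reverse * y a * (y x * ev y R) * c.ι d
              = ev y L.reverse * (y a * y x) * ev y R * c.ι d := by group
            _ = ev y L.reverse * (y x * y a * ev y (T.W a x) * c.ι (T.D a x)) * ev y R * c.ι d := by
              rw [hR.comm a x ha hx e3]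
            _ = _ := by
              simp only [mul_assoc]
              rw [← mul_assoc (c.ι (T.D a x)) (ev y R), ← c.comm]
              simp only [mul_assoc]
      · have := coll_spec f (x :: a :: L) R d (fun l hl => by
          simp only [List.mem_cons] at hl
          rcases hl with rfl | rfl | hl
          exacts [hx, ha, hL l hl]) hR0 h
        rw [← this]
        simp [mul_assoc]
    · obtain rfl := Nat.eq_of_beq_eq_true e1
      have := coll_spec f L R d hL hR0 h
      rw [← this]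
      simp only [ev_append, ev_cons, List.reverse_cons, ev_nil, mul_one]
      rw [show ev y L.reverse * y a * (y a * ev y R) = ev y L.reverse * (y a * y a) * ev y R by group,
        hR.sq a ha, mul_one]

theorem eqc_spec {w₁ w₂ : List ℕ} {d : ℕ} (h1 : ∀ l ∈ w₁, S l) (h2 : ∀ l ∈ w₂, S l)
    (h : T.eqc w₁ w₂ d = true) : ev y w₁ = ev y w₂ * c.ι d := by
  unfold Tab.eqc at h
  split at h
  · next p q hp hq =>
    simp only [Bool.and_eq_true, decide_eq_true_eq, Nat.beq_eq] at h
    have a := coll_spec hR hS 200 [] w₁ 0 (by simp) h1 hp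
    have b := coll_spec hR hS 200 [] w₂ 0 (by simp) h2 hq
    simp only [List.reverse_nil, List.nil_append, c.zero, mul_one] at a b
    rw [a, b, h.1, mul_assoc, ← c.xor]
    exact congrArg (fun n => ev y q.1 * c.ι n) h.2
  · exact absurd h (by simp)

end Sound

/-- the subgroup of a list -/
def Sp {Y : Type*} [Group Y] (c : Cen Y) (y : ℕ → Y) (L : List ℕ) : Subgroup Y :=
  closure (Set.range c.ι ∪ y '' {l | l ∈ L})

section SpBasic

variable {Y : Type*} [Group Y] (c : Cen Y) (y : ℕ → Y) (L : List ℕ)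

theorem ι_mem (a : ℕ) : c.ι a ∈ Sp c y L := subset_closure (Or.inl ⟨a, rfl⟩)

theorem y_mem {l : ℕ} (hl : l ∈ L) : y l ∈ Sp c y L := subset_closure (Or.inr ⟨l, hl, rfl⟩)

variable {c y L}

theorem Sp_le {H : Subgroup Y} (h1 : ∀ a, c.ι a ∈ H) (h2 : ∀ l ∈ L, y l ∈ H) : Sp c y L ≤ H := by
  rw [Sp, closure_le]
  rintro z (⟨a, rfl⟩ | ⟨l, hl, rfl⟩)
  exacts [h1 a, h2 l hl]

theorem Sp_mono {L' : List ℕ} (h : ∀ l ∈ L, l ∈ L') : Sp c y L ≤ Sp c y L' :=
  Sp_le (ι_mem c y L') fun l hl => y_mem c y L' (h l hl)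

end SpBasic

/-- every head normalises the subgroup of its tail -/
noncomputable def Tab.tri : List ℕ → Bool
  | [] => true
  | h :: R => R.all (fun t => T.ok t h && T.ok h t && !Nat.beq t h && (T.W t h).all (fun l => R.contains l) &&
      (T.W h t).all (fun l => R.contains l)) && !T.ok h h && Tab.tri R

variable {T}

theorem tri_head {h : ℕ} {R : List ℕ} (ht : T.tri (h :: R) = true) :
    (∀ t ∈ R, T.ok t h = true ∧ T.ok h t = true ∧ t ≠ h ∧ (∀ l ∈ T.W t h, l ∈ R) ∧ ∀ l ∈ T.W h t, l ∈ R) ∧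
      T.ok h h = false ∧ T.tri R = true := by
  simp only [Tab.tri, Bool.and_eq_true, Bool.not_eq_true', List.all_eq_true, List.contains_iff_mem] at ht
  exact ⟨fun t htR => ⟨(ht.1.1 t htR).1.1.1.1, (ht.1.1 t htR).1.1.1.2,
    fun e => absurd (ht.1.1 t htR).1.1.2 (by simp [e]),
    (ht.1.1 t htR).1.2, (ht.1.1 t htR).2⟩, ht.1.2, ht.2⟩

theorem tri_closed : ∀ {L : List ℕ}, T.tri L = true → Closed T (· ∈ L)
  | [], _ => fun x z hx => absurd hx List.not_mem_nil
  | h :: R, ht => by
    obtain ⟨h1, h2, h3⟩ := tri_head ht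
    intro x z hx hz ho l hl
    rcases List.mem_cons.1 hx with hxe | hx' <;> rcases List.mem_cons.1 hz with hze | hz' <;> (try subst hxe) <;>
      (try subst hze)
    · rw [h2] at ho; exact absurd ho (by simp)
    · exact List.mem_cons_of_mem _ ((h1 z hz').2.2.2.2 l hl)
    · exact List.mem_cons_of_mem _ ((h1 x hx').2.2.2.1 l hl)
    · exact List.mem_cons_of_mem _ (tri_closed h3 x z hx' hz' ho l hl)

section Struct

variable {Y : Type*} [Group Y] {c : Cen Y} {y : ℕ → Y}

theorem conj_head {h : ℕ} {R : List ℕ} (ht : T.tri (h :: R) = true) (hR : Rel T c y (· ∈ h :: R))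
    {z : Y} (hz : z ∈ Sp c y R) : y h * z * (y h)⁻¹ ∈ Sp c y R := by
  have hh : (y h)⁻¹ = y h := inv_eq_of_mul_eq_one_right (hR.sq h (List.mem_cons_self ..))
  have key : Sp c y R ≤ (Sp c y R).comap (MulAut.conj (y h)).toMonoidHom := by
    refine Sp_le (fun a => ?_) fun t htR => ?_
    · show y h * c.ι a * (y h)⁻¹ ∈ Sp c y R
      rw [c.comm, mul_inv_cancel_right]; exact ι_mem c y R a
    · show y h * y t * (y h)⁻¹ ∈ Sp c y R
      obtain ⟨h1, -, -, h4, -⟩ := (tri_head ht).1 t htR
      have e := hR.comm t h (List.mem_cons_of_mem _ htR) (List.mem_cons_self ..) h1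
      rw [hh, show y h * y t * y h = y h * (y t * y h) by group, e, ← mul_assoc (y h), ← mul_assoc (y h),
        ← mul_assoc (y h) (y h), hR.sq h (List.mem_cons_self ..), one_mul]
      exact mul_mem (mul_mem (y_mem c y R htR) (ev_mem y fun l hl => y_mem c y R (h4 l hl))) (ι_mem c y R _)
  exact key hz

theorem mem_cons_Sp {h : ℕ} {R : List ℕ} (ht : T.tri (h :: R) = true) (hR : Rel T c y (· ∈ h :: R))
    {z : Y} (hz : z ∈ Sp c y (h :: R)) : z ∈ Sp c y R ∨ ∃ s ∈ Sp c y R, z = y h * s := by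
  have hsq := hR.sq h (List.mem_cons_self ..)
  have hh : (y h)⁻¹ = y h := inv_eq_of_mul_eq_one_right hsq
  have hconj : ∀ {s}, s ∈ Sp c y R → y h * s * y h ∈ Sp c y R := fun hs => by
    have := conj_head ht hR hs; rwa [hh] at this
  induction hz using Subgroup.closure_induction with
  | mem x hx =>
    rcases hx with ⟨a, rfl⟩ | ⟨l, hl, rfl⟩
    · exact Or.inl (ι_mem c y R a)
    · rcases List.mem_cons.1 hl with rfl | hl
      · exact Or.inr ⟨1, one_mem _, (mul_one _).symm⟩
      · exact Or.inl (y_mem c y R hl)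
  | one => exact Or.inl (one_mem _)
  | mul a b _ _ ha hb =>
    rcases ha with ha | ⟨s, hs, rfl⟩ <;> rcases hb with hb | ⟨t, htm, rfl⟩
    · exact Or.inl (mul_mem ha hb)
    · refine Or.inr ⟨y h * a * y h * t, mul_mem (hconj ha) htm, ?_⟩
      rw [show y h * (y h * a * y h * t) = (y h * y h) * a * (y h * t) by group, hsq, one_mul]
    · exact Or.inr ⟨s * b, mul_mem hs hb, mul_assoc _ _ _⟩
    · refine Or.inl ?_
      rw [show y h * s * (y h * t) = y h * s * y h * t by group]
      exact mul_mem (hconj hs) htm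
  | inv a _ ha =>
    rcases ha with ha | ⟨s, hs, rfl⟩
    · exact Or.inl (inv_mem ha)
    · refine Or.inr ⟨y h * s⁻¹ * y h, hconj (inv_mem hs), ?_⟩
      rw [_root_.mul_inv_rev, hh, show y h * (y h * s⁻¹ * y h) = (y h * y h) * (s⁻¹ * y h) by group, hsq, one_mul]

/-- normal forms -/
theorem exists_nf : ∀ {L : List ℕ}, T.tri L = true → Rel T c y (· ∈ L) → ∀ z ∈ Sp c y L,
    ∃ a < 4, ∃ l : List ℕ, l.Sublist L ∧ z = c.ι a * ev y l
  | [], _, _, z, hz => by
    have key : ∃ a, z = c.ι a := by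
      induction hz using Subgroup.closure_induction with
      | mem x hx =>
        rcases hx with ⟨a, rfl⟩ | ⟨l, hl, rfl⟩
        exacts [⟨a, rfl⟩, absurd hl List.not_mem_nil]
      | one => exact ⟨0, c.zero.symm⟩
      | mul a b _ _ ha hb =>
        obtain ⟨i, rfl⟩ := ha
        obtain ⟨j, rfl⟩ := hb
        exact ⟨i ^^^ j, (c.xor i j).symm⟩
      | inv a _ ha =>
        obtain ⟨i, rfl⟩ := ha
        exact ⟨i, c.inv i⟩
    obtain ⟨a, rfl⟩ := key
    exact ⟨a % 4, Nat.mod_lt _ (by norm_num), [], List.Sublist.refl _, by simp [c.mod4]⟩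
  | h :: R, ht, hR, z, hz => by
    have hR' := hR.mono T (S' := (· ∈ R)) fun l hl => List.mem_cons_of_mem _ hl
    rcases mem_cons_Sp ht hR hz with h' | ⟨s, hs, rfl⟩
    · obtain ⟨a, ha, l, hl, e⟩ := exists_nf (tri_head ht).2.2 hR' z h'
      exact ⟨a, ha, l, hl.cons h, e⟩
    · obtain ⟨a, ha, l, hl, rfl⟩ := exists_nf (tri_head ht).2.2 hR' s hs
      exact ⟨a, ha, h :: l, hl.cons_cons h, by rw [ev_cons, ← mul_assoc, c.comm, mul_assoc]⟩

/-- a part of the list and the rest -/
theorem exists_split (P : ℕ → Bool) : ∀ {L : List ℕ}, T.tri L = true → Rel T c y (· ∈ L) →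
    (∀ x z, x ∈ L → z ∈ L → T.ok x z = true → P x = P z → ∀ l ∈ T.W x z, P l = P x) →
    ∀ z ∈ Sp c y L, ∃ a ∈ Sp c y (L.filter P), ∃ b ∈ Sp c y (L.filter fun l => !P l), z = a * b
  | [], _, _, _, z, hz => ⟨z, hz, 1, one_mem _, (mul_one z).symm⟩
  | h :: R, ht, hR, hP, z, hz => by
    obtain ⟨hhd, -, htR⟩ := tri_head ht
    have hR' := hR.mono T (S' := (· ∈ R)) fun l hl => List.mem_cons_of_mem _ hl
    have ih := exists_split P htR hR' fun x z hx hz => hP x z (List.mem_cons_of_mem _ hx) (List.mem_cons_of_mem _ hz)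
    have sub : ∀ Q : ℕ → Bool, ∀ l ∈ R.filter Q, l ∈ (h :: R).filter Q := fun Q l hl => by
      rw [List.mem_filter] at hl ⊢
      exact ⟨List.mem_cons_of_mem _ hl.1, hl.2⟩
    have hsq := hR.sq h (List.mem_cons_self ..)
    rcases mem_cons_Sp ht hR hz with h' | ⟨s, hs, rfl⟩
    · obtain ⟨a, ha, b, hb, e⟩ := ih z h'
      exact ⟨a, Sp_mono (sub P) ha, b, Sp_mono (sub _) hb, e⟩
    · obtain ⟨a, ha, b, hb, rfl⟩ := ih s hs
      cases hPh : P h
      · have hha : y h * a * (y h)⁻¹ ∈ Sp c y R :=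
          conj_head ht hR (Sp_mono (fun l hl => (List.mem_filter.1 hl).1) ha)
        obtain ⟨a', ha', b', hb', e'⟩ := ih _ hha
        refine ⟨a', Sp_mono (sub P) ha', b' * (y h * b),
          mul_mem (Sp_mono (sub _) hb') (mul_mem (y_mem _ _ _ ?_) (Sp_mono (sub _) hb)), ?_⟩
        · rw [List.mem_filter]; exact ⟨List.mem_cons_self .., by simp [hPh]⟩
        · rw [← mul_assoc a' b', ← e']; group
      · refine ⟨y h * a, mul_mem (y_mem _ _ _ ?_) (Sp_mono (sub P) ha), b, Sp_mono (sub _) hb, by group⟩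
        rw [List.mem_filter]; exact ⟨List.mem_cons_self .., hPh⟩

/-- normal forms are unique -/
def NFInj (c : Cen Y) (y : ℕ → Y) (L : List ℕ) : Prop :=
  ∀ a < 4, ∀ b < 4, ∀ l₁ l₂ : List ℕ, l₁.Sublist L → l₂.Sublist L →
    c.ι a * ev y l₁ = c.ι b * ev y l₂ → a = b ∧ l₁ = l₂

/-- a homomorphism out of a group with unique normal forms -/
theorem exists_hom {L : List ℕ} (ht : T.tri L = true) (hR : Rel T c y (· ∈ L)) (hI : NFInj c y L)
    {Y' : Type*} [Group Y'] {c' : Cen Y'} {y' : ℕ → Y'} (hR' : Rel T c' y' (· ∈ L)) :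
    ∃ φ : ↥(Sp c y L) →* Y', (∀ a, φ ⟨c.ι a, ι_mem c y L a⟩ = c'.ι a) ∧
      ∀ l (hl : l ∈ L), φ ⟨y l, y_mem c y L hl⟩ = y' l := by
  have hP := hR.prod T hR'
  set yy : ℕ → Y × Y' := fun l => (y l, y' l)
  set cc := c.prod c'
  have hfst : ∀ g ∈ Sp cc yy L, g.1 ∈ Sp c y L :=
    Sp_le (H := (Sp c y L).comap (MonoidHom.fst Y Y')) (fun a => ι_mem c y L a) fun l hl => y_mem c y L hl
  let f : ↥(Sp cc yy L) →* ↥(Sp c y L) :=
    ((MonoidHom.fst Y Y').comp (Sp cc yy L).subtype).codRestrict _ fun g => hfst g g.2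
  have hinj : Function.Injective f := by
    rw [injective_iff_map_eq_one]
    rintro ⟨g, hg⟩ he
    obtain ⟨a, ha, l, hl, rfl⟩ := exists_nf ht hP g hg
    have hee : (cc.ι a * ev yy l).1 = 1 := congrArg Subtype.val he
    have e1 : (ev yy l).1 = ev y l := map_ev yy (MonoidHom.fst Y Y') l
    have e2 : c.ι a * ev y l = 1 := by rw [← e1]; exact hee
    obtain ⟨rfl, rfl⟩ := hI a ha 0 (by norm_num) l [] hl (List.nil_sublist _) (by rw [e2, c.zero]; simp)
    exact Subtype.ext (by simp [cc.zero])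
  have hsurj : Function.Surjective f := by
    have key : Sp c y L ≤ f.range.map (Sp c y L).subtype := by
      refine Sp_le (fun a => ⟨_, ⟨⟨_, ι_mem cc yy L a⟩, rfl⟩, rfl⟩) fun l hl => ⟨_, ⟨⟨_, y_mem cc yy L hl⟩, rfl⟩, rfl⟩
    rintro ⟨g, hg⟩
    obtain ⟨_, ⟨x, rfl⟩, hx⟩ := key hg
    exact ⟨x, Subtype.ext hx⟩
  let e := MulEquiv.ofBijective f ⟨hinj, hsurj⟩
  refine ⟨((MonoidHom.snd Y Y').comp (Sp cc yy L).subtype).comp e.symm.toMonoidHom, fun a => ?_, fun l hl => ?_⟩
  · have : e.symm ⟨c.ι a, ι_mem c y L a⟩ = ⟨cc.ι a, ι_mem cc yy L a⟩ :=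
      e.symm_apply_eq.2 (Subtype.ext rfl)
    show (e.symm ⟨c.ι a, ι_mem c y L a⟩ : Y × Y').2 = _
    rw [this]; rfl
  · have : e.symm ⟨y l, y_mem c y L hl⟩ = ⟨yy l, y_mem cc yy L hl⟩ := e.symm_apply_eq.2 (Subtype.ext rfl)
    show (e.symm ⟨y l, y_mem c y L hl⟩ : Y × Y').2 = _
    rw [this]

end Struct

end CfsgLib.Chev.E62Two
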