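import Cfsg.Agent.Lib.Chev.E62Two.Coll

/-!
A consistent table gives a finite group with unique normal forms.
-/

set_option autoImplicit false

namespace CfsgLib.Chev.E62Two

open Subgroup

variable (T : Tab)

/-- the word of the image of a tail element under the head -/
noncomputable def Tab.cw (h x : ℕ) : List ℕ := x :: T.W x h

/-- the image of a word -/
noncomputable def Tab.cwl (h : ℕ) (w : List ℕ) : List ℕ := w.flatMap (T.cw h)

/-- the defect of the image of a word -/
noncomputable def Tab.cd (h : ℕ) : List ℕ → ℕ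
  | [] => 0
  | x :: w => Nat.xor (T.D x h) (Tab.cd h w)

/-- the image of the head action respects the relations and has order two -/
noncomputable def Tab.stepChk (h : ℕ) (R : List ℕ) : Bool :=
  R.all fun x => T.eqc (T.cw h x ++ T.cw h x) [] 0 &&
    T.eqc (T.cwl h (T.cw h x)) [x] (Nat.xor (T.D x h) (T.cd h (T.cw h x))) &&
    T.eqc (T.cw h x) (x :: T.cwl h (T.W h x)) (Nat.xor (T.D x h) (Nat.xor (T.cd h (T.W h x)) (T.D h x))) &&
    R.all fun z => !T.ok x z ||
      T.eqc (T.cw h x ++ T.cw h z) (T.cw h z ++ T.cw h x ++ T.cwl h (T.W x z))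
        (Nat.xor (T.cd h (T.W x z)) (T.D x z))

/-- all levels are consistent -/
noncomputable def Tab.extChk : List ℕ → Bool
  | [] => true
  | h :: R => T.stepChk h R && Tab.extChk R

variable {T}

theorem zmod2_cases (k : Multiplicative (ZMod 2)) : k = 1 ∨ k = Multiplicative.ofAdd 1 := by
  revert k; decide

/-- a group with the relations of the list and unique normal forms -/
theorem exists_ext : ∀ {L : List ℕ}, T.tri L = true → T.extChk L = true →
    ∃ (Y : Type) (_ : Group Y) (_ : Finite Y) (c : Cen Y) (y : ℕ → Y),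
      Rel T c y (· ∈ L) ∧ NFInj c y L ∧ Sp c y L = ⊤
  | [], _, _ => by
    let i : ℕ → Multiplicative (ZMod 2 × ZMod 2) := fun a =>
      Multiplicative.ofAdd (if a.testBit 0 then 1 else 0, if a.testBit 1 then 1 else 0)
    let c : Cen (Multiplicative (ZMod 2 × ZMod 2)) :=
      { ι := i
        central := fun a => mem_center_iff.2 fun x => mul_comm x _
        zero := by simp [i]
        xor := fun a b => by
          simp only [i, ← ofAdd_add, Prod.mk_add_mk, Nat.testBit_xor]
          cases a.testBit 0 <;> cases b.testBit 0 <;> cases a.testBit 1 <;> cases b.testBit 1 <;> decide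
        mod4 := fun a => by
          simp only [i, show (4 : ℕ) = 2 ^ 2 from rfl, Nat.testBit_mod_two_pow]
          simp }
    refine ⟨_, inferInstance, inferInstance, c, fun _ => 1, ⟨fun l hl => absurd hl List.not_mem_nil,
      fun x z hx => absurd hx List.not_mem_nil⟩, ?_, ?_⟩
    · intro a ha b hb l₁ l₂ h1 h2 e
      rw [List.sublist_nil] at h1 h2
      subst h1 h2
      simp only [ev_nil, mul_one] at e
      refine ⟨?_, rfl⟩
      have : ∀ a < 4, ∀ b < 4, i a = i b → a = b := by decide
      exact this a ha b hb e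
    · refine eq_top_iff.2 fun x _ => ?_
      have : ∀ x : Multiplicative (ZMod 2 × ZMod 2), x = i 0 ∨ x = i 1 ∨ x = i 2 ∨ x = i 3 := by decide
      rcases this x with rfl | rfl | rfl | rfl <;> exact ι_mem c _ _ _
  | h :: R, ht, hc => by
    obtain ⟨hhd, hhh, htR⟩ := tri_head ht
    simp only [Tab.extChk, Bool.and_eq_true] at hc
    obtain ⟨hstep, hcR⟩ := hc
    obtain ⟨Y, _, _, c, y, hR, hI, hTop⟩ := exists_ext htR hcR
    have hcl : Closed T (· ∈ R) := tri_closed htR
    have hnot : h ∉ R := fun hm => (hhd h hm).2.2.1 rfl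
    simp only [Tab.stepChk, List.all_eq_true, Bool.and_eq_true, Bool.or_eq_true, Bool.not_eq_true'] at hstep
    -- letters stay in the tail
    have hw : ∀ x ∈ R, ∀ l ∈ T.cw h x, l ∈ R := fun x hx l hl => by
      rcases List.mem_cons.1 hl with rfl | hl
      exacts [hx, (hhd x hx).2.2.2.1 l hl]
    have hwl : ∀ w : List ℕ, (∀ l ∈ w, l ∈ R) → ∀ l ∈ T.cwl h w, l ∈ R := fun w hwm l hl => by
      obtain ⟨x, hx, hl⟩ := List.mem_flatMap.1 hl
      exact hw x (hwm x hx) l hl
    let y' : ℕ → Y := fun x => c.ι (T.D x h) * ev y (T.cw h x)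
    have hy' : ∀ w : List ℕ, ev y' w = c.ι (T.cd h w) * ev y (T.cwl h w) := by
      intro w
      induction w with
      | nil => simp [Tab.cd, Tab.cwl, c.zero]
      | cons a w ih =>
        have e : T.cwl h (a :: w) = T.cw h a ++ T.cwl h w := by simp [Tab.cwl]
        rw [ev_cons, ih, e, ev_append, Tab.cd, show Nat.xor (T.D a h) (T.cd h w) = T.D a h ^^^ T.cd h w from rfl,
          c.xor]
        simp only [y']
        rw [← mul_assoc (c.ι (T.D a h) * ev y (T.cw h a)), mul_assoc (c.ι (T.D a h)) (ev y (T.cw h a)),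
          c.comm (T.cd h w) (ev y (T.cw h a))]
        group
    have hR' : Rel T c y' (· ∈ R) := by
      refine ⟨fun x hx => ?_, fun x z hx hz ho => ?_⟩
      · have e := eqc_spec hR hcl (fun l hl => by
          rcases List.mem_append.1 hl with h' | h' <;> exact hw x hx l h') (by simp) (hstep x hx).1.1.1
        rw [ev_append, ev_nil, c.zero, mul_one] at e
        simp only [y']
        rw [mul_assoc, ← mul_assoc (ev y _), c.comm, mul_assoc (c.ι _) (ev y _), e, mul_one, c.sq]
      · have hk := (hstep x hx).2 z hz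
        rcases hk with hk | hk
        · rw [ho] at hk; exact absurd hk (by simp)
        have e := eqc_spec hR hcl (fun l hl => by
            rcases List.mem_append.1 hl with h' | h'
            exacts [hw x hx l h', hw z hz l h'])
          (fun l hl => by
            simp only [List.mem_append, or_assoc] at hl
            rcases hl with h' | h' | h'
            exacts [hw z hz l h', hw x hx l h', hwl _ (hcl x z hx hz ho) l h']) hk
        simp only [ev_append] at e
        rw [show Nat.xor (T.cd h (T.W x z)) (T.D x z) = T.cd h (T.W x z) ^^^ T.D x z from rfl, c.xor] at e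
        rw [hy']
        simp only [y']
        have key : ∀ a b p q : _, (c.ι a * p) * (c.ι b * q) = c.ι a * c.ι b * (p * q) := fun a b p q => by
          rw [mul_assoc, ← mul_assoc p, c.comm]; group
        rw [key, key, e, c.comm (T.D x h) (c.ι (T.D z h))]
        simp only [← mul_assoc]
        congr 1
        simp only [mul_assoc]
        rw [c.comm (T.cd h (T.W x z)) (ev y (T.cwl h (T.W x z)))]
    obtain ⟨φ₀, hφι, hφy⟩ := exists_hom htR hR hI hR'
    let φ : Y →* Y := φ₀.comp ((MonoidHom.id Y).codRestrict (Sp c y R) fun z => by rw [hTop]; trivial)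
    have fι : ∀ a, φ (c.ι a) = c.ι a := hφι
    have fy : ∀ x ∈ R, φ (y x) = y' x := hφy
    have fev : ∀ w : List ℕ, (∀ l ∈ w, l ∈ R) → φ (ev y w) = c.ι (T.cd h w) * ev y (T.cwl h w) := fun w hwm => by
      rw [map_ev, ← hy']; exact ev_congr _ fun l hl => fy l (hwm l hl)
    have finv : ∀ z, φ (φ z) = z := by
      have : φ.comp φ = MonoidHom.id Y := by
        refine MonoidHom.eq_of_eqOn_dense hTop ?_
        rintro _ (⟨a, rfl⟩ | ⟨x, hx, rfl⟩)
        · simp [fι]
        · have e := eqc_spec hR hcl (hwl _ (hw x hx)) (by simpa using hx) (hstep x hx).1.1.2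
          rw [ev_cons, ev_nil, mul_one, show Nat.xor (T.D x h) (T.cd h (T.cw h x)) = T.D x h ^^^ T.cd h (T.cw h x)
            from rfl, c.xor] at e
          simp only [MonoidHom.comp_apply, MonoidHom.id_apply]
          rw [fy x hx]
          simp only [y']
          rw [map_mul, fι, fev _ (hw x hx), e, ← c.xor (T.D x h) (T.cd h (T.cw h x)), c.comm _ (y x),
            ← mul_assoc (c.ι (T.cd h (T.cw h x))), ← c.xor, ← mul_assoc, ← c.xor]
          simp [← Nat.xor_assoc, Nat.xor_comm (T.D x h) (T.cd h (T.cw h x)), c.zero]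
      exact DFunLike.congr_fun this
    let Φ : MulAut Y := MulEquiv.ofBijective φ ⟨Function.LeftInverse.injective finv,
      Function.RightInverse.surjective finv⟩
    have hΦ : Φ * Φ = 1 := MulEquiv.ext finv
    let θ : Multiplicative (ZMod 2) →* MulAut Y :=
      { toFun := fun k => if k = 1 then 1 else Φ
        map_one' := by simp
        map_mul' := fun a b => by
          rcases zmod2_cases a with rfl | rfl <;> rcases zmod2_cases b with rfl | rfl <;>
            simp [show (Multiplicative.ofAdd (1 : ZMod 2) : Multiplicative (ZMod 2)) ≠ 1 by decide,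
              show (Multiplicative.ofAdd (1 : ZMod 2) : Multiplicative (ZMod 2)) * Multiplicative.ofAdd 1 = 1 by decide,
              hΦ] }
    let g : Multiplicative (ZMod 2) := Multiplicative.ofAdd 1
    have hθ : ∀ z, θ g z = φ z := fun z => by
      show (if g = 1 then (1 : MulAut Y) else Φ) z = _
      rw [if_neg (by decide)]; rfl
    let inl : Y →* Y ⋊[θ] Multiplicative (ZMod 2) := SemidirectProduct.inl
    let hh : Y ⋊[θ] Multiplicative (ZMod 2) := SemidirectProduct.inr g
    have hhh2 : hh * hh = 1 := by
      show SemidirectProduct.inr g * SemidirectProduct.inr g = 1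
      rw [← map_mul, show g * g = 1 by decide, map_one]
    have hcomm : ∀ z, hh * inl z = inl (φ z) * hh := fun z => by
      show SemidirectProduct.inr g * SemidirectProduct.inl z = _
      rw [← hθ, SemidirectProduct.inl_aut, map_inv, inv_mul_cancel_right]
    let c₁ : Cen (Y ⋊[θ] Multiplicative (ZMod 2)) :=
      { ι := fun a => inl (c.ι a)
        central := fun a => mem_center_iff.2 fun x => by
          rw [← SemidirectProduct.inl_left_mul_inr_right x]
          rcases zmod2_cases x.right with e | e <;> rw [e]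
          · rw [map_one, mul_one]
            exact (map_mul inl _ _).symm.trans ((congrArg inl (c.comm a _)).trans (map_mul inl _ _))
          · show inl x.left * hh * inl (c.ι a) = inl (c.ι a) * (inl x.left * hh)
            rw [mul_assoc, hcomm, fι, ← mul_assoc, ← map_mul, c.comm, map_mul, mul_assoc]
        zero := by show inl (c.ι 0) = 1; rw [c.zero, map_one]
        xor := fun a b => by show inl (c.ι _) = inl (c.ι a) * inl (c.ι b); rw [c.xor, map_mul]
        mod4 := fun a => congrArg inl (c.mod4 a) }
    let y₁ : ℕ → Y ⋊[θ] Multiplicative (ZMod 2) := fun l => if l = h then hh else inl (y l)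
    have hev : ∀ w : List ℕ, (∀ l ∈ w, l ∈ R) → ev y₁ w = inl (ev y w) := fun w hwm => by
      rw [map_ev]; exact ev_congr _ fun l hl => if_neg fun e : l = h => hnot (e ▸ hwm l hl)
    have yR : ∀ x ∈ R, y₁ x = inl (y x) := fun x hx => if_neg fun e : x = h => hnot (e ▸ hx)
    have yh : y₁ h = hh := if_pos rfl
    refine ⟨_, inferInstance, Finite.of_equiv _ SemidirectProduct.equivProd.symm, c₁, y₁, ⟨?_, ?_⟩, ?_, ?_⟩
    · intro l hl
      rcases List.mem_cons.1 hl with rfl | hl
      · rw [yh, hhh2]
      · rw [yR l hl, ← map_mul, hR.sq l hl, map_one]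
    · intro x z hx hz ho
      rcases List.mem_cons.1 hx with hxe | hxR <;> rcases List.mem_cons.1 hz with hze | hzR
      · rw [hxe, hze, hhh] at ho; exact absurd ho (by simp)
      · rw [hxe]
        have e := eqc_spec hR hcl (hw z hzR) (fun l hl => by
          rcases List.mem_cons.1 hl with rfl | hl
          exacts [hzR, hwl _ (hhd z hzR).2.2.2.2 l hl]) (hstep z hzR).1.2
        rw [ev_cons, show Nat.xor (T.D z h) (Nat.xor (T.cd h (T.W h z)) (T.D h z)) =
          T.D z h ^^^ (T.cd h (T.W h z) ^^^ T.D h z) from rfl, c.xor, c.xor] at e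
        rw [yh, yR z hzR, hev _ (hhd z hzR).2.2.2.2, hcomm, fy z hzR]
        show inl (c.ι (T.D z h) * ev y (T.cw h z)) * hh = inl (y z) * hh * inl (ev y (T.W h z)) * inl (c.ι (T.D h z))
        rw [mul_assoc (inl (y z)) hh, hcomm, fev _ (hhd z hzR).2.2.2.2, ← mul_assoc, mul_assoc _ hh, hcomm, fι,
          ← mul_assoc, ← map_mul, ← map_mul, e]
        congr 2
        rw [← c.comm (T.D z h), ← c.comm (T.cd h (T.W h z)) (ev y (T.cwl h (T.W h z)))]
        simp only [mul_assoc, ← c.xor]
        simp [Nat.xor_comm (T.D z h), Nat.xor_assoc]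
      · rw [hze, yh, yR x hxR, hev _ (hhd x hxR).2.2.2.1]
        show _ = hh * inl (y x) * inl (ev y (T.W x h)) * inl (c.ι (T.D x h))
        rw [mul_assoc hh, ← map_mul, mul_assoc hh, ← map_mul, hcomm, map_mul φ, fι]
        have : φ (y x * ev y (T.W x h)) * c.ι (T.D x h) = y x := by
          have h2 := finv (y x)
          rw [fy x hxR] at h2
          simp only [y', Tab.cw, ev_cons] at h2
          rw [map_mul, fι] at h2
          rw [← c.comm] at h2
          exact h2
        rw [this]
      · have hz' := hhd
        rw [yR x hxR, yR z hzR, hev _ (hcl x z hxR hzR ho)]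
        show _ = _ * inl (c.ι (T.D x z))
        rw [← map_mul, ← map_mul, ← map_mul, ← map_mul, hR.comm x z hxR hzR ho]
    · intro a ha b hb l₁ l₂ h1 h2 e
      have split : ∀ l : List ℕ, l.Sublist (h :: R) → l.Sublist R ∨ ∃ r, r.Sublist R ∧ l = h :: r := by
        intro l hl
        rcases List.sublist_cons_iff.1 hl with h' | ⟨r, rfl, hr⟩
        exacts [Or.inl h', Or.inr ⟨r, hr, rfl⟩]
      have nrm : ∀ a (l : List ℕ), l.Sublist R → c₁.ι a * ev y₁ l = inl (c.ι a * ev y l) ∧
          c₁.ι a * ev y₁ (h :: l) = inl (c.ι a * φ (ev y l)) * hh := fun a l hl => by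
        refine ⟨by rw [hev l hl.subset]; exact (map_mul inl _ _).symm, ?_⟩
        rw [ev_cons, yh, hev l hl.subset, hcomm, ← mul_assoc, map_mul]
      have rgt : ∀ z, (inl z).right = 1 := fun z => rfl
      have rgt' : ∀ z, (inl z * hh).right = g := fun z => by
        show (inl z).right * g = g
        rw [rgt, one_mul]
      rcases split l₁ h1 with p1 | ⟨r1, p1, rfl⟩ <;> rcases split l₂ h2 with p2 | ⟨r2, p2, rfl⟩
      · rw [(nrm a _ p1).1, (nrm b _ p2).1] at e
        exact hI a ha b hb _ _ p1 p2 (SemidirectProduct.inl_injective e)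
      · rw [(nrm a _ p1).1, (nrm b _ p2).2] at e
        exact absurd ((congrArg SemidirectProduct.right e).trans (rgt' _)) (by rw [rgt]; decide)
      · rw [(nrm a _ p1).2, (nrm b _ p2).1] at e
        exact absurd ((congrArg SemidirectProduct.right e).symm.trans (rgt' _)) (by rw [rgt]; decide)
      · rw [(nrm a _ p1).2, (nrm b _ p2).2] at e
        have e' := congrArg φ (SemidirectProduct.inl_injective (mul_right_cancel e))
        simp only [map_mul, fι, finv] at e'
        obtain ⟨rfl, rfl⟩ := hI a ha b hb _ _ p1 p2 e'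
        exact ⟨rfl, rfl⟩
    · refine eq_top_iff.2 fun x _ => ?_
      rw [← SemidirectProduct.inl_left_mul_inr_right x]
      refine mul_mem ?_ ?_
      · have hle : Sp c y R ≤ (Sp c₁ y₁ (h :: R)).comap inl := Sp_le (fun a => ι_mem c₁ y₁ _ a) fun l hl => by
          show inl (y l) ∈ Sp c₁ y₁ (h :: R)
          rw [← yR l hl]; exact y_mem c₁ y₁ _ (List.mem_cons_of_mem _ hl)
        exact hle (by rw [hTop]; trivial)
      · rcases zmod2_cases x.right with e | e <;> rw [e]
        · rw [map_one]; exact one_mem _
        · show hh ∈ _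
          rw [← yh]; exact y_mem c₁ y₁ _ (List.mem_cons_self ..)

end CfsgLib.Chev.E62Two
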