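import Cfsg.Agent.Lib.Chev.E62Two.Table
import Cfsg.Agent.Lib.Chev.E62Two.Ext

/-! The central extension of the positive unipotent group. -/

set_option autoImplicit false
set_option maxRecDepth 100000

namespace CfsgLib.Chev.E62Two

theorem extChk_posL : tabE.extChk posL = true := by decide +kernel

end CfsgLib.Chev.E62Two
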