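import Cfsg.Agent.Lib.Chev.E62Two.Tr
import Cfsg.Agent.Lib.Chev.E62Two.UGroup
import Cfsg.Agent.Lib.Schur.StableExt

/-!
The central extension of the positive unipotent part by a group of order four is stable, so the twisted group of
type E6 over two elements has a stem extension with that kernel.
-/

set_option autoImplicit false
set_option maxRecDepth 100000

namespace CfsgLib.Chev.E62Two

open Cfsg.Lie Matrix CfsgLib.Chev CfsgLib.Schur
open scoped commutatorElement

/-- the rules among orbits of one sign stay there -/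
noncomputable def negChk : Bool :=
  (List.range 48).all fun o => (List.range 48).all fun p =>
    (sums o p).all fun q => posO o || posO p || !posO q

theorem negChk_true : negChk = true := by decide +kernel

theorem closed_posL : Closed tabE (· ∈ posL) := tri_closed tri_posL

theorem posL_iff {l : ℕ} : l ∈ posL ↔ inR (fun o => posO o = true) l := by
  constructor
  · intro hl
    exact ⟨posL_lt l hl, by show posO (so l) = true; rw [← tab_spec.2.2 l (posL_lt l hl)]; exact List.contains_iff_mem.2 hl⟩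
  · rintro ⟨hl, hp⟩
    rw [← tab_spec.2.2 l hl] at hp
    exact List.contains_iff_mem.1 hp

theorem rcl_pos : RCl (fun o => posO o = true) := by
  have hlt : ∀ o, posO o = true → o < 48 := fun o h => by
    simp only [posO, Bool.and_eq_true, Nat.blt_eq] at h
    exact h.1
  exact ⟨hlt, fun o p ho hp q hq => ((tab_spec.2.1 o (hlt o ho)).2.2.2 p (hlt p hp) q hq).2 ho hp⟩

theorem tri_filter {T : Tab} (Q : ℕ → Bool) : ∀ {L : List ℕ}, T.tri L = true →
    (∀ x z, x ∈ L → z ∈ L → T.ok x z = true → Q x = true → Q z = true → ∀ l ∈ T.W x z, Q l = true) →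
    T.tri (L.filter Q) = true
  | [], _, _ => rfl
  | h :: R, ht, hQ => by
    obtain ⟨h1, h2, h3⟩ := tri_head ht
    have ih := tri_filter Q h3 fun x z hx hz => hQ x z (List.mem_cons_of_mem _ hx) (List.mem_cons_of_mem _ hz)
    cases hh : Q h
    · rw [List.filter_cons_of_neg (by simp [hh])]; exact ih
    · rw [List.filter_cons_of_pos hh]
      simp only [Tab.tri, Bool.and_eq_true, List.all_eq_true, List.contains_iff_mem, Bool.not_eq_true', List.mem_filter]
      refine ⟨⟨fun t ht' => ?_, h2⟩, ih⟩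
      obtain ⟨a, b, c, d, e⟩ := h1 t ht'.1
      refine ⟨⟨⟨⟨a, b⟩, by simp [← Bool.not_eq_true, Nat.beq_eq, c]⟩, fun l hl => ⟨d l hl, ?_⟩⟩, fun l hl => ⟨e l hl, ?_⟩⟩
      · exact hQ t h (List.mem_cons_of_mem _ ht'.1) (List.mem_cons_self ..) a ht'.2 hh l hl
      · exact hQ h t (List.mem_cons_self ..) (List.mem_cons_of_mem _ ht'.1) b hh ht'.2 l hl

/-- pairs whose defects and words show that the central elements are commutators -/
theorem wit_spec : (tabE.W 38 45 = [48] ∧ tabE.D 38 45 = 0) ∧ (tabE.W 36 49 = [64] ∧ tabE.D 36 49 = 0) ∧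
    (tabE.W 38 46 = [49] ∧ tabE.D 38 46 = 0) ∧ (tabE.W 36 47 = [48, 64] ∧ tabE.D 36 47 = 1) ∧
    (tabE.W 37 47 = [49, 64] ∧ tabE.D 37 47 = 2) ∧
    (∀ p ∈ [(38, 45), (36, 49), (38, 46), (36, 47), (37, 47)],
      (p : ℕ × ℕ).1 ∈ posL ∧ p.2 ∈ posL ∧ tabE.ok p.1 p.2 = true) := by
  decide +kernel

/-- the code of an element of the group of order four -/
def code2 (k : Multiplicative (ZMod 2 × ZMod 2)) : ℕ := k.toAdd.1.val + 2 * k.toAdd.2.val

theorem code2_spec : (∀ a b, code2 (a * b) = code2 a ^^^ code2 b) ∧ (∀ a, code2 a < 4) ∧ code2 1 = 0 ∧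
    (∀ a b, code2 a = code2 b → a = b) ∧ ∀ n < 4, ∃ a, code2 a = n := by
  unfold code2; decide

universe u

variable {K : Type u} [Field K] [Fintype K] {σ : K →+* K}

theorem exists_uExt (P : W4 K σ) (hK : Fintype.card K = 4) :
    ∃ (Y : Type) (_ : Group Y) (_ : Finite Y) (c : Cen Y) (y : ℕ → Y) (ξ : Y →* ↥(E62.tw σ).fix),
      Rel tabE c y (· ∈ posL) ∧ NFInj c y posL ∧ Sp c y posL = ⊤ ∧ (∀ a, ξ (c.ι a) = 1) ∧
      (∀ l ∈ posL, ξ (y l) = P.rt l) ∧ ξ.range = uPos K σ ∧
      ∃ j : Multiplicative (ZMod 2 × ZMod 2) →* Y, Function.Injective j ∧ ξ.ker = j.range ∧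
        ∀ z ∈ ξ.ker, ∃ a, z = c.ι a := by
  classical
  have hσ : ∀ x, σ x = x ^ 2 := fun x => by rw [P.frob, sq]
  have hK2 : Fintype.card K = 2 ^ 2 := hK
  haveI : Finite (GL chevE6.Idx K) := finite_GL
  obtain ⟨Y, _, _, c, y, hR, hI, hTop⟩ := exists_ext tri_posL extChk_posL
  obtain ⟨φ₀, hφι, hφy⟩ := exists_hom tri_posL hR hI ((rel_rt P).mono _ posL_lt)
  let ξ : Y →* ↥(E62.tw σ).fix :=
    φ₀.comp ((MonoidHom.id Y).codRestrict (Sp c y posL) fun z => by rw [hTop]; trivial)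
  have ξι : ∀ a, ξ (c.ι a) = 1 := hφι
  have ξy : ∀ l ∈ posL, ξ (y l) = P.rt l := hφy
  have hrange : ξ.range = uPos K σ := by
    rw [uPos_eq P hK, MonoidHom.range_eq_map, ← hTop, Sp, MonoidHom.map_closure, Sp]
    refine le_antisymm ((Subgroup.closure_le _).2 ?_) ((Subgroup.closure_le _).2 ?_)
    · rintro _ ⟨z, (⟨a, rfl⟩ | ⟨l, hl, rfl⟩), rfl⟩
      · rw [ξι]; exact one_mem _
      · rw [ξy l hl]; exact Subgroup.subset_closure (Or.inr ⟨l, hl, rfl⟩)
    · rintro _ (⟨a, rfl⟩ | ⟨l, hl, rfl⟩)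
      · exact one_mem _
      · exact Subgroup.subset_closure ⟨y l, Or.inr ⟨l, hl, rfl⟩, ξy l hl⟩
  -- the kernel
  let j : Multiplicative (ZMod 2 × ZMod 2) →* Y :=
    MonoidHom.mk' (fun k => c.ι (code2 k)) fun a b => by rw [code2_spec.1, c.xor]
  have hjinj : Function.Injective j := fun a b e =>
    code2_spec.2.2.2.1 a b (hI _ (code2_spec.2.1 a) _ (code2_spec.2.1 b) [] [] (List.nil_sublist _)
      (List.nil_sublist _) (show c.ι (code2 a) * ev y [] = c.ι (code2 b) * ev y [] by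
        rw [ev_nil, mul_one, mul_one]; exact e)).1
  have hjle : j.range ≤ ξ.ker := by
    rintro _ ⟨k, rfl⟩
    exact ξι _
  have hcardY : Nat.card Y ≤ 4 * 2 ^ 36 := by
    let f : Fin 4 × {l // l ∈ posL.sublists} → Y := fun p => c.ι p.1 * ev y p.2.1
    have hf : Function.Surjective f := fun z => by
      obtain ⟨a, ha, l, hl, rfl⟩ := exists_nf tri_posL hR z (hTop ▸ Subgroup.mem_top z)
      exact ⟨(⟨a, ha⟩, ⟨l, List.mem_sublists.2 hl⟩), rfl⟩
    refine (Nat.card_le_card_of_surjective f hf).trans ?_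
    rw [Nat.card_prod, Nat.card_fin, Nat.card_eq_fintype_card]
    refine Nat.mul_le_mul_left _ ?_
    refine le_trans (Fintype.card_le_of_injective (fun x => (⟨_, List.idxOf_lt_length_iff.2 x.2⟩ : Fin posL.sublists.length))
      fun a b e => Subtype.ext ((List.idxOf_inj a.2).1 (congrArg Fin.val e))) ?_
    rw [Fintype.card_fin, List.length_sublists]
    exact le_of_eq (congrArg (2 ^ ·) (show posL.length = 36 by rfl))
  have hker : ξ.ker = j.range := by
    refine (Subgroup.eq_of_le_of_card_ge hjle ?_).symm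
    have h1 := Subgroup.card_mul_index ξ.ker
    rw [Subgroup.index_ker, hrange] at h1
    have h2 : Nat.card ↥(uPos K σ) = 2 ^ 36 := by
      rw [← (E62.orders hσ hK2).1]
      exact Nat.card_congr
        { toFun := fun z => ⟨z.1.1, z.2, z.1.2⟩
          invFun := fun z => ⟨⟨z.1, z.2.2⟩, z.2.1⟩
          left_inv := fun _ => rfl
          right_inv := fun _ => rfl }
    rw [h2] at h1
    rw [Nat.card_congr (MonoidHom.ofInjective hjinj).symm.toEquiv]
    have : Nat.card (Multiplicative (ZMod 2 × ZMod 2)) = 4 := by simp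
    rw [this]
    have hp : 0 < 2 ^ 36 := by positivity
    exact Nat.le_of_mul_le_mul_right (h1.le.trans hcardY) hp
  have hkerι : ∀ z ∈ ξ.ker, ∃ a, z = c.ι a := fun z hz => by
    rw [hker] at hz
    obtain ⟨k, rfl⟩ := hz
    exact ⟨_, rfl⟩
  exact ⟨Y, inferInstance, inferInstance, c, y, ξ, hR, hI, hTop, ξι, ξy, hrange, j, hjinj, hker, hkerι⟩

theorem exists_two_cover (P : W4 K σ) (hK : Fintype.card K = 4) :
    ∃ (Γ : Type u) (_ : Group Γ) (_ : Finite Γ) (τ : Γ →* ↥(E62.tw σ).fix),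
      Cfsg.IsStemExtension τ ∧ Nonempty (τ.ker ≃* Multiplicative (ZMod 2 × ZMod 2)) := by
  classical
  have hσ : ∀ x, σ x = x ^ 2 := fun x => by rw [P.frob, sq]
  have hK2 : Fintype.card K = 2 ^ 2 := hK
  haveI : Finite (GL chevE6.Idx K) := finite_GL
  obtain ⟨Y, _, _, c, y, ξ, hR, hI, -, ξι, ξy, hrange, j, hjinj, hker, hkerι⟩ := exists_uExt P hK
  have hc : ξ.ker ≤ Subgroup.center Y := fun z hz => by
    obtain ⟨a, rfl⟩ := hkerι z hz; exact c.central a
  have h2 : ∀ z ∈ ξ.ker, z * z = 1 := fun z hz => by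
    obtain ⟨a, rfl⟩ := hkerι z hz; exact c.sq a
  -- commutators
  have hcm : ξ.ker ≤ _root_.commutator Y := by
    obtain ⟨⟨w1, d1⟩, ⟨w2, d2⟩, ⟨w3, d3⟩, ⟨w4, d4⟩, ⟨w5, d5⟩, hp⟩ := wit_spec
    have key : ∀ p ∈ [(38, 45), (36, 49), (38, 46), (36, 47), (37, 47)],
        ev y (tabE.W (p : ℕ × ℕ).1 p.2) * c.ι (tabE.D p.1 p.2) ∈ _root_.commutator Y := by
      intro p hpm
      obtain ⟨h1, h2', h3⟩ := hp p hpm
      have e := hR.comm p.1 p.2 h1 h2' h3
      have : ev y (tabE.W p.1 p.2) * c.ι (tabE.D p.1 p.2) = ⁅(y p.1)⁻¹, (y p.2)⁻¹⁆ := by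
        rw [commutatorElement_def, inv_inv, inv_inv, mul_assoc _ (y p.1) (y p.2), e]
        group
      rw [this]
      exact Subgroup.commutator_mem_commutator (Subgroup.mem_top _) (Subgroup.mem_top _)
    have k1 := key (38, 45) (by simp)
    have k2 := key (36, 49) (by simp)
    have k3 := key (38, 46) (by simp)
    have k4 := key (36, 47) (by simp)
    have k5 := key (37, 47) (by simp)
    simp only [w1, w2, w3, w4, w5, d1, d2, d3, d4, d5, ev_cons, ev_nil, mul_one, c.zero] at k1 k2 k3 k4 k5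
    have i1 : c.ι 1 ∈ _root_.commutator Y := by
      have := mul_mem (inv_mem (mul_mem k1 k2)) k4
      rwa [inv_mul_cancel_left] at this
    have i2 : c.ι 2 ∈ _root_.commutator Y := by
      have := mul_mem (inv_mem (mul_mem k3 k2)) k5
      rwa [inv_mul_cancel_left] at this
    intro z hz
    obtain ⟨a, rfl⟩ := hkerι z hz
    rw [← c.mod4]
    have ha : a % 4 < 4 := Nat.mod_lt _ (by norm_num)
    generalize a % 4 = n at ha
    interval_cases n
    · rw [c.zero]; exact one_mem _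
    · exact i1
    · exact i2
    · rw [show (3 : ℕ) = 1 ^^^ 2 from rfl, c.xor]; exact mul_mem i1 i2
  -- stability
  have hst : ∀ g, StableAt ξ (uPos K σ) g := by
    intro g
    obtain ⟨u₁, hu₁, t, ht, e, he, v, hv, eg⟩ := (E62.tw σ).fix_decomp (E62.split hσ hK2).tab g.2
    have hlet := (E62.split hσ hK2).tab.letters e he
    have hx : t * nW K stdE6.good (foldE62.flat e.word) ∈ (E62.tw σ).fix :=
      mul_mem ht.2 ((E62.tw σ).nFlat_fix hlet)
    have eg' : g = (⟨u₁, hu₁.2⟩ : ↥(E62.tw σ).fix) * ⟨_, hx⟩ *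
        ⟨v, ((E62.tw σ).V_le_pos _ hv).2⟩ := Subtype.ext (by
      show (g : GL chevE6.Idx K) = u₁ * (t * nW K stdE6.good (foldE62.flat e.word)) * v
      rw [eg]; group)
    rw [eg']
    refine StableAt.mul_mul hrange hc ?_ hu₁.1 ((E62.tw σ).V_le_pos _ hv).1
    obtain ⟨s, hs, hsx, hst⟩ := tr_mono P hK hlet ht hx
    generalize hxx : (⟨_, hx⟩ : ↥(E62.tw σ).fix) = x at hsx hst ⊢
    obtain ⟨y', hR', hy'⟩ := hst Y c y ξ (fun o => posO o = true) rcl_pos (hR.mono _ fun l hl => posL_iff.2 hl) ξι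
      fun l hl => ξy l (posL_iff.2 hl)
    let Q : ℕ → Bool := fun l => posO (s (so l))
    have hso : ∀ l ∈ posL, so l < 48 := fun l hl => (tab_spec.1 l (posL_lt l hl)).1
    have hQ : ∀ a b, a ∈ posL → b ∈ posL → tabE.ok a b = true → Q a = Q b → ∀ l ∈ tabE.W a b, Q l = Q a := by
      intro a b ha hb ho hab l hl
      have hm := ((tab_spec.1 a (posL_lt a ha)).2 b (posL_lt b hb) ho l hl).2
      have hs' := ((hs (so a) (hso a ha)).2.2 (so b) (hso b hb)).2 _ hm
      have h1 := (hs (so a) (hso a ha)).1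
      have h2 := (hs (so b) (hso b hb)).1
      simp only [Q] at hab ⊢
      cases hpa : posO (s (so a))
      · have := negChk_true
        simp only [negChk, List.all_eq_true, List.mem_range, Bool.or_eq_true, Bool.not_eq_true'] at this
        rcases this _ h1 _ h2 _ hs' with (h | h) | h
        · rw [hpa] at h; exact absurd h (by simp)
        · rw [← hab, hpa] at h; exact absurd h (by simp)
        · exact h
      · exact ((tab_spec.2.1 _ h1).2.2.2 _ h2 _ hs').2 hpa (hab ▸ hpa)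
    have ht₁ : tabE.tri (posL.filter Q) = true := tri_filter Q tri_posL fun a b ha hb ho q1 q2 l hl =>
      (hQ a b ha hb ho (q1.trans q2.symm) l hl).trans q1
    have hsub : ∀ l ∈ posL.filter Q, l ∈ posL := fun l hl => (List.mem_filter.1 hl).1
    have hinR : ∀ l ∈ posL.filter Q, inR (pre (fun o => posO o = true) s) l := fun l hl =>
      ⟨posL_lt l (hsub l hl), hso l (hsub l hl), (List.mem_filter.1 hl).2⟩
    obtain ⟨φ, hφ1, hφ2⟩ := exists_hom ht₁ (hR.mono _ hsub)
      (fun a ha b hb l₁ l₂ p₁ p₂ => hI a ha b hb l₁ l₂ (p₁.trans List.filter_sublist) (p₂.trans List.filter_sublist))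
      (hR'.mono _ hinR)
    have hdom : StableDom ξ (uPos K σ) x ≤ Sp c y (posL.filter Q) := by
      intro z hz
      rw [mem_stableDom] at hz
      have hz' : ξ z ∈ Sp (Cen.trivial ↥(E62.tw σ).fix) P.rt posL := by
        rw [← uPos_eq P hK, ← hrange]; exact ⟨z, rfl⟩
      obtain ⟨a, ha, b, hb, eab⟩ := exists_split Q tri_posL ((rel_rt P).mono _ posL_lt) hQ _ hz'
      have hxa : x * a * x⁻¹ ∈ uPos K σ := by
        have hle : Sp (Cen.trivial ↥(E62.tw σ).fix) P.rt (posL.filter Q) ≤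
            (uPos K σ).comap (MulAut.conj x).toMonoidHom := Sp_le (fun _ => one_mem _) fun l hl => by
          show x * P.rt l * x⁻¹ ∈ uPos K σ
          refine (?_ : P.xO (s (so l)) ≤ uPos K σ) (hsx l (posL_lt l (hsub l hl)))
          rw [W4.xO, Subgroup.closure_le]
          rintro _ ⟨m, ⟨hm, hmo⟩, rfl⟩
          exact rt_mem_uPos P hm (hmo ▸ (List.mem_filter.1 hl).2)
        exact hle ha
      have hxb : x * b * x⁻¹ ∈ uNeg K σ := by
        have hle : Sp (Cen.trivial ↥(E62.tw σ).fix) P.rt (posL.filter fun l => !Q l) ≤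
            (uNeg K σ).comap (MulAut.conj x).toMonoidHom := Sp_le (fun _ => one_mem _) fun l hl => by
          show x * P.rt l * x⁻¹ ∈ uNeg K σ
          refine (?_ : P.xO (s (so l)) ≤ uNeg K σ) (hsx l (posL_lt l (List.mem_filter.1 hl).1))
          rw [W4.xO, Subgroup.closure_le]
          rintro _ ⟨m, ⟨hm, hmo⟩, rfl⟩
          exact rt_mem_uNeg P hm (hmo ▸ by simpa [Q] using (List.mem_filter.1 hl).2)
        exact hle hb
      have hb1 : x * b * x⁻¹ = 1 := by
        refine uPos_inf_uNeg ?_ hxb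
        have := mul_mem (inv_mem hxa) hz
        rw [eab] at this
        convert this using 1
        group
      rw [conj_eq_one_iff] at hb1
      rw [hb1, mul_one] at eab
      have hmap : Sp (Cen.trivial ↥(E62.tw σ).fix) P.rt (posL.filter Q) ≤ (Sp c y (posL.filter Q)).map ξ :=
        Sp_le (fun _ => one_mem _) fun l hl => ⟨y l, y_mem c y _ hl, ξy l (hsub l hl)⟩
      obtain ⟨z₁, hz₁, e₁⟩ := hmap ha
      have hk : z₁⁻¹ * z ∈ ξ.ker := by rw [MonoidHom.mem_ker, map_mul, map_inv, e₁, eab, inv_mul_cancel]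
      obtain ⟨a', ha'⟩ := hkerι _ hk
      rw [show z = z₁ * c.ι a' by rw [← ha', mul_inv_cancel_left]]
      exact mul_mem hz₁ (ι_mem c y _ _)
    refine ⟨φ.comp (Subgroup.inclusion hdom), fun z => ?_, fun z hz => ?_⟩
    · show ξ (φ ⟨z, hdom z.2⟩) = _
      have key : (ξ.comp φ) = ((MulAut.conj x).toMonoidHom.comp ξ).comp (Sp c y (posL.filter Q)).subtype := by
        refine MonoidHom.eq_of_eqOn_dense (Subgroup.closure_closure_coe_preimage (k := Set.range c.ι ∪ y '' {l | l ∈ posL.filter Q})) ?_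
        rintro ⟨z, _⟩ hz
        rcases hz with ⟨a, rfl⟩ | ⟨l, hl, rfl⟩
        · show ξ (φ ⟨c.ι a, _⟩) = x * ξ (c.ι a) * x⁻¹
          rw [hφ1, ξι, mul_one, mul_inv_cancel]
        · show ξ (φ ⟨y l, _⟩) = x * ξ (y l) * x⁻¹
          rw [hφ2 l hl, hy' l (hinR l hl), ξy l (hsub l hl)]
      exact DFunLike.congr_fun key ⟨z, hdom z.2⟩
    · obtain ⟨a, ha⟩ := hkerι _ (MonoidHom.mem_ker.2 hz)
      show φ ⟨(z : Y), hdom z.2⟩ = z
      rw [show (⟨(z : Y), hdom z.2⟩ : ↥(Sp c y (posL.filter Q))) = ⟨c.ι a, ι_mem c y _ a⟩ from Subtype.ext ha, hφ1, ← ha]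
  have hodd : Odd (uPos K σ).index := by
    haveI : CharP K 2 := CharTwo.of_one_ne_zero_of_two_eq_zero one_ne_zero P.two
    haveI : Fact (Nat.Prime 2) := ⟨Nat.prime_two⟩
    obtain ⟨S, hS⟩ := TwOut.sylow_U (p := 2) (TwOut.E6.fam hσ hK2)
    rw [Nat.odd_iff, ← Nat.two_dvd_ne_zero]
    have := S.not_dvd_index
    rwa [hS] at this
  obtain ⟨Γ, hg, hfin, τ, hτ, ⟨iso⟩⟩ := exists_stem_of_stable (uPos K σ) hodd (E62.perfect hσ hK2) ξ hrange hc h2 hcm hst
  exact ⟨Γ, hg, hfin, τ, hτ,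
    ⟨iso.trans ((MulEquiv.subgroupCongr hker).trans (MonoidHom.ofInjective hjinj).symm)⟩⟩

end CfsgLib.Chev.E62Two
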