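import Cfsg.Agent.Lib.Chev.E62Two.Table

/-!
Checking derivations of equations between the central defects of lifted rules: two rewritings of one word to
the same word compare the products of the defects used.
-/

set_option autoImplicit false
set_option maxRecDepth 100000

namespace CfsgLib.Chev.E62Two

open scoped IsMulCommutative

/-- the codes of the defects: pairs and squares -/
noncomputable def vOK (k : ℕ) : Bool :=
  bif Nat.blt k 5184 then okP (k / 72) (k % 72) else Nat.blt k 5256

/-- rewrite the first two letters -/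
noncomputable def head2 (t : ℕ) : List ℕ → Option (List ℕ × ℕ)
  | a :: b :: w =>
    bif Nat.beq t 0 then (bif Nat.beq a b && Nat.blt a 72 then some (w, 5184 + a) else none)
    else (bif okP a b then some (b :: a :: (tabE.W a b ++ w), a * 72 + b) else none)
  | _ => none

/-- rewrite at a position -/
noncomputable def moveAt : ℕ → ℕ → List ℕ → Option (List ℕ × ℕ)
  | 0, t, w => head2 t w
  | _ + 1, _, [] => none
  | i + 1, t, a :: w => (moveAt i t w).map fun p => (a :: p.1, p.2)

/-- rewrite along a list of moves -/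
noncomputable def replay : List ℕ → List ℕ → Option (List ℕ × List ℕ)
  | [], w => some (w, [])
  | m :: ms, w =>
    match moveAt (m / 2) (m % 2) w with
    | none => none
    | some p => (replay ms p.1).map fun q => (q.1, p.2 :: q.2)

/-- unpack a list of numbers below `B - 1`, offset by one -/
noncomputable def unp (B : ℕ) : ℕ → ℕ → List ℕ
  | 0, _ => []
  | f + 1, n => bif Nat.beq n 0 then [] else (n % B - 1) :: unp B f (n / B)

/-- membership of a code in a bit set -/
noncomputable def hasB (S k : ℕ) : Bool := Nat.beq (Nat.shiftRight S k % 2) 1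

/-- the number of occurrences -/
noncomputable def occ (v : ℕ) : List ℕ → ℕ
  | [] => 0
  | a :: l => (bif Nat.beq a v then 1 else 0) + occ v l

/-- remove one occurrence -/
noncomputable def pull (x : ℕ) : List ℕ → Option (List ℕ)
  | [] => none
  | a :: l => bif Nat.beq a x then some l else (pull x l).map (List.cons a)

/-- remove common entries -/
noncomputable def cancelL : List ℕ → List ℕ → List ℕ × List ℕ
  | [], l₂ => ([], l₂)
  | x :: l₁, l₂ =>
    match pull x l₂ with
    | some l => cancelL l₁ l
    | none => let r := cancelL l₁ l₂; (x :: r.1, r.2)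

theorem pull_spec {x : ℕ} : ∀ {l l' : List ℕ}, pull x l = some l' → l.Perm (x :: l')
  | [], l', h => by simp [pull] at h
  | a :: l, l', h => by
    simp only [pull] at h
    cases e : Nat.beq a x <;> simp only [e, cond_false, cond_true] at h
    · obtain ⟨m, hm, rfl⟩ := Option.map_eq_some_iff.1 h
      exact ((pull_spec hm).cons a).trans (List.Perm.swap x a m)
    · obtain rfl := Option.some.inj h
      obtain rfl := Nat.eq_of_beq_eq_true e
      rfl

theorem cancelL_spec : ∀ l₁ l₂ : List ℕ, ∃ C : List ℕ,
    l₁.Perm (C ++ (cancelL l₁ l₂).1) ∧ l₂.Perm (C ++ (cancelL l₁ l₂).2)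
  | [], l₂ => ⟨[], by simp [cancelL]⟩
  | x :: l₁, l₂ => by
    simp only [cancelL]
    split
    · next l h =>
      obtain ⟨C, h1, h2⟩ := cancelL_spec l₁ l
      exact ⟨x :: C, h1.cons x, (pull_spec h).trans (h2.cons x)⟩
    · obtain ⟨C, h1, h2⟩ := cancelL_spec l₁ l₂
      exact ⟨C, (h1.cons x).trans List.perm_middle.symm, h2⟩

/-- an equation in which the defect `v` occurs `d` times more on one side and all others are known -/
noncomputable def stepOK (d S : ℕ) (e : ℕ × ℕ × ℕ × ℕ) : Bool :=
  match replay (unp 256 80 e.2.2.1) (unp 128 8 e.2.1), replay (unp 256 80 e.2.2.2) (unp 128 8 e.2.1) with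
  | some p, some q =>
    let r := cancelL p.2 q.2
    decide (p.1 = q.1) && (r.1.all fun x => Nat.beq x e.1 || hasB S x) &&
      (r.2.all fun x => Nat.beq x e.1 || hasB S x) &&
      (Nat.beq (occ e.1 r.1) (occ e.1 r.2 + d) || Nat.beq (occ e.1 r.2) (occ e.1 r.1 + d))
  | _, _ => false

/-- the steps, with the final bit set -/
noncomputable def runB : ℕ → List (ℕ × ℕ × ℕ × ℕ) → ℕ → Bool
  | S, [], T => Nat.beq S T
  | S, e :: l, T => stepOK 1 S e && runB (S ||| Nat.shiftLeft 1 e.1) l T

theorem hasB_insert {S v k : ℕ} (h : hasB (S ||| Nat.shiftLeft 1 v) k = true) : k = v ∨ hasB S k = true := by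
  have key : ∀ n, hasB n k = n.testBit k := fun n => by
    rw [hasB, Bool.eq_iff_iff, Nat.beq_eq, Nat.testBit_eq_decide_div_mod_eq, decide_eq_true_eq,
      Nat.shiftRight_eq', Nat.shiftRight_eq_div_pow]
  rw [key, Nat.shiftLeft_eq', Nat.testBit_or, Nat.one_shiftLeft, Nat.testBit_two_pow, Bool.or_eq_true,
    decide_eq_true_eq] at h
  rw [key]
  exact h.symm.imp Eq.symm id

variable {X : Type*} [Group X] (a : ℕ → X)

/-- the defect of a code -/
noncomputable def dv (k : ℕ) : X :=
  bif Nat.blt k 5184 then (a (k % 72) * a (k / 72) * ev a (tabE.W (k / 72) (k % 72)))⁻¹ * (a (k / 72) * a (k % 72))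
  else a (k - 5184) * a (k - 5184)

/-- the defects are central -/
def Central : Prop := ∀ k, vOK k = true → dv a k ∈ Subgroup.center X

variable {a}

theorem pair_code {x z : ℕ} (h : okP x z = true) :
    Nat.blt (x * 72 + z) 5184 = true ∧ (x * 72 + z) / 72 = x ∧ (x * 72 + z) % 72 = z ∧
      vOK (x * 72 + z) = true := by
  have h' := h
  simp only [okP, Bool.and_eq_true, Nat.blt_eq] at h'
  obtain ⟨⟨⟨hx, hz⟩, -⟩, -⟩ := h'
  have hk : Nat.blt (x * 72 + z) 5184 = true := by rw [Nat.blt_eq]; omega
  have e1 : (x * 72 + z) / 72 = x := by omega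
  have e2 : (x * 72 + z) % 72 = z := by omega
  exact ⟨hk, e1, e2, by simp [vOK, hk, e1, e2, h]⟩

theorem dv_pair {x z : ℕ} (h : okP x z = true) :
    dv a (x * 72 + z) = (a z * a x * ev a (tabE.W x z))⁻¹ * (a x * a z) := by
  obtain ⟨hk, e1, e2, -⟩ := pair_code h
  simp [dv, hk, e1, e2]

theorem dv_sq (x : ℕ) : dv a (5184 + x) = a x * a x := by
  have hk : Nat.blt (5184 + x) 5184 = false := by rw [← Bool.not_eq_true, Nat.blt_eq]; omega
  simp [dv, hk]

theorem vOK_sq {x : ℕ} (hx : x < 72) : vOK (5184 + x) = true := by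
  have hk : Nat.blt (5184 + x) 5184 = false := by rw [← Bool.not_eq_true, Nat.blt_eq]; omega
  simp only [vOK, hk, cond_false, Nat.blt_eq]; omega

theorem comm_of {k : ℕ} (hc : Central a) (hk : vOK k = true) (x : X) : dv a k * x = x * dv a k :=
  ((Subgroup.mem_center_iff.1 (hc k hk)) x).symm

theorem head2_spec {t : ℕ} : ∀ {w : List ℕ} {p : List ℕ × ℕ}, head2 t w = some p → Central a →
    ev a w = ev a p.1 * dv a p.2 ∧ vOK p.2 = true
  | [], p, h, _ => by simp [head2] at h
  | [_], p, h, _ => by simp [head2] at h
  | x :: y :: w, p, h, hc => by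
    simp only [head2] at h
    cases ht : Nat.beq t 0 <;> simp only [ht, cond_false, cond_true] at h
    · cases hp : okP x y <;> simp only [hp, cond_false, cond_true] at h
      · exact absurd h (by simp)
      · obtain rfl := Option.some.inj h
        obtain ⟨-, -, -, hv⟩ := pair_code hp
        refine ⟨?_, hv⟩
        simp only [ev_cons, ev_append]
        calc a x * (a y * ev a w)
            = (a y * a x * ev a (tabE.W x y)) * dv a (x * 72 + y) * ev a w := by rw [dv_pair hp]; group
          _ = _ := by
            rw [mul_assoc _ (dv a (x * 72 + y)), comm_of hc hv]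
            simp only [mul_assoc]
    · cases hp : (Nat.beq x y && Nat.blt x 72) <;> simp only [hp, cond_false, cond_true] at h
      · exact absurd h (by simp)
      · simp only [Bool.and_eq_true, Nat.beq_eq, Nat.blt_eq] at hp
        obtain rfl := Option.some.inj h
        obtain ⟨rfl, hx⟩ := hp
        refine ⟨?_, vOK_sq hx⟩
        simp only [ev_cons]
        rw [← comm_of hc (vOK_sq hx), ← mul_assoc, dv_sq]

theorem moveAt_spec : ∀ {i t : ℕ} {w : List ℕ} {p : List ℕ × ℕ}, moveAt i t w = some p → Central a →
    ev a w = ev a p.1 * dv a p.2 ∧ vOK p.2 = true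
  | 0, _, w, p, h, hc => head2_spec (by simpa [moveAt] using h) hc
  | _ + 1, _, [], p, h, _ => by simp [moveAt] at h
  | i + 1, t, x :: w, p, h, hc => by
    simp only [moveAt, Option.map_eq_some_iff] at h
    obtain ⟨q, hq, rfl⟩ := h
    obtain ⟨h1, h2⟩ := moveAt_spec hq hc
    refine ⟨?_, h2⟩
    simp only [ev_cons] at h1 ⊢
    rw [h1, mul_assoc]

theorem replay_spec : ∀ {ms w : List ℕ} {p : List ℕ × List ℕ}, replay ms w = some p → Central a →
    ev a w = ev a p.1 * (p.2.map (dv a)).prod ∧ ∀ x ∈ p.2, vOK x = true
  | [], w, p, h, _ => by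
    obtain rfl := Option.some.inj h
    simp
  | m :: ms, w, p, h, hc => by
    simp only [replay] at h
    split at h
    · exact absurd h (by simp)
    · next r hr =>
      obtain ⟨q, hq, rfl⟩ := Option.map_eq_some_iff.1 h
      obtain ⟨h1, h2⟩ := moveAt_spec hr hc
      obtain ⟨h3, h4⟩ := replay_spec hq hc
      refine ⟨?_, List.forall_mem_cons.2 ⟨h2, h4⟩⟩
      rw [h1, h3, List.map_cons, List.prod_cons, mul_assoc, ← comm_of hc h2]

/-- what a bit set asserts -/
def Holds (a : ℕ → X) (S : ℕ) : Prop := ∀ k, hasB S k = true → dv a k = 1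

theorem occ_prod {C : Type*} [Monoid C] (D : ℕ → C) (v : ℕ) :
    ∀ l : List ℕ, (∀ x ∈ l, x = v ∨ D x = 1) → (l.map D).prod = D v ^ occ v l
  | [], _ => by simp [occ]
  | x :: l, h => by
    rw [List.map_cons, List.prod_cons, occ_prod D v l fun y hy => h y (List.mem_cons_of_mem _ hy), occ]
    cases e : Nat.beq x v
    · have hne : x ≠ v := fun e' => by simp [e', Nat.beq_eq] at e
      rcases h x (List.mem_cons_self ..) with h' | h'
      · exact absurd h' hne
      · simp [h']
    · rw [Nat.beq_eq] at e
      subst e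
      simp [pow_add]

theorem step_spec (hc : Central a) {d S : ℕ} {e : ℕ × ℕ × ℕ × ℕ}
    (h : stepOK d S e = true) (hS : Holds a S) : dv a e.1 ^ d = 1 := by
  unfold stepOK at h
  split at h
  · next p q hp hq =>
    simp only [Bool.and_eq_true, decide_eq_true_eq, List.all_eq_true, Bool.or_eq_true, Nat.beq_eq] at h
    obtain ⟨⟨⟨huv, ha⟩, hb⟩, hcnt⟩ := h
    obtain ⟨e1, v1⟩ := replay_spec hp hc
    obtain ⟨e2, v2⟩ := replay_spec hq hc
    rw [← huv] at e2
    have he := mul_left_cancel (e1.symm.trans e2)
    classical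
    let dd : ℕ → Subgroup.center X := fun k => if hk : dv a k ∈ Subgroup.center X then ⟨dv a k, hk⟩ else 1
    have hdd : ∀ l : List ℕ, (∀ x ∈ l, vOK x = true) → (((l.map dd).prod : Subgroup.center X) : X) = (l.map (dv a)).prod := by
      intro l hl
      induction l with
      | nil => rfl
      | cons x l ih =>
        rw [List.map_cons, List.map_cons, List.prod_cons, List.prod_cons, Subgroup.coe_mul,
          ih fun y hy => hl y (List.mem_cons_of_mem _ hy)]
        simp only [dd, dif_pos (hc x (hl x (List.mem_cons_self ..)))]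
    rw [← hdd p.2 v1, ← hdd q.2 v2] at he
    replace he := Subtype.ext he
    obtain ⟨C, h1, h2⟩ := cancelL_spec p.2 q.2
    rw [(h1.map dd).prod_eq, (h2.map dd).prod_eq, List.map_append, List.map_append, List.prod_append,
      List.prod_append] at he
    replace he := mul_left_cancel he
    have h0 : ∀ x, hasB S x = true → dd x = 1 := fun x hx => by
      simp only [dd]
      split
      · exact Subtype.ext (hS x hx)
      · rfl
    rw [occ_prod dd e.1 _ fun x hx => (ha x hx).imp id (h0 x),
      occ_prod dd e.1 _ fun x hx => (hb x hx).imp id (h0 x)] at he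
    have hv : d = 0 ∨ vOK e.1 = true := by
      by_contra hcon
      push Not at hcon
      have hno : ∀ l : List ℕ, (∀ x ∈ l, vOK x = true) → occ e.1 l = 0 := by
        intro l hl
        induction l with
        | nil => rfl
        | cons x l ih =>
          rw [occ, ih fun y hy => hl y (List.mem_cons_of_mem _ hy)]
          cases hx : Nat.beq x e.1
          · rfl
          · rw [Nat.beq_eq] at hx
            exact absurd (hx ▸ hl x (List.mem_cons_self ..)) hcon.2
      have o1 := hno _ fun x hx => v1 x (h1.symm.subset (List.mem_append_right C hx))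
      have o2 := hno _ fun x hx => v2 x (h2.symm.subset (List.mem_append_right C hx))
      rw [o1, o2] at hcnt
      exact hcon.1 (by omega)
    rcases hv with rfl | hv
    · exact pow_zero _
    suffices hdd1 : dd e.1 ^ d = 1 by
      have := congrArg Subtype.val hdd1
      simp only [dd, dif_pos (hc e.1 hv)] at this
      simpa using this
    rcases hcnt with c | c <;> rw [c, pow_add] at he
    · exact mul_eq_left.1 he
    · exact mul_eq_left.1 he.symm
  · exact absurd h (by simp)

theorem run_spec (hc : Central a) : ∀ {S : ℕ} {l : List (ℕ × ℕ × ℕ × ℕ)} {T : ℕ}, runB S l T = true →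
    Holds a S → Holds a T
  | S, [], T, h, hS => by
    rw [runB, Nat.beq_eq] at h
    rwa [← h]
  | S, e :: l, T, h, hS => by
    simp only [runB, Bool.and_eq_true] at h
    refine run_spec hc h.2 fun k hk => ?_
    rcases hasB_insert hk with rfl | hk
    · simpa using step_spec hc h.1 hS
    · exact hS k hk

theorem holds_fold : ∀ (l : List ℕ) (S : ℕ), (∀ x ∈ l, dv a x = 1) → Holds a S →
    Holds a (l.foldl (fun S v => S ||| Nat.shiftLeft 1 v) S)
  | [], _, _, hS => hS
  | v :: l, S, h, hS => by
    refine holds_fold l _ (fun x hx => h x (List.mem_cons_of_mem _ hx)) fun k hk => ?_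
    rcases hasB_insert hk with rfl | hk
    · exact h _ (List.mem_cons_self ..)
    · exact hS k hk

theorem map_dv {Y : Type*} [Group Y] (f : X →* Y) (k : ℕ) : f (dv a k) = dv (fun l => f (a l)) k := by
  unfold dv
  cases Nat.blt k 5184 <;> simp [map_ev]

end CfsgLib.Chev.E62Two
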