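import Cfsg.Agent.Lib.Chev.E62Two.Table

/-! The six transformations respect the rules. -/

set_option autoImplicit false
set_option maxRecDepth 100000

namespace CfsgLib.Chev.E62Two

/-- all symbols -/
noncomputable def genChk (g : ℕ) : Bool := (List.range 72).all (genAt g)

theorem genChk0 : genChk 0 = true := by decide +kernel
theorem genChk1 : genChk 1 = true := by decide +kernel
theorem genChk2 : genChk 2 = true := by decide +kernel
theorem genChk3 : genChk 3 = true := by decide +kernel
theorem genChk4 : genChk 4 = true := by decide +kernel
theorem genChk5 : genChk 5 = true := by decide +kernel

end CfsgLib.Chev.E62Two
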