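import Cfsg.Agent.Lib.Chev.E62Two.Upper
import Cfsg.Agent.Lib.Chev.E62Mult.Cover
import Cfsg.Agent.Lib.Chev.Twist.FieldFix

/-!
The multiplier of the twisted group of type E6 over two elements.
-/

set_option autoImplicit false
set_option maxRecDepth 100000

namespace CfsgLib.Chev.E62Two

open Cfsg.Lie Matrix CfsgLib.Chev CfsgLib.Schur
open scoped commutatorElement

universe u

/-- the product of two stem extensions with coprime kernels -/
theorem fibre {G : Type u} [Group G] (hperf : _root_.commutator G = ⊤) {Γ₁ Γ₂ : Type u} [Group Γ₁] [Group Γ₂]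
    [Finite Γ₁] [Finite Γ₂] (π₁ : Γ₁ →* G) (π₂ : Γ₂ →* G) (h₁ : Cfsg.IsStemExtension π₁)
    (h₂ : Cfsg.IsStemExtension π₂) (hco : (Nat.card π₁.ker).Coprime (Nat.card π₂.ker)) :
    ∃ (Γ : Type u) (_ : Group Γ) (_ : Finite Γ) (π : Γ →* G),
      Cfsg.IsStemExtension π ∧ Nonempty (π.ker ≃* π₁.ker × π₂.ker) := by
  obtain ⟨s1, c1, t1⟩ := h₁
  obtain ⟨s2, c2, t2⟩ := h₂
  let S : Subgroup (Γ₁ × Γ₂) := (π₁.comp (MonoidHom.fst Γ₁ Γ₂)).eqLocus (π₂.comp (MonoidHom.snd Γ₁ Γ₂))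
  have hS : ∀ p : S, π₁ (p : Γ₁ × Γ₂).1 = π₂ (p : Γ₁ × Γ₂).2 := fun p => p.2
  let π : S →* G := (π₁.comp (MonoidHom.fst Γ₁ Γ₂)).comp S.subtype
  have hk : ∀ p : S, p ∈ π.ker → (p : Γ₁ × Γ₂).1 ∈ π₁.ker ∧ (p : Γ₁ × Γ₂).2 ∈ π₂.ker := fun p hp =>
    ⟨hp, (hS p).symm.trans hp⟩
  let iso : π.ker ≃* π₁.ker × π₂.ker :=
    { toFun := fun p => (⟨_, (hk p.1 p.2).1⟩, ⟨_, (hk p.1 p.2).2⟩)
      invFun := fun q => ⟨⟨((q.1 : Γ₁), (q.2 : Γ₂)), q.1.2.trans q.2.2.symm⟩, q.1.2⟩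
      left_inv := fun p => rfl
      right_inv := fun q => rfl
      map_mul' := fun p p' => rfl }
  refine ⟨S, inferInstance, inferInstance, π, ⟨fun g => ?_, fun p hp => ?_, fun p hp => ?_⟩, ⟨iso⟩⟩
  · obtain ⟨x, hx⟩ := s1 g
    obtain ⟨y, hy⟩ := s2 g
    exact ⟨⟨(x, y), hx.trans hy.symm⟩, hx⟩
  · rw [Subgroup.mem_center_iff]
    intro w
    exact Subtype.ext (Prod.ext (Subgroup.mem_center_iff.1 (c1 (hk p hp).1) _) (Subgroup.mem_center_iff.1 (c2 (hk p hp).2) _))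
  · -- the commutator subgroup projects onto both factors
    have perf : ∀ {Δ : Type u} [Group Δ] (τ : Δ →* G), Function.Surjective τ → τ.ker ≤ _root_.commutator Δ →
        _root_.commutator Δ = ⊤ := by
      intro Δ _ τ hτ ht
      rw [eq_top_iff]
      intro x _
      have hmap : (_root_.commutator Δ).map τ = ⊤ := by
        rw [commutator_def, Subgroup.map_commutator, Subgroup.map_top_of_surjective τ hτ, ← commutator_def, hperf]
      obtain ⟨c, hc, e⟩ := (show τ x ∈ (_root_.commutator Δ).map τ by rw [hmap]; exact Subgroup.mem_top _)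
      have h1 : c⁻¹ * x ∈ τ.ker := by rw [MonoidHom.mem_ker, map_mul, map_inv, e, inv_mul_cancel]
      have h2 := mul_mem hc (ht h1)
      rwa [mul_inv_cancel_left] at h2
    have p1 : ∀ x : Γ₁, ∃ q : S, q ∈ _root_.commutator S ∧ (q : Γ₁ × Γ₂).1 = x := by
      have hf : Function.Surjective ((MonoidHom.fst Γ₁ Γ₂).comp S.subtype) := fun x => by
        obtain ⟨y, hy⟩ := s2 (π₁ x); exact ⟨⟨(x, y), hy.symm⟩, rfl⟩
      intro x
      obtain ⟨q, hq, e⟩ := (show x ∈ (_root_.commutator S).map ((MonoidHom.fst Γ₁ Γ₂).comp S.subtype) by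
        rw [commutator_def, Subgroup.map_commutator, Subgroup.map_top_of_surjective _ hf, ← commutator_def,
          perf π₁ s1 t1]; trivial)
      exact ⟨q, hq, e⟩
    have p2 : ∀ y : Γ₂, ∃ q : S, q ∈ _root_.commutator S ∧ (q : Γ₁ × Γ₂).2 = y := by
      have hf : Function.Surjective ((MonoidHom.snd Γ₁ Γ₂).comp S.subtype) := fun y => by
        obtain ⟨x, hx⟩ := s1 (π₂ y); exact ⟨⟨(x, y), hx⟩, rfl⟩
      intro y
      obtain ⟨q, hq, e⟩ := (show y ∈ (_root_.commutator S).map ((MonoidHom.snd Γ₁ Γ₂).comp S.subtype) by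
        rw [commutator_def, Subgroup.map_commutator, Subgroup.map_top_of_surjective _ hf, ← commutator_def,
          perf π₂ s2 t2]; trivial)
      exact ⟨q, hq, e⟩
    -- powers separate the two parts
    obtain ⟨h1, h2⟩ := hk p hp
    obtain ⟨q, hq, eq⟩ := p1 (p : Γ₁ × Γ₂).1
    have hq1 : q ∈ π.ker := by
      show π₁ (q : Γ₁ × Γ₂).1 = 1
      rw [eq]; exact h1
    obtain ⟨r, hr, er⟩ := p2 (p : Γ₁ × Γ₂).2
    have hr1 : r ∈ π.ker := by
      show π₁ (r : Γ₁ × Γ₂).1 = 1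
      rw [hS r, er]; exact h2
    obtain ⟨a, b, hab⟩ : ∃ a b : ℤ, (Nat.card π₁.ker : ℤ) * a + Nat.card π₂.ker * b = 1 :=
      ⟨_, _, by
        have := Nat.gcd_eq_gcd_ab (Nat.card π₁.ker) (Nat.card π₂.ker)
        rw [hco.gcd_eq_one] at this
        exact this.symm.trans rfl⟩
    have z1 : ∀ x ∈ π₁.ker, x ^ (Nat.card π₁.ker : ℤ) = 1 := fun x hx => by
      rw [zpow_natCast]; exact congrArg Subtype.val (pow_card_eq_one' (x := (⟨x, hx⟩ : π₁.ker)))
    have z2 : ∀ x ∈ π₂.ker, x ^ (Nat.card π₂.ker : ℤ) = 1 := fun x hx => by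
      rw [zpow_natCast]; exact congrArg Subtype.val (pow_card_eq_one' (x := (⟨x, hx⟩ : π₂.ker)))
    have m1 := zpow_mem hq ((Nat.card π₂.ker : ℤ) * b)
    have m2 := zpow_mem hr ((Nat.card π₁.ker : ℤ) * a)
    have e : p = q ^ ((Nat.card π₂.ker : ℤ) * b) * r ^ ((Nat.card π₁.ker : ℤ) * a) := by
      refine Subtype.ext (Prod.ext ?_ ?_)
      · show (p : Γ₁ × Γ₂).1 = ((q : Γ₁ × Γ₂) ^ _ * (r : Γ₁ × Γ₂) ^ _).1
        rw [Prod.fst_mul, Prod.pow_fst, Prod.pow_fst, _root_.zpow_mul (r : Γ₁ × Γ₂).1, z1 _ (hk r hr1).1,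
          _root_.one_zpow, mul_one, eq]
        conv_lhs => rw [← zpow_one (p : Γ₁ × Γ₂).1, ← hab, _root_.zpow_add, _root_.zpow_mul, z1 _ h1,
          _root_.one_zpow, one_mul]
      · show (p : Γ₁ × Γ₂).2 = ((q : Γ₁ × Γ₂) ^ _ * (r : Γ₁ × Γ₂) ^ _).2
        rw [Prod.snd_mul, Prod.pow_snd, Prod.pow_snd, _root_.zpow_mul (q : Γ₁ × Γ₂).2, z2 _ (hk q hq1).2,
          _root_.one_zpow, one_mul, er]
        conv_lhs => rw [← zpow_one (p : Γ₁ × Γ₂).2, ← hab, _root_.zpow_add, _root_.zpow_mul _ (Nat.card π₂.ker : ℤ) b,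
          z2 _ h2, _root_.one_zpow, mul_one]
    rw [e]
    exact mul_mem m1 m2

/-- the field data -/
theorem exists_W4 {K : Type*} [Field K] [Fintype K] (hK : Fintype.card K = 4) (σ : K →+* K)
    (hσ : ∀ x, σ x = x ^ 2) : Nonempty (W4 K σ) := by
  classical
  haveI : Fact (Nat.Prime 2) := ⟨Nat.prime_two⟩
  haveI : CharP K 2 := charP_of_card_eq_prime_pow (p := 2) (f := 2) hK
  have h4 : ∀ x : K, x ^ 4 = x := fun x => by
    have := FiniteField.pow_card x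
    rwa [hK] at this
  obtain ⟨x, h0, h1⟩ : ∃ x : K, x ≠ 0 ∧ x ≠ 1 := by
    by_contra hcon
    push Not at hcon
    have hle : (Finset.univ : Finset K) ⊆ {0, 1} := fun x _ => by
      rw [Finset.mem_insert, Finset.mem_singleton]
      by_cases h : x = 0
      exacts [Or.inl h, Or.inr (hcon x h)]
    have := (Finset.card_le_card hle).trans Finset.card_le_two
    rw [Finset.card_univ, hK] at this
    omega
  have h3 : x ^ 3 = 1 := mul_left_cancel₀ h0 (by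
    have := h4 x
    linear_combination this)
  have hq : x * x + x + 1 = 0 := by
    rcases mul_eq_zero.1 (show (x - 1) * (x * x + x + 1) = 0 by linear_combination h3) with h | h
    · exact absurd (sub_eq_zero.1 h) h1
    · exact h
  exact ⟨{
    w := Units.mk0 x h0
    two := CharTwo.two_eq_zero
    ww := by
      show x * x = x + 1
      linear_combination hq - (x + 1) * (CharTwo.two_eq_zero : (2 : K) = 0)
    w3 := Units.ext (by simp [h3])
    frob := fun y => by rw [hσ, sq]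
    four := fun y => by have := h4 y; linear_combination this }⟩

theorem multiplier {K : Type u} [Field K] [Fintype K] {σ : K →+* K} (hσ : ∀ x, σ x = x ^ 2)
    (hK : Fintype.card K = 4) :
    Cfsg.HasSchurMultiplier ↥(twistedE6 K 2) (Multiplicative (ZMod 3 × ZMod 2 × ZMod 2)) := by
  classical
  obtain ⟨P⟩ := exists_W4 hK σ hσ
  have hK2 : Fintype.card K = 2 ^ 2 := hK
  haveI : Fact (Nat.Prime 2) := ⟨Nat.prime_two⟩
  haveI : CharP K 2 := charP_of_card_eq_prime_pow (p := 2) (f := 2) hK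
  haveI : Finite (GL chevE6.Idx K) := finite_GL
  have hperf : _root_.commutator ↥(twistedE6 K 2) = ⊤ := by
    rw [E62.twisted_eq_fix hσ hK2]; exact E62.perfect hσ hK2
  refine ⟨?_, ?_⟩
  · obtain ⟨Γ₂, _, _, π₂, hs₂, ⟨i₂⟩⟩ : ∃ (Γ : Type u) (_ : Group Γ) (_ : Finite Γ) (τ : Γ →* ↥(twistedE6 K 2)),
        Cfsg.IsStemExtension τ ∧ Nonempty (τ.ker ≃* Multiplicative (ZMod 2 × ZMod 2)) := by
      rw [E62.twisted_eq_fix hσ hK2]; exact exists_two_cover P hK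
    obtain ⟨Γ₃, hfin, π₃, hs₃, h₃⟩ :=
      E62Mult.exists_cover (p := 2) hσ hK2 hperf (show 3 ∣ 2 + 1 from dvd_refl 3)
    have h2c : Nat.card π₂.ker = 4 := by rw [Nat.card_congr i₂.toEquiv]; simp
    obtain ⟨Γ, _, _, π, hs, ⟨iso⟩⟩ := fibre hperf π₃ π₂ hs₃ hs₂ (by rw [h₃, h2c]; norm_num)
    haveI : IsCyclic π₃.ker := by
      haveI := Fact.mk Nat.prime_three
      exact isCyclic_of_prime_card h₃
    let i₃ : π₃.ker ≃* Multiplicative (ZMod 3) :=
      mulEquivOfCyclicCardEq (by rw [h₃]; simp)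
    exact ⟨Γ, inferInstance, inferInstance, π, hs,
      ⟨iso.trans ((i₃.prodCongr i₂).trans (MulEquiv.prodMultiplicative (ZMod 3) (ZMod 2 × ZMod 2)).symm)⟩⟩
  · intro Γ _ _ π hs
    have hb : ∀ (Γ : Type u) [Group Γ] [Finite Γ] (π : Γ →* ↥(twistedE6 K 2)), Cfsg.IsStemExtension π →
        ∃ z₁ ∈ π.ker, ∃ z₂ ∈ π.ker, z₁ ^ 2 = 1 ∧ z₂ ^ 2 = 1 ∧
          ∃ N : Subgroup π.ker, (∀ k : π.ker, k ∈ N ↔ (k : Γ) ∈ Subgroup.zpowers z₁ ⊔ Subgroup.zpowers z₂) ∧
            (N.index = 1 ∨ N.index = 3) := by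
      rw [E62.twisted_eq_fix hσ hK2]
      exact fun Γ _ _ π hs => ker_bound P hK π hs
    obtain ⟨z₁, m₁, z₂, m₂, e₁, e₂, N, hN, hidx⟩ := hb Γ π hs
    letI : CommGroup π.ker := { (inferInstance : Group π.ker) with
      mul_comm := fun a b => Subtype.ext (Subgroup.mem_center_iff.1 (hs.2.1 b.2) a) }
    haveI hZn : (Subgroup.zpowers z₂).Normal := ⟨fun y hy g => by
      rw [Subgroup.mem_center_iff.1 (hs.2.1 ((Subgroup.zpowers_le.2 m₂) hy)) g, mul_inv_cancel_right]; exact hy⟩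
    let a₁ : π.ker := ⟨z₁, m₁⟩
    let a₂ : π.ker := ⟨z₂, m₂⟩
    have hsq : ∀ x ∈ N, x ^ 2 = 1 := by
      intro x hx
      have hcm : ∀ w ∈ Subgroup.zpowers z₁ ⊔ Subgroup.zpowers z₂, ∃ i j : ℤ, w = z₁ ^ i * z₂ ^ j := by
        intro w hw
        rw [Subgroup.mem_sup_of_normal_right] at hw
        obtain ⟨u, hu, v, hv, rfl⟩ := hw
        obtain ⟨i, rfl⟩ := Subgroup.mem_zpowers_iff.1 hu
        obtain ⟨j, rfl⟩ := Subgroup.mem_zpowers_iff.1 hv
        exact ⟨i, j, rfl⟩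
      obtain ⟨i, j, e⟩ := hcm _ ((hN x).1 hx)
      have ex : x = a₁ ^ i * a₂ ^ j := Subtype.ext e
      rw [ex, mul_pow, ← zpow_natCast (a₁ ^ i), ← zpow_natCast (a₂ ^ j), zpow_comm, zpow_comm a₂, zpow_natCast,
        zpow_natCast, show a₁ ^ 2 = 1 from Subtype.ext e₁, show a₂ ^ 2 = 1 from Subtype.ext e₂, _root_.one_zpow,
        _root_.one_zpow, one_mul]
    obtain ⟨w, hw, hwN⟩ : ∃ w : π.ker, w ^ 3 = 1 ∧ ∀ x : π.ker, ∃ n : ℤ, (w ^ n)⁻¹ * x ∈ N := by
      rcases hidx with h | h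
      · exact ⟨1, one_pow _, fun x => ⟨0, by rw [Subgroup.index_eq_one.1 h]; trivial⟩⟩
      · have hQ : Nat.card (π.ker ⧸ N) = 3 := by rw [← Subgroup.index_eq_card, h]
        haveI := Fact.mk Nat.prime_three
        haveI : IsCyclic (π.ker ⧸ N) := isCyclic_of_prime_card hQ
        obtain ⟨g, hg⟩ := IsCyclic.exists_generator (α := π.ker ⧸ N)
        obtain ⟨x₀, rfl⟩ := QuotientGroup.mk_surjective g
        have hx3 : x₀ ^ 3 ∈ N := by
          rw [← QuotientGroup.eq_one_iff, QuotientGroup.mk_pow, ← hQ]; exact pow_card_eq_one'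
        refine ⟨x₀ ^ 4, ?_, fun x => ?_⟩
        · rw [← pow_mul, show 4 * 3 = 3 * 2 * 2 from rfl, pow_mul, pow_mul, hsq _ hx3, one_pow]
        · obtain ⟨n, hn⟩ := Subgroup.mem_zpowers_iff.1 (hg (QuotientGroup.mk x))
          refine ⟨n, QuotientGroup.eq.1 ?_⟩
          rw [QuotientGroup.mk_zpow, QuotientGroup.mk_pow, show (4 : ℕ) = 3 + 1 from rfl, pow_succ, ← hQ,
            pow_card_eq_one', one_mul, hn]
    let mk3 : ∀ {n : ℕ} (x : π.ker), x ^ n = 1 → (Multiplicative (ZMod n) →* π.ker) := fun {n} x hx =>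
      AddMonoidHom.toMultiplicativeLeft (ZMod.lift n ⟨zmultiplesHom (Additive π.ker) (Additive.ofMul x), by
        rw [zmultiplesHom_apply, natCast_zsmul]; exact congrArg Additive.ofMul hx⟩)
    have hmk : ∀ {n : ℕ} (x : π.ker) (hx : x ^ n = 1) (i : ℤ), mk3 x hx (Multiplicative.ofAdd (i : ZMod n)) = x ^ i := by
      intro n x hx i
      show Additive.toMul (ZMod.lift n _ (i : ZMod n)) = _
      rw [ZMod.lift_coe]
      rfl
    let φ : Multiplicative (ZMod 3) × (Multiplicative (ZMod 2) × Multiplicative (ZMod 2)) →* π.ker :=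
      (mk3 w hw).coprod ((mk3 a₁ (Subtype.ext e₁)).coprod (mk3 a₂ (Subtype.ext e₂)))
    let e : Multiplicative (ZMod 3 × ZMod 2 × ZMod 2) ≃*
        Multiplicative (ZMod 3) × (Multiplicative (ZMod 2) × Multiplicative (ZMod 2)) :=
      (MulEquiv.prodMultiplicative (ZMod 3) (ZMod 2 × ZMod 2)).trans
        ((MulEquiv.refl _).prodCongr (MulEquiv.prodMultiplicative (ZMod 2) (ZMod 2)))
    refine ⟨φ.comp e.toMonoidHom, fun x => ?_⟩
    obtain ⟨n, hn⟩ := hwN x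
    have hcm := (hN _).1 hn
    rw [Subgroup.mem_sup_of_normal_right] at hcm
    obtain ⟨u, hu, v, hv, euv⟩ := hcm
    obtain ⟨i, rfl⟩ := Subgroup.mem_zpowers_iff.1 hu
    obtain ⟨j, rfl⟩ := Subgroup.mem_zpowers_iff.1 hv
    refine ⟨e.symm (Multiplicative.ofAdd (n : ZMod 3), Multiplicative.ofAdd (i : ZMod 2), Multiplicative.ofAdd (j : ZMod 2)), ?_⟩
    show φ (e (e.symm _)) = x
    rw [e.apply_symm_apply]
    simp only [φ, MonoidHom.coprod_apply, hmk]
    have hx : (w ^ n)⁻¹ * x = a₁ ^ i * a₂ ^ j := Subtype.ext euv.symm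
    rw [← hx, mul_inv_cancel_left]

end CfsgLib.Chev.E62Two
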