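import Cfsg.Agent.Lib.Chev.E62Two.Table
import Cfsg.Agent.Lib.Chev.Twist.Fam.E6
import Cfsg.Agent.Lib.KnownB.ChevRoots

/-!
The seventy two root elements of twisted E6 over two elements as pairs of root elements of E6 over four
elements, parameters written as codes below four.
-/

set_option autoImplicit false
set_option maxRecDepth 100000

namespace CfsgLib.Chev.E62Two

open Cfsg.Lie Matrix CfsgLib.Chev CfsgLib.KnownB.U62Mult

/-- the products of the codes -/
def mulc (c d : ℕ) : ℕ := [0, 0, 0, 0, 0, 1, 2, 3, 0, 2, 3, 1, 0, 3, 1, 2].getD (4 * c + d) 0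

/-- the parameter of a symbol -/
noncomputable def sc (l : ℕ) : ℕ := scT.get l

/-- the root elements of a symbol -/
noncomputable def elt (l : ℕ) : List (ℕ × ℕ) :=
  bif Nat.beq (orp (so l)) (orep (so l)) then [(orep (so l), sc l)]
  else [(orep (so l), sc l), (orp (so l), mulc (sc l) (sc l))]

/-- the root elements of a word -/
noncomputable def elts (w : List ℕ) : List (ℕ × ℕ) := w.flatMap elt

/-- two roots that commute up to a product of roots with unit coefficient -/
noncomputable def ok6 (r s : ℕ) : Bool :=
  Nat.blt r 72 && Nat.blt s 72 && !Nat.beq s r && !Nat.beq s (auxE6.neg r) &&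
    (auxE6.terms r s).all fun q => decide ((q.2.1 = 1 ∨ q.2.1 = -1) ∧ q.2.2.1 = 1 ∧ q.2.2.2 = 1)

/-- collection of root elements -/
noncomputable def coll6 : ℕ → List (ℕ × ℕ) → List (ℕ × ℕ) → Option (List (ℕ × ℕ))
  | 0, _, _ => none
  | _ + 1, L, [] => some L.reverse
  | f + 1, [], x :: R => bif Nat.beq x.2 0 then coll6 f [] R else coll6 f [x] R
  | f + 1, a :: L, x :: R =>
    bif Nat.beq x.2 0 then coll6 f (a :: L) R
    else bif Nat.beq a.1 x.1 then coll6 f L ((a.1, Nat.xor a.2 x.2) :: R)
    else bif Nat.ble a.1 x.1 then coll6 f (x :: a :: L) R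
    else bif ok6 x.1 a.1 then
      coll6 f L (x :: a :: ((auxE6.terms x.1 a.1).map (fun q => (q.1, mulc x.2 a.2)) ++ R))
    else none

/-- the parameters are codes -/
noncomputable def codes (w : List (ℕ × ℕ)) : Bool := w.all fun p => Nat.blt p.2 4

/-- two products agree -/
noncomputable def eqc6 (w₁ w₂ : List (ℕ × ℕ)) : Bool :=
  codes w₁ && codes w₂ && match coll6 200 [] w₁, coll6 200 [] w₂ with
  | some p, some q => decide (p = q)
  | _, _ => false

/-- the root of the image under one of the six elements -/
noncomputable def gmap (g : ℕ) (p : ℕ × ℕ) : ℕ × ℕ :=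
  bif Nat.blt g 4 then (wf auxE6 (foldE62.w g) p.1, p.2)
  else (p.1, mulc ([1, 2, 3].getD ((bif Nat.beq g 4 then (auxE6.cart 0 p.1 + 2 * auxE6.cart 5 p.1) % 3
    else (auxE6.cart 2 p.1 + 2 * auxE6.cart 4 p.1) % 3).toNat) 0) p.2)

/-- everything needed of the symbols -/
noncomputable def symChk : Bool :=
  (List.range 72).all fun l =>
    eqc6 ((elt l).map fun p => (foldE62.r p.1, mulc p.2 p.2)) (elt l) &&
      (elt l).all (fun p => Nat.blt p.1 72 && decide (symE6.e p.1 = 1 ∨ symE6.e p.1 = -1) &&
        (bif posO (so l) then decide (chevE6.IsPosRoot p.1) else decide (chevE6.IsNegRoot p.1))) &&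
      eqc6 (elts [l, l]) [] &&
      (List.range 72).all fun z => !okP l z || eqc6 (elts [l, z]) (elts (z :: l :: tabE.W l z))

/-- everything needed of the six elements -/
noncomputable def actChk : Bool :=
  (List.range 6).all fun g => (List.range 72).all fun l => eqc6 ((elt l).map (gmap g)) (elts (img g l))

theorem symChk_true : symChk = true := by decide +kernel

theorem actChk_true : actChk = true := by decide +kernel

end CfsgLib.Chev.E62Two
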