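import Cfsg.Agent.Lib.Chev.E62Two.Root

/-!
The root elements of twisted E6 over two elements satisfy the rules of the table, and six elements of the
monomial group permute them as in the data.
-/

set_option autoImplicit false
set_option maxRecDepth 100000

namespace CfsgLib.Chev.E62Two

open Cfsg.Lie Matrix CfsgLib.Chev

variable {K : Type*} [Field K]

/-- a primitive cube root of unity in characteristic two, with the Frobenius -/
structure W4 (K : Type*) [Field K] (σ : K →+* K) where
  w : Kˣ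
  two : (2 : K) = 0
  ww : (w : K) * w = w + 1
  w3 : w ^ 3 = 1
  frob : ∀ x, σ x = x * x
  four : ∀ x : K, x * x * (x * x) = x

variable {σ : K →+* K} (P : W4 K σ)

/-- the value of a code -/
def W4.cv (c : ℕ) : K := [0, 1, (P.w : K), (P.w : K) + 1].getD (c % 4) 0

theorem W4.cv_xor {c d : ℕ} (hc : c < 4) (hd : d < 4) : P.cv (Nat.xor c d) = P.cv c + P.cv d := by
  have h2 := P.two
  interval_cases c <;> interval_cases d <;> simp [W4.cv] <;>
    first
      | linear_combination (0 : K) * h2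
      | linear_combination -h2
      | linear_combination -(P.w : K) * h2
      | linear_combination h2
      | linear_combination (P.w : K) * h2
      | linear_combination -((P.w : K) + 1) * h2
      | linear_combination ((P.w : K) + 1) * h2

theorem W4.cv_mul {c d : ℕ} (hc : c < 4) (hd : d < 4) : P.cv (mulc c d) = P.cv c * P.cv d := by
  have hw := P.ww
  have h2 := P.two
  interval_cases c <;> interval_cases d <;> simp [W4.cv, mulc] <;>
    first
      | linear_combination -hw
      | linear_combination -hw - (P.w : K) * h2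
      | linear_combination -hw + (P.w : K) * h2
      | linear_combination -hw - h2
      | linear_combination -hw + h2
      | linear_combination -hw - ((P.w : K) + 1) * h2
      | linear_combination -hw + ((P.w : K) + 1) * h2
      | linear_combination hw
      | linear_combination hw + (P.w : K) * h2
      | linear_combination hw - (P.w : K) * h2
      | linear_combination hw + h2
      | linear_combination hw - h2

theorem mulc_lt : ∀ c < 4, ∀ d < 4, mulc c d < 4 := by decide

theorem W4.cv_mulc' {c d : ℕ} : mulc (c % 4) (d % 4) < 4 :=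
  mulc_lt _ (Nat.mod_lt _ (by norm_num)) _ (Nat.mod_lt _ (by norm_num))

/-- the product of root elements -/
noncomputable def W4.ev6 (w : List (ℕ × ℕ)) : GL chevE6.Idx K :=
  (w.map fun p => xG stdE6.good p.1 (P.cv p.2)).prod

theorem W4.ev6_cons (p : ℕ × ℕ) (w : List (ℕ × ℕ)) :
    P.ev6 (p :: w) = xG stdE6.good p.1 (P.cv p.2) * P.ev6 w := by simp [W4.ev6]

theorem W4.ev6_append (v w : List (ℕ × ℕ)) : P.ev6 (v ++ w) = P.ev6 v * P.ev6 w := by simp [W4.ev6]

theorem cast_unit {m : ℤ} (h2 : (2 : K) = 0) (hm : m = 1 ∨ m = -1) : (m : K) = 1 := by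
  rcases hm with rfl | rfl
  · exact Int.cast_one
  · rw [Int.cast_neg, Int.cast_one]; linear_combination -h2

theorem coll6_spec : ∀ (f : ℕ) (L R : List (ℕ × ℕ)) {p : List (ℕ × ℕ)}, (∀ x ∈ L, x.2 < 4) →
    (∀ x ∈ R, x.2 < 4) → coll6 f L R = some p → P.ev6 (L.reverse ++ R) = P.ev6 p
  | 0, _, _, p, _, _, h => by simp [coll6] at h
  | f + 1, L, [], p, _, _, h => by
    obtain rfl := Option.some.inj h
    simp
  | f + 1, [], x :: R, p, _, hR, h => by
    have hR0 : ∀ y ∈ R, y.2 < 4 := fun y hy => hR y (List.mem_cons_of_mem _ hy)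
    simp only [coll6] at h
    cases e : Nat.beq x.2 0 <;> simp only [e, cond_false, cond_true] at h
    · have := coll6_spec f [x] R (by simpa using hR x) hR0 h
      simpa using this
    · have := coll6_spec f [] R (by simp) hR0 h
      rw [← this]
      simp only [List.reverse_nil, List.nil_append, W4.ev6_cons]
      rw [Nat.eq_of_beq_eq_true e, show P.cv 0 = 0 from rfl, xG_zero, one_mul]
  | f + 1, a :: L, x :: R, p, hL', hR, h => by
    have hR0 : ∀ y ∈ R, y.2 < 4 := fun y hy => hR y (List.mem_cons_of_mem _ hy)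
    have hL : ∀ y ∈ L, y.2 < 4 := fun y hy => hL' y (List.mem_cons_of_mem _ hy)
    have ha := hL' a (List.mem_cons_self ..)
    have hx := hR x (List.mem_cons_self ..)
    simp only [coll6] at h
    cases e0 : Nat.beq x.2 0 <;> simp only [e0, cond_false, cond_true] at h
    swap
    · have := coll6_spec f (a :: L) R hL' hR0 h
      rw [← this]
      simp only [W4.ev6_append, W4.ev6_cons]
      rw [Nat.eq_of_beq_eq_true e0, show P.cv 0 = 0 from rfl, xG_zero, one_mul]
    cases e1 : Nat.beq a.1 x.1 <;> simp only [e1, cond_false, cond_true] at h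
    swap
    · have := coll6_spec f L ((a.1, Nat.xor a.2 x.2) :: R) hL (fun y hy => by
        rcases List.mem_cons.1 hy with rfl | hy
        exacts [Nat.xor_lt_two_pow (n := 2) ha hx, hR0 y hy]) h
      rw [← this]
      simp only [W4.ev6_append, W4.ev6_cons, List.reverse_cons]
      rw [P.cv_xor ha hx, ← xG_add, ← Nat.eq_of_beq_eq_true e1, show P.ev6 [] = 1 from rfl, mul_one]
      group
    cases e2 : Nat.ble a.1 x.1 <;> simp only [e2, cond_false, cond_true] at h
    swap
    · have := coll6_spec f (x :: a :: L) R (fun y hy => by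
        simp only [List.mem_cons] at hy
        rcases hy with rfl | rfl | hy
        exacts [hx, ha, hL y hy]) hR0 h
      rw [← this]
      simp [W4.ev6_append, W4.ev6_cons, mul_assoc]
    cases e3 : ok6 x.1 a.1 <;> simp only [e3, cond_false, cond_true] at h
    · simp at h
    have := coll6_spec f L (x :: a :: ((auxE6.terms x.1 a.1).map (fun q => (q.1, mulc x.2 a.2)) ++ R)) hL
      (fun y hy => by
        simp only [List.mem_cons, List.mem_append, List.mem_map] at hy
        rcases hy with rfl | rfl | ⟨q, -, rfl⟩ | hy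
        exacts [hx, ha, mulc_lt _ hx _ ha, hR0 y hy]) h
    rw [← this]
    simp only [ok6, Bool.and_eq_true, Bool.not_eq_true', Nat.blt_eq, List.all_eq_true, decide_eq_true_eq] at e3
    obtain ⟨⟨⟨⟨h1, h2⟩, h3⟩, h4⟩, h5⟩ := e3
    have hn3 : a.1 ≠ x.1 := fun e => by simp [e] at h3
    have hn4 : a.1 ≠ auxE6.neg x.1 := fun e => by simp [e] at h4
    simp only [W4.ev6_append, W4.ev6_cons, List.reverse_cons, show P.ev6 [] = 1 from rfl, mul_one]
    rw [show P.ev6 L.reverse * xG stdE6.good a.1 (P.cv a.2) * (xG stdE6.good x.1 (P.cv x.2) * P.ev6 R) =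
      P.ev6 L.reverse * (xG stdE6.good a.1 (P.cv a.2) * xG stdE6.good x.1 (P.cv x.2)) * P.ev6 R by group,
      KnownB.ChevField.comm_word stdE6 (show x.1 < chevE6.nroots from h1) (show a.1 < chevE6.nroots from h2) hn3 hn4]
    have e : ((auxE6.terms x.1 a.1).map fun c =>
        xG stdE6.good c.1 ((c.2.1 : K) * (-P.cv x.2) ^ c.2.2.1 * P.cv a.2 ^ c.2.2.2)).prod =
        P.ev6 ((auxE6.terms x.1 a.1).map fun q => (q.1, mulc x.2 a.2)) := by
      rw [W4.ev6, List.map_map]
      refine congrArg List.prod (List.map_congr_left fun q hq => ?_)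
      obtain ⟨hm, hi, hj⟩ := h5 q hq
      show xG stdE6.good q.1 _ = xG stdE6.good q.1 (P.cv (mulc x.2 a.2))
      rw [P.cv_mul hx ha, hi, hj, cast_unit P.two hm, one_mul, pow_one, pow_one]
      congr 1
      linear_combination -(P.cv x.2 * P.cv a.2) * P.two
    rw [e]
    group

theorem eqc6_spec {w₁ w₂ : List (ℕ × ℕ)} (h : eqc6 w₁ w₂ = true) : P.ev6 w₁ = P.ev6 w₂ := by
  simp only [eqc6, Bool.and_eq_true, codes, List.all_eq_true, Nat.blt_eq] at h
  obtain ⟨⟨h1, h2⟩, h⟩ := h
  split at h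
  · next p q hp hq =>
    rw [decide_eq_true_eq] at h
    have a := coll6_spec P 200 [] w₁ (by simp) h1 hp
    have b := coll6_spec P 200 [] w₂ (by simp) h2 hq
    simp only [List.reverse_nil, List.nil_append] at a b
    rw [a, b, h]
  · exact absurd h (by simp)

theorem eqc6_codes {w₁ w₂ : List (ℕ × ℕ)} (h : eqc6 w₁ w₂ = true) : ∀ p ∈ w₁, p.2 < 4 := by
  simp only [eqc6, Bool.and_eq_true, codes, List.all_eq_true, Nat.blt_eq] at h
  exact h.1.1

theorem W4.cv_frob {c : ℕ} (hc : c < 4) : σ (P.cv c) = P.cv (mulc c c) := by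
  rw [P.frob, P.cv_mul hc hc]

/-- the root element of a symbol -/
noncomputable def W4.rtGL (l : ℕ) : GL chevE6.Idx K := P.ev6 (elt l)

theorem sym_spec {l : ℕ} (hl : l < 72) :
    eqc6 ((elt l).map fun p => (foldE62.r p.1, mulc p.2 p.2)) (elt l) = true ∧
      (∀ p ∈ elt l, p.1 < chevE6.nroots ∧ (symE6.e p.1 = 1 ∨ symE6.e p.1 = -1) ∧
        (bif posO (so l) then decide (chevE6.IsPosRoot p.1) else decide (chevE6.IsNegRoot p.1)) = true) ∧
      eqc6 (elts [l, l]) [] = true ∧
      ∀ z < 72, okP l z = true → eqc6 (elts [l, z]) (elts (z :: l :: tabE.W l z)) = true := by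
  have h := symChk_true
  simp only [symChk, List.all_eq_true, List.mem_range, Bool.and_eq_true, Bool.or_eq_true, Bool.not_eq_true',
    Nat.blt_eq, decide_eq_true_eq] at h
  obtain ⟨⟨⟨h1, h2⟩, h3⟩, h4⟩ := h l hl
  exact ⟨h1, fun p hp => ⟨(h2 p hp).1.1, (h2 p hp).1.2, (h2 p hp).2⟩, h3, fun z hz ho => by
    rcases h4 z hz with e | e
    · rw [ho] at e; exact absurd e (by simp)
    · exact e⟩

theorem rtGL_fix {l : ℕ} (hl : l < 72) : P.rtGL l ∈ (E62.tw σ).fix := by
  obtain ⟨h1, h2, h3, -⟩ := sym_spec hl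
  have key : ∀ w : List (ℕ × ℕ), (∀ p ∈ w, p.1 < chevE6.nroots ∧ p.2 < 4 ∧ (symE6.e p.1 = 1 ∨ symE6.e p.1 = -1)) →
      (E62.tw σ).Maps (P.ev6 w) (P.ev6 (w.map fun p => (foldE62.r p.1, mulc p.2 p.2))) := by
    intro w hw
    induction w with
    | nil => exact (E62.tw σ).maps_one
    | cons p w ih =>
      obtain ⟨ha, hb, hc⟩ := hw p (List.mem_cons_self ..)
      rw [List.map_cons, W4.ev6_cons, W4.ev6_cons]
      refine Twist.Maps.mul _ ?_ (ih fun q hq => hw q (List.mem_cons_of_mem _ hq))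
      have := (E62.tw σ).maps_xG ha (P.cv p.2)
      have e : (E62.tw σ).phi p.1 (P.cv p.2) = P.cv (mulc p.2 p.2) := by
        show (symE6.e p.1 : K) * σ (P.cv p.2) = _
        rw [cast_unit P.two hc, one_mul, P.cv_frob hb]
      rwa [e] at this
  have hc : ∀ p ∈ elt l, p.2 < 4 := fun p hp => by
    have := eqc6_codes h3 p (by simp [elts, hp])
    exact this
  have := key (elt l) fun p hp => ⟨(h2 p hp).1, hc p hp, (h2 p hp).2.1⟩
  rwa [eqc6_spec P h1] at this

/-- the root element of a symbol in the fixed group -/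
noncomputable def W4.rt (l : ℕ) : ↥(E62.tw σ).fix := by
  classical
  exact if h : l < 72 then ⟨P.rtGL l, rtGL_fix P h⟩ else 1

theorem rt_val {l : ℕ} (h : l < 72) : ((P.rt l : ↥(E62.tw σ).fix) : GL chevE6.Idx K) = P.rtGL l := by
  rw [W4.rt, dif_pos h]

theorem ev_rt_val {w : List ℕ} (h : ∀ l ∈ w, l < 72) :
    ((ev P.rt w : ↥(E62.tw σ).fix) : GL chevE6.Idx K) = P.ev6 (elts w) := by
  induction w with
  | nil => rfl
  | cons a w ih =>
    rw [ev_cons, Subgroup.coe_mul, ih fun l hl => h l (List.mem_cons_of_mem _ hl),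
      rt_val P (h a (List.mem_cons_self ..)),
      show elts (a :: w) = elt a ++ elts w by simp [elts], W4.ev6_append, W4.rtGL]

theorem tab_spec : ((∀ x < 72, so x < 48 ∧ ∀ z < 72, okP x z = true →
      ∀ l ∈ tabE.W x z, l < 72 ∧ so l ∈ sums (so x) (so z))) ∧
    (∀ o < 48, oneg o < 48 ∧ oneg (oneg o) = o ∧ posO o = !posO (oneg o) ∧
      ∀ p < 48, ∀ q ∈ sums o p, q < 48 ∧ (posO o = true → posO p = true → posO q = true)) ∧
    ∀ l < 72, posL.contains l = posO (so l) := by
  have h := tabChk_true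
  simp only [tabChk, List.all_eq_true, List.mem_range, Bool.and_eq_true, Bool.or_eq_true, Bool.not_eq_true',
    Nat.blt_eq, List.contains_iff_mem, beq_iff_eq, Nat.beq_eq] at h
  obtain ⟨⟨h1, h2⟩, h3⟩ := h
  refine ⟨fun x hx => ⟨(h1 x hx).1, fun z hz ho l hl => ?_⟩, fun o ho => ⟨(h2 o ho).1.1.1, (h2 o ho).1.1.2,
    (h2 o ho).1.2, fun p hp q hq => ⟨((h2 o ho).2 p hp q hq).1, fun a b => ?_⟩⟩, h3⟩
  · rcases (h1 x hx).2 z hz with e | e
    · rw [ho] at e; exact absurd e (by simp)
    · exact e l hl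
  · rcases ((h2 o ho).2 p hp q hq).2 with e | e
    · simp [a, b] at e
    · exact e

theorem rel_rt : Rel tabE (Cen.trivial ↥(E62.tw σ).fix) P.rt (· < 72) := by
  refine ⟨fun l hl => Subtype.ext ?_, fun x z hx hz ho => Subtype.ext ?_⟩
  · have := eqc6_spec P (sym_spec hl).2.2.1
    rw [show P.rt l * P.rt l = ev P.rt [l, l] by simp, ev_rt_val P (by simp [hl]), this]
    rfl
  · have := eqc6_spec P ((sym_spec hx).2.2.2 z hz ho)
    rw [show P.rt z * P.rt x * ev P.rt (tabE.W x z) * (Cen.trivial ↥(E62.tw σ).fix).ι (tabE.D x z) =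
      ev P.rt (z :: x :: tabE.W x z) by simp [Cen.trivial, mul_assoc],
      show P.rt x * P.rt z = ev P.rt [x, z] by simp, ev_rt_val P (by simp [hx, hz]), ev_rt_val P, this]
    intro l hl
    simp only [List.mem_cons] at hl
    rcases hl with rfl | rfl | hl
    exacts [hz, hx, ((tab_spec.1 x hx).2 z hz ho l hl).1]

/-- the six elements of the monomial group -/
noncomputable def W4.gen (g : ℕ) : GL chevE6.Idx K :=
  if g < 4 then (E62.tw σ).nJ g
  else if g = 4 then tor chevE6 auxE6 (![P.w, 1, 1, 1, 1, P.w ^ 2] : Fin 6 → Kˣ)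
  else tor chevE6 auxE6 (![1, 1, P.w, 1, P.w ^ 2, 1] : Fin 6 → Kˣ)

theorem gen_fix {g : ℕ} : P.gen g ∈ (E62.tw σ).fix := by
  have hs : Units.map σ.toMonoidHom P.w = P.w ^ 2 := Units.ext (by
    show σ (P.w : K) = _
    rw [P.frob, Units.val_pow_eq_pow_val, sq])
  have hs2 : Units.map σ.toMonoidHom (P.w ^ 2) = P.w := by
    rw [map_pow, hs, ← pow_mul, show 2 * 2 = 3 + 1 from rfl, pow_succ, P.w3, one_mul]
  unfold W4.gen
  split_ifs with h1 h2
  · exact (E62.tw σ).nJ_fix (show g < foldE62.num from h1)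
  all_goals
    refine ((E62.tw σ).tor_mem_fix_iff _).2 (congrArg _ ((E62.tw σ).mem_thetaFix.1 ?_))
    refine (E62.thetaFix_iff _).2 ⟨?_, ?_, ?_, ?_, ?_, ?_⟩
    all_goals simp only [E62.ix, Matrix.cons_val]
    all_goals first
      | exact map_one σ
      | exact congrArg Units.val hs
      | exact congrArg Units.val hs2

theorem nW_conj : ∀ (w : List ℕ), (∀ i ∈ w, i < chevE6.rank) → ∀ {r : ℕ}, r < chevE6.nroots → ∀ t : K, (2 : K) = 0 →
    nW K stdE6.good w * xG stdE6.good r t * (nW K stdE6.good w)⁻¹ = xG stdE6.good (wf auxE6 w r) t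
  | [], _, r, _, t, _ => by simp [nW, wf]
  | i :: w, h, r, hr, t, h2 => by
    have hw : ∀ j ∈ w, j < chevE6.rank := fun j hj => h j (List.mem_cons_of_mem _ hj)
    have hi := h i (List.mem_cons_self ..)
    have hlt : wf auxE6 w r < chevE6.nroots := wf_lt stdE6.good hw hr
    rw [show nW K stdE6.good (i :: w) = nS K stdE6.good i * nW K stdE6.good w by simp [nW],
      show nS K stdE6.good i * nW K stdE6.good w * xG stdE6.good r t * (nS K stdE6.good i * nW K stdE6.good w)⁻¹ =
        nS K stdE6.good i * (nW K stdE6.good w * xG stdE6.good r t * (nW K stdE6.good w)⁻¹) *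
          (nS K stdE6.good i)⁻¹ by group,
      nW_conj w hw hr t h2, nS_conj_xG stdE6.good hi hlt, cast_unit h2 (stdE6.good.eta_sign i hi _ hlt), one_mul]
    simp [wf]

theorem gen_conj {g l : ℕ} (hg : g < 6) (hl : l < 72) :
    P.gen g * P.rtGL l * (P.gen g)⁻¹ = P.ev6 (elts (img g l)) := by
  have h := actChk_true
  simp only [actChk, List.all_eq_true, List.mem_range] at h
  rw [← eqc6_spec P (h g hg l hl), W4.rtGL]
  obtain ⟨-, h2, h3, -⟩ := sym_spec hl
  have hc : ∀ p ∈ elt l, p.1 < chevE6.nroots ∧ p.2 < 4 := fun p hp =>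
    ⟨(h2 p hp).1, eqc6_codes h3 p (by simp [elts, hp])⟩
  have key : ∀ w : List (ℕ × ℕ), (∀ p ∈ w, p.1 < chevE6.nroots ∧ p.2 < 4) →
      P.gen g * P.ev6 w * (P.gen g)⁻¹ = P.ev6 (w.map (gmap g)) := by
    intro w hw
    induction w with
    | nil => simp [W4.ev6]
    | cons p w ih =>
      obtain ⟨hr, hp4⟩ := hw p (List.mem_cons_self ..)
      rw [List.map_cons, W4.ev6_cons, W4.ev6_cons, ← ih fun q hq => hw q (List.mem_cons_of_mem _ hq),
        show P.gen g * (xG stdE6.good p.1 (P.cv p.2) * P.ev6 w) * (P.gen g)⁻¹ =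
          (P.gen g * xG stdE6.good p.1 (P.cv p.2) * (P.gen g)⁻¹) * (P.gen g * P.ev6 w * (P.gen g)⁻¹) by group]
      congr 1
      have hcv : ∀ e : ℤ, ((P.w ^ e : Kˣ) : K) = P.cv ([1, 2, 3].getD (e % 3).toNat 0) := fun e => by
        rw [← Int.emod_add_mul_ediv e 3, _root_.zpow_add, _root_.zpow_mul, show P.w ^ (3 : ℤ) = 1 from P.w3, _root_.one_zpow, mul_one,
          Int.add_mul_emod_self_left, Int.emod_emod]
        rcases (by omega : e % 3 = 0 ∨ e % 3 = 1 ∨ e % 3 = 2) with h | h | h <;> rw [h] <;>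
          simp [W4.cv, zpow_ofNat, sq, P.ww]
      have hcl : ∀ e : ℤ, [1, 2, 3].getD (e % 3).toNat 0 < 4 := fun e => by
        rcases (by omega : e % 3 = 0 ∨ e % 3 = 1 ∨ e % 3 = 2) with h | h | h <;> rw [h] <;> decide
      unfold W4.gen gmap
      by_cases h1 : g < 4
      · rw [if_pos h1, show Nat.blt g 4 = true by rw [Nat.blt_eq]; exact h1]
        have hw' : ∀ j < 4, ∀ i ∈ foldE62.w j, i < chevE6.rank := by decide +kernel
        exact nW_conj _ (hw' g h1) hr _ P.two
      · rw [if_neg h1, show Nat.blt g 4 = false by rw [← Bool.not_eq_true, Nat.blt_eq]; exact h1]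
        have hprod : ∀ c : Fin 6 → Kˣ, chi chevE6 auxE6 c p.1 = c 0 ^ auxE6.cart 0 p.1 * c 1 ^ auxE6.cart 1 p.1 *
            c 2 ^ auxE6.cart 2 p.1 * c 3 ^ auxE6.cart 3 p.1 * c 4 ^ auxE6.cart 4 p.1 * c 5 ^ auxE6.cart 5 p.1 :=
          fun c => Fin.prod_univ_six (fun i : Fin 6 => c i ^ auxE6.cart i.val p.1)
        rcases (by omega : g = 4 ∨ g = 5) with rfl | rfl
        · rw [if_pos rfl]
          refine (tor_conj_xG stdE6.good _ hr _).trans (congrArg (xG stdE6.good p.1) ?_)
          refine Eq.trans (congrArg (· * P.cv p.2) (congrArg Units.val (hprod _))) ?_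
          simp only [cond_false, cond_true, Nat.beq_refl, Matrix.cons_val, _root_.one_zpow, mul_one]
          rw [P.cv_mul (hcl _) hp4, ← hcv, show (P.w ^ 2 : Kˣ) = P.w ^ (2 : ℤ) from (zpow_ofNat _ _).symm,
            ← _root_.zpow_mul, ← _root_.zpow_add]
        · rw [if_neg (by norm_num)]
          refine (tor_conj_xG stdE6.good _ hr _).trans (congrArg (xG stdE6.good p.1) ?_)
          refine Eq.trans (congrArg (· * P.cv p.2) (congrArg Units.val (hprod _))) ?_
          simp only [cond_false, show Nat.beq 5 4 = false from rfl, Matrix.cons_val, _root_.one_zpow, one_mul, mul_one]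
          rw [P.cv_mul (hcl _) hp4, ← hcv, show (P.w ^ 2 : Kˣ) = P.w ^ (2 : ℤ) from (zpow_ofNat _ _).symm,
            ← _root_.zpow_mul, ← _root_.zpow_add]
  exact key _ hc

end CfsgLib.Chev.E62Two
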