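import Cfsg.Agent.Lib.Chev.E62Two.Derive
import Cfsg.Agent.Lib.Chev.E62Two.StepData

/-! The derivation steps are correct. -/

set_option autoImplicit false
set_option maxRecDepth 100000

namespace CfsgLib.Chev.E62Two

theorem runA_0 : runB knownA_0 stepsA_0 knownA_1 = true := by decide +kernel

theorem runA_4 : runB knownA_4 stepsA_4 knownA_5 = true := by decide +kernel

theorem runA_8 : runB knownA_8 stepsA_8 knownA_9 = true := by decide +kernel

theorem runA_12 : runB knownA_12 stepsA_12 knownA_13 = true := by decide +kernel

theorem runA_16 : runB knownA_16 stepsA_16 knownA_17 = true := by decide +kernel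

theorem runA_20 : runB knownA_20 stepsA_20 knownA_21 = true := by decide +kernel

theorem runA_24 : runB knownA_24 stepsA_24 knownA_25 = true := by decide +kernel

theorem runA_28 : runB knownA_28 stepsA_28 knownA_29 = true := by decide +kernel

theorem runA_32 : runB knownA_32 stepsA_32 knownA_33 = true := by decide +kernel

theorem runB_2 : runB knownB_2 stepsB_2 knownB_3 = true := by decide +kernel

theorem runB_6 : runB knownB_6 stepsB_6 knownB_7 = true := by decide +kernel

end CfsgLib.Chev.E62Two
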