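import Cfsg.Agent.Lib.KnownB.U62Mult.Trie

/-! The table of the commutators of the seventy two root elements of twisted E6 over two elements, with defects. -/

set_option autoImplicit false
set_option maxRecDepth 100000

namespace CfsgLib.Chev.E62Two

open CfsgLib.KnownB.U62Mult

/-- a row -/
def tab0 : Trie := (.nd (.nd (.nd (.nd (.lf 0) (.nd (.lf 0) (.nd (.lf 0) (.nd (.lf 32) (.lf 0))))) (.nd (.nd (.nd (.nd (.lf 0) (.lf 33395)) (.lf 0)) (.nd (.lf 0) (.nd (.lf 8209) (.lf 0)))) (.nd (.lf 0) (.nd (.lf 0) (.nd (.lf 22065) (.lf 0)))))) (.nd (.nd (.nd (.nd (.nd (.lf 0) (.lf 104)) (.lf 0)) (.nd (.lf 0) (.nd (.lf 8) (.lf 0)))) (.nd (.lf 0) (.nd (.lf 0) (.nd (.lf 18474) (.lf 0))))) (.nd (.nd (.nd (.nd (.lf 0) (.lf 120)) (.lf 0)) (.nd (.lf 0) (.nd (.lf 15897) (.lf 0))))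 (.nd (.lf 0) (.nd (.lf 0) (.nd (.lf 24633) (.lf 0))))))) (.nd (.nd (.nd (.nd (.nd (.nd (.lf 0) (.lf 100)) (.lf 0)) (.lf 0)) (.nd (.lf 0) (.nd (.lf 0) (.nd (.lf 18469) (.lf 0))))) (.nd (.nd (.nd (.nd (.lf 0) (.lf 116)) (.lf 0)) (.nd (.lf 0) (.nd (.lf 8215) (.lf 0)))) (.nd (.lf 0) (.nd (.lf 0) (.nd (.lf 22070) (.lf 0)))))) (.nd (.nd (.nd (.nd (.nd (.lf 0) (.lf 33389)) (.lf 0)) (.nd (.lf 0) (.nd (.lf 12) (.lf 0)))) (.nd (.lf 0) (.nd (.lf 0) (.nd (.lf 44) (.lf 0))))) (.nd (.nd (.lf 0) (.nd (.lf 0) (.nd (.lf 15902) (.lf 0)))) (.nd (.lf 0) (.nd (.lf 0) (.nd (.lf 24638) (.lf 0))))))))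

/-- a row -/
def tab1 : Trie := (.nd (.nd (.nd (.nd (.nd (.nd (.nd (.lf 0) (.lf 100)) (.lf 0)) (.nd (.lf 0) (.nd (.lf 14885) (.lf 0)))) (.lf 0)) (.nd (.nd (.nd (.nd (.lf 0) (.lf 33927)) (.lf 0)) (.lf 0)) (.nd (.nd (.lf 0) (.nd (.lf 5655) (.lf 0))) (.nd (.lf 0) (.nd (.lf 26693) (.lf 0)))))) (.nd (.nd (.nd (.nd (.nd (.lf 0) (.lf 124)) (.lf 0)) (.lf 0)) (.nd (.nd (.lf 0) (.nd (.lf 12) (.lf 0))) (.lf 0))) (.nd (.lf 0) (.nd (.nd (.lf 0) (.nd (.lf 13342) (.lf 0))) (.nd (.lf 0) (.nd (.lf 29261) (.lf 0))))))) (.nd (.nd (.nd (.nd (.lf 0) (.nd (.lf 0) (.nd (.lf 14890) (.lf 0)))) (.lf 0)) (.nd (.nd (.nd (.nd (.lf 0) (.lf 144)) (.lf 0)) (.lf 0)) (.nd (.nd (.lf 0) (.nd (.lf 13337) (.lf 0))) (.nd (.nd (.lf 4) (.lf 0)) (.nd (.lf 26698) (.lf 0)))))) (.nd (.nd (.nd (.nd (.nd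 (.lf 0) (.lf 33921)) (.lf 0)) (.lf 0)) (.nd (.nd (.lf 0) (.nd (.lf 5649) (.lf 0))) (.nd (.lf 0) (.nd (.lf 64) (.lf 0))))) (.nd (.nd (.nd (.nd (.lf 0) (.lf 204)) (.lf 0)) (.lf 0)) (.nd (.nd (.lf 0) (.nd (.lf 32) (.lf 0))) (.nd (.lf 0) (.nd (.lf 29266) (.lf 0))))))))

/-- a row -/
def tab2 : Trie := (.nd (.nd (.nd (.nd (.nd (.nd (.nd (.lf 0) (.lf 104)) (.lf 0)) (.nd (.lf 0) (.nd (.lf 15409) (.lf 0)))) (.nd (.nd (.lf 0) (.nd (.lf 12825) (.lf 0))) (.nd (.lf 0) (.nd (.lf 64) (.lf 0))))) (.nd (.nd (.nd (.nd (.lf 0) (.lf 34447)) (.lf 0)) (.lf 0)) (.nd (.lf 0) (.nd (.nd (.lf 4) (.lf 0)) (.lf 0))))) (.nd (.nd (.lf 0) (.nd (.lf 0) (.nd (.lf 0) (.nd (.lf 26186) (.lf 0))))) (.nd (.nd (.nd (.nd (.lf 0) (.lf 172)) (.nd (.lf 4113) (.lf 0))) (.lf 0)) (.nd (.lf 0) (.nd (.lf 0)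 (.nd (.lf 30805) (.lf 0))))))) (.nd (.nd (.nd (.nd (.nd (.nd (.lf 0) (.lf 124)) (.lf 0)) (.nd (.lf 0) (.nd (.lf 15414) (.lf 0)))) (.nd (.nd (.lf 0) (.nd (.lf 12830) (.lf 0))) (.nd (.lf 0) (.nd (.lf 26181) (.lf 0))))) (.lf 0)) (.nd (.nd (.nd (.nd (.nd (.lf 0) (.lf 34441)) (.nd (.lf 8) (.lf 0))) (.lf 0)) (.lf 0)) (.nd (.nd (.nd (.nd (.lf 0) (.lf 208)) (.nd (.lf 4119) (.lf 0))) (.lf 0)) (.nd (.nd (.lf 0) (.nd (.lf 44) (.lf 0))) (.nd (.lf 0) (.nd (.lf 30810) (.lf 0))))))))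

/-- a row -/
def tab3 : Trie := (.nd (.nd (.nd (.nd (.nd (.nd (.nd (.lf 0) (.lf 13829)) (.nd (.lf 8) (.lf 0))) (.nd (.lf 0) (.nd (.lf 56) (.lf 0)))) (.nd (.nd (.lf 0) (.nd (.lf 36) (.lf 0))) (.lf 0))) (.nd (.nd (.nd (.lf 0) (.nd (.lf 24) (.lf 0))) (.lf 0)) (.nd (.nd (.lf 0) (.nd (.lf 44) (.lf 0))) (.nd (.lf 0) (.nd (.lf 84) (.lf 0)))))) (.nd (.nd (.nd (.nd (.nd (.lf 0) (.lf 17421)) (.nd (.lf 12) (.lf 0))) (.lf 0)) (.nd (.lf 0) (.nd (.lf 0) (.nd (.lf 80) (.lf 0))))) (.nd (.nd (.nd (.nd (.lf 0) (.lf 22573)) (.lf 0)) (.nd (.lf 0) (.nd (.lf 68) (.lf 0)))) (.nd (.nd (.lf 0) (.nd (.lf 52) (.lf 0))) (.nd (.lf 0) (.nd (.lf 92) (.lf 0))))))) (.nd (.nd (.nd (.nd (.nd (.nd (.lf 0) (.lf 16393)) (.lf 0)) (.nd (.lf 0) (.nd (.lf 60) (.lf 0)))) (.nd (.nd (.lf 0) (.nd (.lf 40)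 (.lf 0))) (.nd (.lf 0) (.nd (.lf 76) (.lf 0))))) (.nd (.nd (.nd (.nd (.lf 0) (.lf 20001)) (.nd (.lf 28) (.lf 0))) (.nd (.lf 0) (.nd (.lf 64) (.lf 0)))) (.nd (.nd (.lf 0) (.nd (.lf 48) (.lf 0))) (.nd (.lf 0) (.nd (.lf 88) (.lf 0)))))) (.nd (.nd (.lf 0) (.nd (.lf 0) (.nd (.nd (.lf 4) (.lf 0)) (.lf 0)))) (.nd (.nd (.nd (.nd (.lf 0) (.lf 27201)) (.nd (.lf 32) (.lf 0))) (.nd (.lf 0) (.nd (.lf 72) (.lf 0)))) (.nd (.lf 0) (.nd (.lf 0) (.nd (.lf 96) (.lf 0))))))))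

/-- a row -/
def tab4 : Trie := (.nd (.nd (.nd (.nd (.nd (.nd (.nd (.lf 0) (.lf 14343)) (.lf 0)) (.nd (.lf 0) (.nd (.lf 61) (.lf 0)))) (.nd (.nd (.lf 0) (.nd (.lf 5157) (.lf 0))) (.lf 0))) (.nd (.nd (.nd (.lf 0) (.nd (.lf 29) (.lf 0))) (.nd (.lf 0) (.nd (.lf 64) (.lf 0)))) (.nd (.lf 0) (.nd (.lf 0) (.nd (.lf 89) (.lf 0)))))) (.nd (.nd (.nd (.nd (.nd (.lf 0) (.lf 17935)) (.lf 0)) (.lf 0)) (.nd (.lf 0) (.nd (.nd (.lf 4) (.lf 0)) (.nd (.lf 10318) (.lf 0))))) (.nd (.nd (.nd (.nd (.lf 0) (.lf 23087)) (.nd (.lf 32) (.lf 0))) (.nd (.lf 0) (.nd (.lf 9285) (.lf 0)))) (.nd (.nd (.lf 0) (.nd (.lf 50) (.lf 0))) (.nd (.lf 0) (.nd (.lf 12381) (.lf 0))))))) (.nd (.nd (.nd (.nd (.nd (.nd (.lf 0) (.lf 16907)) (.nd (.lf 12) (.lf 0))) (.nd (.lf 0) (.nd (.lf 7738) (.lf 0)))) (.nd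 (.nd (.lf 0) (.nd (.lf 38) (.lf 0))) (.nd (.lf 0) (.nd (.lf 81) (.lf 0))))) (.nd (.nd (.nd (.nd (.lf 0) (.lf 20515)) (.nd (.lf 3610) (.lf 0))) (.lf 0)) (.nd (.nd (.lf 0) (.nd (.lf 6705) (.lf 0))) (.nd (.lf 0) (.nd (.lf 11350) (.lf 0)))))) (.nd (.nd (.lf 0) (.nd (.nd (.lf 0) (.nd (.lf 44) (.lf 0))) (.lf 0))) (.nd (.nd (.nd (.nd (.lf 0) (.lf 27715)) (.lf 0)) (.nd (.lf 0) (.nd (.lf 70) (.lf 0)))) (.nd (.lf 0) (.nd (.nd (.lf 8) (.lf 0)) (.nd (.lf 94) (.lf 0))))))))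

/-- a row -/
def tab5 : Trie := (.nd (.nd (.nd (.nd (.nd (.lf 0) (.nd (.lf 0) (.nd (.lf 108) (.lf 0)))) (.nd (.lf 0) (.nd (.lf 0) (.nd (.lf 9737) (.lf 0))))) (.nd (.nd (.nd (.nd (.lf 0) (.lf 19605)) (.lf 0)) (.nd (.lf 0) (.nd (.lf 68) (.lf 0)))) (.nd (.nd (.lf 0) (.nd (.lf 6705) (.lf 0))) (.nd (.lf 0) (.nd (.lf 136) (.lf 0)))))) (.nd (.nd (.lf 0) (.nd (.lf 0) (.nd (.lf 0) (.nd (.lf 17025) (.lf 0))))) (.nd (.nd (.nd (.nd (.lf 0) (.lf 23657)) (.nd (.lf 36) (.lf 0))) (.nd (.nd (.lf 16) (.lf 0)) (.lf 0))) (.nd (.nd (.nd (.lf 4) (.lf 0)) (.nd (.lf 104) (.lf 0))) (.lf 0))))) (.nd (.nd (.nd (.nd (.lf 0) (.nd (.lf 0) (.nd (.lf 14445) (.lf 0)))) (.nd (.nd (.lf 0) (.nd (.lf 100) (.lf 0))) (.nd (.lf 0) (.nd (.lf 128) (.lf 0))))) (.nd (.nd (.nd (.nd (.lf 0) (.lf 21093))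 (.lf 0)) (.nd (.nd (.lf 12) (.lf 0)) (.nd (.lf 9285) (.lf 0)))) (.nd (.lf 0) (.nd (.lf 0) (.nd (.lf 18057) (.lf 0)))))) (.nd (.nd (.nd (.nd (.nd (.lf 0) (.lf 148)) (.lf 0)) (.nd (.nd (.lf 8) (.lf 0)) (.lf 0))) (.nd (.nd (.lf 0) (.nd (.lf 48) (.lf 0))) (.nd (.lf 0) (.nd (.lf 10765) (.lf 0))))) (.nd (.nd (.nd (.nd (.lf 0) (.lf 28285)) (.nd (.lf 5157) (.lf 0))) (.nd (.nd (.lf 2577) (.lf 0)) (.nd (.lf 124) (.lf 0)))) (.nd (.nd (.lf 0) (.nd (.lf 7173) (.lf 0))) (.lf 0))))))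

/-- a row -/
def tab6 : Trie := (.nd (.nd (.nd (.nd (.nd (.lf 0) (.nd (.lf 0) (.nd (.lf 112) (.lf 0)))) (.nd (.nd (.lf 0) (.nd (.lf 100) (.lf 0))) (.nd (.lf 0) (.nd (.lf 10250) (.lf 0))))) (.nd (.nd (.nd (.nd (.lf 0) (.lf 150)) (.lf 0)) (.nd (.nd (.lf 12) (.lf 0)) (.nd (.lf 72) (.lf 0)))) (.nd (.nd (.lf 0) (.nd (.lf 50) (.lf 0))) (.nd (.lf 0) (.nd (.lf 140) (.lf 0)))))) (.nd (.nd (.nd (.lf 0) (.nd (.nd (.lf 8) (.lf 0)) (.lf 0))) (.nd (.lf 0) (.nd (.lf 0) (.nd (.lf 131) (.lf 0))))) (.nd (.nd (.nd (.nd (.lf 0) (.lf 24171)) (.nd (.lf 40) (.lf 0))) (.nd (.nd (.lf 20) (.lf 0)) (.nd (.lf 124) (.lf 0)))) (.lf 0)))) (.nd (.nd (.nd (.nd (.lf 0) (.nd (.lf 0) (.nd (.lf 111) (.lf 0)))) (.nd (.lf 0) (.nd (.lf 0) (.nd (.lf 132) (.lf 0))))) (.nd (.nd (.nd (.nd (.lf 0) (.lf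 21607)) (.lf 0)) (.nd (.lf 0) (.nd (.lf 70) (.lf 0)))) (.nd (.nd (.nd (.lf 4) (.lf 0)) (.nd (.lf 104) (.lf 0))) (.nd (.lf 0) (.nd (.lf 139) (.lf 0)))))) (.nd (.nd (.nd (.nd (.nd (.lf 0) (.lf 152)) (.lf 0)) (.lf 0)) (.nd (.nd (.lf 0) (.nd (.lf 52) (.lf 0))) (.nd (.lf 0) (.nd (.lf 11278) (.lf 0))))) (.nd (.nd (.nd (.nd (.lf 0) (.lf 28799)) (.nd (.lf 38) (.lf 0))) (.nd (.nd (.lf 19) (.lf 0)) (.lf 0))) (.nd (.nd (.lf 0) (.nd (.lf 7686) (.lf 0))) (.lf 0))))))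

/-- a row -/
def tab7 : Trie := (.nd (.nd (.nd (.nd (.nd (.nd (.nd (.lf 0) (.lf 116)) (.lf 0)) (.lf 0)) (.lf 0)) (.nd (.nd (.nd (.nd (.lf 0) (.lf 36003)) (.nd (.lf 12837) (.lf 0))) (.lf 0)) (.nd (.lf 0) (.nd (.lf 0) (.nd (.lf 30813) (.lf 0)))))) (.nd (.nd (.nd (.nd (.lf 0) (.nd (.lf 2575) (.lf 0))) (.lf 0)) (.nd (.nd (.lf 0) (.nd (.lf 44) (.lf 0))) (.lf 0))) (.nd (.nd (.nd (.nd (.lf 0) (.lf 192)) (.lf 0)) (.nd (.lf 0) (.nd (.lf 26189) (.lf 0)))) (.nd (.nd (.lf 0) (.nd (.lf 15422) (.lf 0))) (.nd (.nd (.lf 8) (.lf 0)) (.lf 0)))))) (.nd (.nd (.nd (.nd (.nd (.nd (.lf 0) (.lf 144)) (.nd (.lf 2061) (.lf 0))) (.lf 0)) (.nd (.lf 0) (.nd (.nd (.lf 4) (.lf 0)) (.lf 0)))) (.nd (.nd (.nd (.lf 0) (.nd (.lf 12842) (.lf 0))) (.lf 0)) (.nd (.nd (.lf 0) (.nd (.lf 15417) (.lf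 0))) (.nd (.lf 0) (.nd (.lf 30818) (.lf 0)))))) (.nd (.nd (.nd (.nd (.nd (.lf 0) (.lf 35997)) (.lf 0)) (.nd (.lf 0) (.nd (.lf 64) (.lf 0)))) (.lf 0)) (.nd (.nd (.nd (.nd (.lf 0) (.lf 228)) (.lf 0)) (.nd (.lf 0) (.nd (.lf 26194) (.lf 0)))) (.lf 0)))))

/-- a row -/
def tab8 : Trie := (.nd (.nd (.nd (.lf 0) (.nd (.nd (.nd (.nd (.lf 0) (.lf 168)) (.lf 0)) (.nd (.nd (.lf 16) (.lf 0)) (.nd (.lf 76) (.lf 0)))) (.nd (.nd (.nd (.lf 4) (.lf 0)) (.nd (.lf 61) (.lf 0))) (.lf 0)))) (.nd (.nd (.nd (.nd (.nd (.lf 0) (.lf 19045)) (.nd (.lf 29) (.lf 0))) (.lf 0)) (.nd (.nd (.lf 0) (.nd (.lf 6149) (.lf 0))) (.nd (.lf 0) (.nd (.lf 144) (.lf 0))))) (.nd (.nd (.nd (.nd (.lf 0) (.lf 25205)) (.lf 0)) (.nd (.lf 0) (.nd (.lf 128) (.lf 0)))) (.nd (.nd (.lf 0) (.nd (.lf 112) (.lf 0)))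 (.nd (.lf 0) (.nd (.lf 156) (.lf 0))))))) (.nd (.nd (.nd (.nd (.nd (.lf 0) (.nd (.lf 24) (.lf 0))) (.nd (.nd (.lf 8) (.lf 0)) (.nd (.lf 116) (.lf 0)))) (.lf 0)) (.nd (.nd (.nd (.lf 0) (.nd (.lf 100) (.lf 0))) (.nd (.nd (.lf 20) (.lf 0)) (.nd (.lf 81) (.lf 0)))) (.nd (.nd (.lf 0) (.nd (.lf 108) (.lf 0))) (.lf 0)))) (.nd (.nd (.nd (.nd (.nd (.lf 0) (.lf 164)) (.lf 0)) (.nd (.lf 0) (.nd (.lf 8713) (.lf 0)))) (.nd (.nd (.lf 0) (.nd (.lf 56) (.lf 0))) (.nd (.lf 0) (.nd (.lf 11809) (.lf 0))))) (.nd (.nd (.nd (.nd (.lf 0) (.lf 29841)) (.lf 0)) (.nd (.nd (.lf 32) (.lf 0)) (.nd (.lf 132) (.lf 0)))) (.nd (.lf 0) (.nd (.lf 0) (.nd (.lf 160) (.lf 0))))))))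

/-- a row -/
def tab9 : Trie := (.nd (.nd (.nd (.nd (.nd (.lf 0) (.nd (.nd (.lf 8) (.lf 0)) (.nd (.lf 116) (.lf 0)))) (.lf 0)) (.nd (.nd (.nd (.nd (.lf 0) (.lf 21671)) (.nd (.lf 100) (.lf 0))) (.nd (.nd (.lf 2577) (.lf 0)) (.nd (.lf 80) (.lf 0)))) (.nd (.nd (.lf 0) (.nd (.lf 7738) (.lf 0))) (.lf 0)))) (.nd (.nd (.nd (.nd (.nd (.lf 0) (.lf 19558)) (.nd (.lf 3610) (.lf 0))) (.lf 0)) (.nd (.nd (.lf 0) (.nd (.lf 6662) (.lf 0))) (.lf 0))) (.nd (.nd (.nd (.nd (.lf 0) (.lf 25718)) (.lf 0)) (.nd (.nd (.lf 32) (.lf 0)) (.nd (.lf 17025) (.lf 0)))) (.nd (.nd (.lf 0) (.nd (.lf 111) (.lf 0))) (.nd (.lf 0) (.nd (.lf 20637) (.lf 0))))))) (.nd (.nd (.nd (.nd (.nd (.lf 0) (.nd (.lf 28) (.lf 0))) (.lf 0)) (.nd (.lf 0) (.nd (.lf 0) (.nd (.lf 144) (.lf 0))))) (.nd (.nd (.lf 0) (.nd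 (.nd (.lf 19) (.lf 0)) (.nd (.lf 10318) (.lf 0)))) (.nd (.nd (.lf 0) (.nd (.lf 14445) (.lf 0))) (.lf 0)))) (.nd (.nd (.nd (.nd (.nd (.lf 0) (.lf 169)) (.lf 0)) (.nd (.lf 0) (.nd (.lf 9226) (.lf 0)))) (.nd (.nd (.nd (.lf 4) (.lf 0)) (.nd (.lf 60) (.lf 0))) (.nd (.lf 0) (.nd (.lf 12322) (.lf 0))))) (.nd (.nd (.nd (.nd (.lf 0) (.lf 30354)) (.lf 0)) (.nd (.lf 0) (.nd (.lf 131) (.lf 0)))) (.nd (.lf 0) (.nd (.lf 0) (.nd (.lf 159) (.lf 0))))))))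

/-- a row -/
def tab10 : Trie := (.nd (.nd (.nd (.nd (.nd (.nd (.nd (.lf 0) (.lf 120)) (.nd (.lf 2571) (.lf 0))) (.lf 0)) (.nd (.nd (.lf 0) (.nd (.lf 14905) (.lf 0))) (.nd (.nd (.lf 4) (.lf 0)) (.lf 0)))) (.nd (.nd (.nd (.nd (.lf 0) (.lf 36535)) (.nd (.lf 13361) (.lf 0))) (.lf 0)) (.lf 0))) (.nd (.nd (.nd (.nd (.nd (.lf 0) (.lf 172)) (.lf 0)) (.nd (.lf 0) (.nd (.lf 64) (.lf 0)))) (.nd (.lf 0) (.nd (.lf 0) (.nd (.lf 29282) (.lf 0))))) (.nd (.nd (.lf 0) (.nd (.lf 0) (.nd (.lf 26709) (.lf 0)))) (.nd (.lf 0) (.nd (.nd (.lf 12) (.lf 0)) (.lf 0)))))) (.nd (.nd (.nd (.lf 0) (.nd (.nd (.lf 0) (.nd (.lf 14910) (.lf 0))) (.nd (.lf 0) (.nd (.lf 29277) (.lf 0))))) (.nd (.nd (.nd (.nd (.lf 0) (.lf 192)) (.nd (.lf 13366) (.lf 0))) (.lf 0)) (.lf 0))) (.nd (.nd (.nd (.nd (.nd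 (.lf 0) (.lf 36529)) (.nd (.lf 32) (.lf 0))) (.lf 0)) (.lf 0)) (.nd (.nd (.nd (.nd (.lf 0) (.lf 240)) (.lf 0)) (.nd (.lf 0) (.nd (.lf 26714) (.lf 0)))) (.nd (.lf 0) (.nd (.nd (.lf 2057) (.lf 0)) (.lf 0)))))))

/-- a row -/
def tab11 : Trie := (.nd (.nd (.nd (.nd (.nd (.nd (.lf 0) (.nd (.lf 29) (.lf 0))) (.lf 0)) (.nd (.nd (.lf 0) (.nd (.lf 108) (.lf 0))) (.nd (.lf 0) (.nd (.lf 11821) (.lf 0))))) (.nd (.nd (.nd (.nd (.lf 0) (.lf 188)) (.lf 0)) (.nd (.lf 0) (.nd (.lf 84) (.lf 0)))) (.lf 0))) (.nd (.nd (.nd (.lf 0) (.nd (.nd (.lf 16) (.lf 0)) (.nd (.lf 8717) (.lf 0)))) (.lf 0)) (.nd (.nd (.nd (.lf 0) (.nd (.lf 56) (.lf 0))) (.nd (.lf 0) (.nd (.lf 136) (.lf 0)))) (.nd (.lf 0) (.nd (.lf 0) (.nd (.lf 176) (.lf 0))))))) (.nd (.nd (.nd (.nd (.nd (.nd (.lf 0) (.lf 19049))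 (.lf 0)) (.nd (.nd (.lf 12) (.lf 0)) (.nd (.lf 120) (.lf 0)))) (.nd (.nd (.nd (.lf 4) (.lf 0)) (.nd (.lf 112) (.lf 0))) (.lf 0))) (.nd (.nd (.nd (.nd (.lf 0) (.lf 25209)) (.nd (.lf 104) (.lf 0))) (.nd (.lf 0) (.nd (.lf 89) (.lf 0)))) (.nd (.lf 0) (.nd (.lf 0) (.nd (.lf 172) (.lf 0)))))) (.nd (.nd (.nd (.nd (.nd (.lf 0) (.lf 184)) (.nd (.lf 4613) (.lf 0))) (.nd (.nd (.lf 20) (.lf 0)) (.lf 0))) (.lf 0)) (.nd (.nd (.nd (.nd (.lf 0) (.lf 31405)) (.nd (.lf 61) (.lf 0))) (.nd (.nd (.lf 44) (.lf 0)) (.nd (.lf 140) (.lf 0)))) (.nd (.lf 0) (.nd (.nd (.lf 24) (.lf 0)) (.nd (.lf 180) (.lf 0))))))))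

/-- a row -/
def tab12 : Trie := (.nd (.nd (.nd (.nd (.nd (.nd (.lf 0) (.nd (.lf 3610) (.lf 0))) (.nd (.nd (.lf 12) (.lf 0)) (.nd (.lf 120) (.lf 0)))) (.nd (.nd (.nd (.lf 4) (.lf 0)) (.nd (.lf 14445) (.lf 0))) (.nd (.lf 0) (.nd (.lf 12334) (.lf 0))))) (.nd (.nd (.nd (.nd (.lf 0) (.lf 24251)) (.nd (.lf 104) (.lf 0))) (.nd (.lf 0) (.nd (.lf 88) (.lf 0)))) (.nd (.lf 0) (.nd (.lf 0) (.nd (.lf 172) (.lf 0)))))) (.nd (.nd (.nd (.lf 0) (.nd (.nd (.lf 2577) (.lf 0)) (.nd (.lf 9230) (.lf 0)))) (.lf 0)) (.nd (.nd (.nd (.lf 0) (.nd (.lf 60) (.lf 0))) (.nd (.nd (.lf 44) (.lf 0)) (.nd (.lf 18057) (.lf 0)))) (.nd (.lf 0) (.nd (.lf 0) (.nd (.lf 23217) (.lf 0))))))) (.nd (.nd (.nd (.nd (.nd (.nd (.lf 0) (.lf 19562)) (.lf 0)) (.lf 0)) (.nd (.nd (.lf 0) (.nd (.lf 111) (.lf 0)))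 (.lf 0))) (.nd (.nd (.nd (.nd (.lf 0) (.lf 25722)) (.lf 0)) (.nd (.lf 0) (.nd (.lf 11350) (.lf 0)))) (.lf 0))) (.nd (.nd (.nd (.nd (.nd (.lf 0) (.lf 189)) (.nd (.lf 5126) (.lf 0))) (.nd (.nd (.lf 19) (.lf 0)) (.lf 0))) (.lf 0)) (.nd (.nd (.nd (.nd (.lf 0) (.lf 31918)) (.nd (.lf 7738) (.lf 0))) (.nd (.lf 0) (.nd (.lf 139) (.lf 0)))) (.nd (.lf 0) (.nd (.nd (.lf 28) (.lf 0)) (.nd (.lf 179) (.lf 0))))))))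

/-- a row -/
def tab13 : Trie := (.nd (.nd (.nd (.nd (.nd (.nd (.lf 0) (.nd (.lf 5157) (.lf 0))) (.nd (.nd (.lf 16) (.lf 0)) (.lf 0))) (.lf 0)) (.nd (.nd (.nd (.nd (.lf 0) (.lf 25797)) (.nd (.lf 108) (.lf 0))) (.nd (.lf 0) (.nd (.lf 92) (.lf 0)))) (.nd (.lf 0) (.nd (.lf 0) (.nd (.lf 176) (.lf 0)))))) (.nd (.nd (.nd (.nd (.nd (.lf 0) (.lf 23673)) (.nd (.lf 6705) (.lf 0))) (.nd (.lf 0) (.nd (.lf 9761) (.lf 0)))) (.nd (.lf 0) (.nd (.lf 0) (.nd (.lf 20637) (.lf 0))))) (.nd (.nd (.nd (.nd (.lf 4) (.lf 0)) (.lf 0)) (.lf 0)) (.nd (.nd (.lf 0) (.nd (.lf 120) (.lf 0))) (.nd (.nd (.lf 3077) (.lf 0)) (.lf 0)))))) (.nd (.nd (.nd (.nd (.nd (.nd (.lf 0) (.lf 21109)) (.nd (.lf 48) (.lf 0))) (.nd (.nd (.lf 2577) (.lf 0)) (.lf 0))) (.nd (.nd (.lf 0) (.nd (.lf 116) (.lf 0))) (.nd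 (.lf 0) (.nd (.lf 156) (.lf 0))))) (.nd (.nd (.nd (.lf 0) (.nd (.lf 14445) (.lf 0))) (.nd (.nd (.lf 44) (.lf 0)) (.nd (.lf 12381) (.lf 0)))) (.nd (.lf 0) (.nd (.lf 0) (.nd (.lf 23217) (.lf 0)))))) (.nd (.nd (.nd (.nd (.nd (.lf 0) (.lf 196)) (.lf 0)) (.nd (.nd (.lf 32) (.lf 0)) (.nd (.lf 10797) (.lf 0)))) (.lf 0)) (.nd (.nd (.nd (.nd (.lf 0) (.lf 32449)) (.lf 0)) (.lf 0)) (.nd (.lf 0) (.nd (.nd (.lf 36) (.lf 0)) (.nd (.lf 192) (.lf 0))))))))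

/-- a row -/
def tab14 : Trie := (.nd (.nd (.nd (.nd (.nd (.nd (.lf 0) (.nd (.lf 38) (.lf 0))) (.nd (.nd (.lf 20) (.lf 0)) (.lf 0))) (.nd (.nd (.lf 0) (.nd (.lf 116) (.lf 0))) (.lf 0))) (.nd (.nd (.nd (.nd (.lf 0) (.lf 198)) (.nd (.lf 112) (.lf 0))) (.nd (.nd (.lf 44) (.lf 0)) (.nd (.lf 96) (.lf 0)))) (.nd (.lf 0) (.nd (.lf 0) (.nd (.lf 180) (.lf 0)))))) (.nd (.nd (.nd (.nd (.nd (.lf 0) (.lf 24187)) (.nd (.lf 50) (.lf 0))) (.nd (.nd (.lf 32) (.lf 0)) (.nd (.lf 10274) (.lf 0)))) (.nd (.lf 0) (.nd (.lf 0) (.nd (.lf 159) (.lf 0))))) (.nd (.lf 0) (.nd (.lf 0) (.nd (.nd (.lf 3590) (.lf 0)) (.nd (.lf 192) (.lf 0))))))) (.nd (.nd (.nd (.nd (.nd (.nd (.lf 0) (.lf 21623)) (.nd (.lf 52) (.lf 0))) (.nd (.nd (.lf 19) (.lf 0)) (.lf 0))) (.nd (.lf 0) (.nd (.lf 0) (.nd (.lf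 160) (.lf 0))))) (.nd (.nd (.nd (.nd (.lf 4) (.lf 0)) (.nd (.lf 111) (.lf 0))) (.nd (.lf 0) (.nd (.lf 94) (.lf 0)))) (.nd (.nd (.lf 0) (.nd (.lf 120) (.lf 0))) (.nd (.lf 0) (.nd (.lf 179) (.lf 0)))))) (.nd (.nd (.nd (.nd (.nd (.lf 0) (.lf 200)) (.lf 0)) (.nd (.lf 0) (.nd (.lf 11310) (.lf 0)))) (.lf 0)) (.nd (.nd (.nd (.nd (.lf 0) (.lf 32963)) (.lf 0)) (.lf 0)) (.nd (.lf 0) (.nd (.nd (.lf 40) (.lf 0)) (.lf 0)))))))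

/-- a row -/
def tab15 : Trie := (.nd (.nd (.nd (.nd (.nd (.lf 0) (.nd (.lf 0) (.nd (.lf 24669) (.lf 0)))) (.nd (.nd (.lf 0) (.nd (.lf 18509) (.lf 0))) (.nd (.nd (.lf 8) (.lf 0)) (.lf 0)))) (.nd (.nd (.nd (.nd (.lf 0) (.lf 37083)) (.nd (.lf 15941) (.lf 0))) (.lf 0)) (.nd (.lf 0) (.nd (.nd (.lf 32) (.lf 0)) (.lf 0))))) (.nd (.nd (.nd (.nd (.nd (.lf 0) (.lf 208)) (.lf 0)) (.lf 0)) (.nd (.lf 0) (.nd (.nd (.lf 2053) (.lf 0)) (.lf 0)))) (.nd (.nd (.nd (.nd (.lf 0) (.lf 240)) (.lf 0)) (.lf 0)) (.nd (.nd (.lf 0) (.nd (.lf 22106) (.lf 0))) (.lf 0))))) (.nd (.nd (.nd (.nd (.nd (.nd (.lf 0) (.lf 204)) (.lf 0)) (.nd (.lf 0) (.nd (.lf 24674) (.lf 0)))) (.nd (.nd (.lf 0) (.nd (.lf 18514) (.lf 0))) (.nd (.nd (.lf 12) (.lf 0)) (.lf 0)))) (.nd (.nd (.nd (.nd (.lf 0) (.lf 228))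 (.nd (.lf 15946) (.lf 0))) (.lf 0)) (.nd (.nd (.lf 0) (.nd (.lf 22101) (.lf 0))) (.nd (.nd (.lf 44) (.lf 0)) (.lf 0))))) (.nd (.nd (.nd (.nd (.nd (.lf 0) (.lf 37077)) (.lf 0)) (.lf 0)) (.nd (.lf 0) (.nd (.nd (.lf 2567) (.lf 0)) (.lf 0)))) (.lf 0))))

/-- a row -/
def tab16 : Trie := (.nd (.nd (.nd (.nd (.nd (.nd (.nd (.lf 0) (.lf 19069)) (.lf 0)) (.lf 0)) (.nd (.nd (.lf 0) (.nd (.lf 128) (.lf 0))) (.lf 0))) (.nd (.nd (.nd (.nd (.lf 0) (.lf 224)) (.lf 0)) (.lf 0)) (.nd (.nd (.nd (.lf 12) (.lf 0)) (.nd (.lf 89) (.lf 0))) (.nd (.nd (.lf 4617) (.lf 0)) (.lf 0))))) (.nd (.nd (.lf 0) (.nd (.lf 0) (.nd (.nd (.lf 24) (.lf 0)) (.nd (.lf 204) (.lf 0))))) (.nd (.nd (.nd (.nd (.lf 0) (.lf 31441)) (.nd (.lf 76) (.lf 0))) (.lf 0)) (.nd (.nd (.nd (.lf 20) (.lf 0)) (.nd (.lf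 140) (.lf 0))) (.nd (.lf 0) (.nd (.lf 212) (.lf 0))))))) (.nd (.nd (.nd (.lf 0) (.nd (.nd (.nd (.lf 8) (.lf 0)) (.nd (.lf 132) (.lf 0))) (.lf 0))) (.nd (.nd (.nd (.nd (.lf 0) (.lf 29901)) (.nd (.lf 124) (.lf 0))) (.lf 0)) (.nd (.nd (.nd (.lf 16) (.lf 0)) (.nd (.lf 136) (.lf 0))) (.nd (.nd (.lf 6157) (.lf 0)) (.nd (.lf 208) (.lf 0)))))) (.nd (.nd (.nd (.nd (.nd (.lf 0) (.lf 220)) (.lf 0)) (.lf 0)) (.nd (.nd (.lf 0) (.nd (.lf 84) (.lf 0))) (.nd (.nd (.lf 29) (.lf 0)) (.lf 0)))) (.nd (.nd (.nd (.lf 0) (.nd (.lf 81) (.lf 0))) (.nd (.nd (.lf 64) (.lf 0)) (.lf 0))) (.nd (.nd (.lf 0) (.nd (.lf 11841) (.lf 0))) (.nd (.lf 0) (.nd (.lf 216) (.lf 0))))))))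

/-- a row -/
def tab17 : Trie := (.nd (.nd (.nd (.nd (.nd (.nd (.nd (.lf 0) (.lf 19582)) (.lf 0)) (.lf 0)) (.nd (.nd (.nd (.lf 8) (.lf 0)) (.nd (.lf 17025) (.lf 0))) (.lf 0))) (.nd (.nd (.nd (.nd (.lf 0) (.lf 28895)) (.nd (.lf 124) (.lf 0))) (.lf 0)) (.nd (.nd (.lf 0) (.nd (.lf 11350) (.lf 0))) (.nd (.nd (.lf 5130) (.lf 0)) (.nd (.lf 208) (.lf 0)))))) (.nd (.nd (.lf 0) (.nd (.lf 0) (.nd (.nd (.lf 28) (.lf 0)) (.lf 0)))) (.nd (.nd (.nd (.nd (.lf 0) (.lf 31954)) (.nd (.lf 80) (.lf 0))) (.nd (.nd (.lf 64) (.lf 0)) (.lf 0))) (.nd (.nd (.nd (.lf 19) (.lf 0)) (.nd (.lf 139) (.lf 0))) (.nd (.lf 0) (.nd (.lf 27861) (.lf 0))))))) (.nd (.nd (.nd (.lf 0) (.nd (.nd (.lf 0) (.nd (.lf 131) (.lf 0))) (.nd (.lf 0) (.nd (.lf 204) (.lf 0))))) (.nd (.nd (.nd (.nd (.lf 0) (.lf 30414))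 (.lf 0)) (.lf 0)) (.nd (.nd (.nd (.lf 2577) (.lf 0)) (.nd (.lf 18057) (.lf 0))) (.nd (.nd (.lf 6670) (.lf 0)) (.lf 0))))) (.nd (.nd (.nd (.nd (.nd (.lf 0) (.lf 225)) (.lf 0)) (.lf 0)) (.nd (.nd (.nd (.lf 12) (.lf 0)) (.nd (.lf 88) (.lf 0))) (.nd (.nd (.lf 3610) (.lf 0)) (.lf 0)))) (.nd (.nd (.nd (.lf 0) (.nd (.lf 10318) (.lf 0))) (.lf 0)) (.nd (.nd (.lf 0) (.nd (.lf 12354) (.lf 0))) (.nd (.lf 0) (.nd (.lf 215) (.lf 0))))))))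

/-- a row -/
def tab18 : Trie := (.nd (.nd (.nd (.nd (.nd (.nd (.nd (.lf 0) (.lf 21137)) (.lf 0)) (.nd (.lf 0) (.nd (.lf 156) (.lf 0)))) (.lf 0)) (.nd (.nd (.nd (.nd (.lf 0) (.lf 30441)) (.nd (.lf 128) (.lf 0))) (.lf 0)) (.nd (.nd (.nd (.lf 2577) (.lf 0)) (.nd (.lf 12381) (.lf 0))) (.nd (.lf 0) (.nd (.lf 212) (.lf 0)))))) (.nd (.nd (.nd (.nd (.nd (.lf 0) (.lf 28365)) (.nd (.lf 9285) (.lf 0))) (.lf 0)) (.nd (.nd (.lf 0) (.nd (.lf 10817) (.lf 0))) (.nd (.nd (.lf 36) (.lf 0)) (.lf 0)))) (.nd (.nd (.nd (.nd (.lf 8) (.lf 32485)) (.lf 0)) (.lf 0)) (.nd (.nd (.nd (.lf 32) (.lf 0)) (.lf 0)) (.lf 0))))) (.nd (.nd (.nd (.nd (.nd (.lf 0) (.nd (.lf 68) (.lf 0))) (.nd (.lf 0) (.nd (.lf 20637) (.lf 0)))) (.nd (.nd (.lf 0) (.nd (.lf 144) (.lf 0))) (.nd (.nd (.lf 3081) (.lf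 0)) (.lf 0)))) (.nd (.nd (.nd (.lf 0) (.nd (.lf 17025) (.lf 0))) (.nd (.nd (.lf 64) (.lf 0)) (.lf 0))) (.nd (.lf 0) (.nd (.nd (.lf 7201) (.lf 0)) (.nd (.lf 27861) (.lf 0)))))) (.nd (.nd (.nd (.nd (.nd (.lf 0) (.lf 232)) (.lf 0)) (.lf 0)) (.nd (.nd (.nd (.lf 16) (.lf 0)) (.nd (.lf 92) (.lf 0))) (.nd (.nd (.lf 5157) (.lf 0)) (.lf 0)))) (.nd (.nd (.lf 0) (.nd (.lf 0) (.nd (.lf 204) (.lf 0)))) (.nd (.lf 0) (.nd (.lf 0) (.nd (.lf 228) (.lf 0))))))))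

/-- a row -/
def tab19 : Trie := (.nd (.nd (.nd (.nd (.nd (.nd (.nd (.lf 0) (.lf 21651)) (.lf 0)) (.nd (.lf 0) (.nd (.lf 160) (.lf 0)))) (.nd (.nd (.lf 0) (.nd (.lf 144) (.lf 0))) (.lf 0))) (.nd (.nd (.nd (.nd (.lf 0) (.lf 234)) (.nd (.lf 132) (.lf 0))) (.nd (.nd (.lf 64) (.lf 0)) (.lf 0))) (.nd (.nd (.nd (.lf 19) (.lf 0)) (.nd (.lf 94) (.lf 0))) (.nd (.lf 0) (.nd (.lf 216) (.lf 0)))))) (.nd (.nd (.nd (.nd (.nd (.lf 0) (.lf 28879)) (.nd (.lf 70) (.lf 0))) (.lf 0)) (.nd (.nd (.lf 0) (.nd (.lf 11330) (.lf 0))) (.nd (.nd (.lf 40) (.lf 0)) (.lf 0)))) (.nd (.nd (.nd (.nd (.lf 0) (.lf 32999)) (.lf 0)) (.nd (.lf 0) (.nd (.lf 204) (.lf 0)))) (.nd (.lf 0) (.nd (.lf 0) (.nd (.lf 228) (.lf 0))))))) (.nd (.nd (.nd (.nd (.nd (.lf 0) (.nd (.lf 72) (.lf 0))) (.nd (.lf 0) (.nd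 (.lf 159) (.lf 0)))) (.nd (.lf 0) (.nd (.nd (.lf 3594) (.lf 0)) (.lf 0)))) (.nd (.nd (.nd (.nd (.lf 8) (.lf 0)) (.nd (.lf 131) (.lf 0))) (.lf 0)) (.nd (.nd (.nd (.lf 32) (.lf 0)) (.lf 0)) (.nd (.nd (.lf 7714) (.lf 0)) (.nd (.lf 215) (.lf 0)))))) (.nd (.nd (.nd (.nd (.nd (.lf 0) (.lf 236)) (.lf 0)) (.lf 0)) (.nd (.nd (.nd (.lf 20) (.lf 0)) (.nd (.lf 96) (.lf 0))) (.nd (.nd (.lf 38) (.lf 0)) (.lf 0)))) (.lf 0))))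

/-- a row -/
def tab20 : Trie := (.nd (.nd (.nd (.nd (.nd (.nd (.nd (.lf 0) (.lf 23725)) (.nd (.lf 9285) (.lf 0))) (.nd (.lf 0) (.nd (.lf 176) (.lf 0)))) (.nd (.nd (.nd (.lf 16) (.lf 0)) (.lf 0)) (.nd (.nd (.lf 3085) (.lf 0)) (.lf 0)))) (.nd (.nd (.nd (.nd (.lf 0) (.lf 31989)) (.nd (.lf 136) (.lf 0))) (.lf 0)) (.nd (.lf 0) (.nd (.nd (.lf 7213) (.lf 0)) (.lf 0))))) (.nd (.nd (.lf 0) (.nd (.lf 0) (.nd (.nd (.lf 48) (.lf 0)) (.nd (.lf 27861) (.lf 0))))) (.nd (.nd (.nd (.nd (.lf 12) (.lf 0)) (.nd (.lf 92) (.lf 0))) (.lf 0)) (.nd (.nd (.nd (.lf 44) (.lf 0)) (.nd (.lf 172) (.lf 0))) (.lf 0))))) (.nd (.nd (.nd (.nd (.nd (.nd (.lf 0) (.lf 28369)) (.lf 0)) (.nd (.lf 0) (.nd (.lf 23217) (.lf 0)))) (.nd (.nd (.nd (.lf 2577) (.lf 0)) (.lf 0)) (.nd (.lf 0) (.nd (.lf 212)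 (.lf 0))))) (.nd (.nd (.nd (.nd (.lf 0) (.lf 32497)) (.nd (.lf 18057) (.lf 0))) (.lf 0)) (.lf 0))) (.nd (.nd (.nd (.nd (.nd (.lf 0) (.lf 244)) (.nd (.lf 9793) (.lf 0))) (.nd (.nd (.lf 64) (.lf 0)) (.lf 0))) (.nd (.lf 0) (.nd (.nd (.lf 6705) (.lf 0)) (.lf 0)))) (.nd (.nd (.nd (.lf 0) (.nd (.lf 12381) (.lf 0))) (.nd (.lf 0) (.nd (.lf 208) (.lf 0)))) (.nd (.lf 0) (.nd (.nd (.lf 68) (.lf 0)) (.nd (.lf 240) (.lf 0))))))))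

/-- a row -/
def tab21 : Trie := (.nd (.nd (.nd (.nd (.nd (.nd (.nd (.lf 0) (.lf 24239)) (.nd (.lf 70) (.lf 0))) (.nd (.lf 0) (.nd (.lf 180) (.lf 0)))) (.nd (.nd (.nd (.lf 20) (.lf 0)) (.lf 0)) (.nd (.nd (.lf 3598) (.lf 0)) (.lf 0)))) (.nd (.nd (.nd (.nd (.lf 0) (.lf 246)) (.nd (.lf 140) (.lf 0))) (.lf 0)) (.nd (.lf 0) (.nd (.nd (.lf 7726) (.lf 0)) (.lf 0))))) (.nd (.nd (.nd (.lf 0) (.nd (.nd (.lf 64) (.lf 0)) (.lf 0))) (.nd (.lf 0) (.nd (.nd (.lf 52) (.lf 0)) (.nd (.lf 215) (.lf 0))))) (.nd (.nd (.nd (.lf 0) (.nd (.lf 96) (.lf 0))) (.nd (.lf 0) (.nd (.lf 208) (.lf 0)))) (.nd (.lf 0) (.nd (.lf 0) (.nd (.lf 240) (.lf 0))))))) (.nd (.nd (.nd (.nd (.nd (.nd (.lf 0) (.lf 28883)) (.lf 0)) (.nd (.lf 0) (.nd (.lf 179) (.lf 0)))) (.nd (.nd (.nd (.lf 19) (.lf 0)) (.lf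 0)) (.nd (.lf 0) (.nd (.lf 216) (.lf 0))))) (.nd (.nd (.nd (.nd (.lf 12) (.lf 33011)) (.nd (.lf 139) (.lf 0))) (.lf 0)) (.nd (.nd (.nd (.lf 44) (.lf 0)) (.nd (.lf 172) (.lf 0))) (.lf 0)))) (.nd (.nd (.nd (.nd (.nd (.lf 0) (.lf 248)) (.nd (.lf 10306) (.lf 0))) (.lf 0)) (.nd (.lf 0) (.nd (.nd (.lf 50) (.lf 0)) (.lf 0)))) (.nd (.nd (.nd (.lf 0) (.nd (.lf 94) (.lf 0))) (.lf 0)) (.nd (.lf 0) (.nd (.nd (.lf 72) (.lf 0)) (.lf 0)))))))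

/-- a row -/
def tab22 : Trie := (.nd (.nd (.nd (.nd (.nd (.nd (.nd (.lf 0) (.lf 25281)) (.nd (.lf 81) (.lf 0))) (.lf 0)) (.nd (.nd (.lf 0) (.nd (.lf 156) (.lf 0))) (.nd (.nd (.lf 4641) (.lf 0)) (.lf 0)))) (.nd (.nd (.nd (.nd (.lf 0) (.lf 256)) (.lf 0)) (.lf 0)) (.nd (.nd (.nd (.lf 44) (.lf 0)) (.lf 0)) (.lf 0)))) (.nd (.nd (.nd (.nd (.nd (.lf 0) (.lf 31473)) (.nd (.lf 89) (.lf 0))) (.lf 0)) (.nd (.lf 0) (.nd (.nd (.lf 56) (.lf 0)) (.nd (.lf 228) (.lf 0))))) (.nd (.nd (.nd (.nd (.lf 20) (.lf 0)) (.lf 0)) (.nd (.lf 0) (.nd (.lf 212) (.lf 0)))) (.nd (.nd (.lf 0) (.nd (.lf 180) (.lf 0))) (.nd (.nd (.lf 8769) (.lf 0)) (.lf 0)))))) (.nd (.nd (.nd (.nd (.nd (.nd (.lf 0) (.lf 29925)) (.nd (.lf 84) (.lf 0))) (.nd (.nd (.lf 64) (.lf 0)) (.nd (.lf 192) (.lf 0)))) (.nd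 (.nd (.nd (.lf 32) (.lf 0)) (.nd (.lf 160) (.lf 0))) (.nd (.nd (.lf 6189) (.lf 0)) (.lf 0)))) (.nd (.nd (.nd (.nd (.lf 16) (.lf 0)) (.lf 0)) (.lf 0)) (.nd (.nd (.lf 0) (.nd (.lf 176) (.lf 0))) (.nd (.lf 0) (.nd (.lf 240) (.lf 0)))))) (.nd (.nd (.nd (.nd (.nd (.lf 0) (.lf 252)) (.lf 0)) (.lf 0)) (.nd (.lf 0) (.nd (.nd (.lf 61) (.lf 0)) (.lf 0)))) (.nd (.nd (.lf 0) (.nd (.lf 0) (.nd (.lf 216) (.lf 0)))) (.nd (.lf 0) (.nd (.nd (.lf 76) (.lf 0)) (.lf 0)))))))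

/-- a row -/
def tab23 : Trie := (.nd (.nd (.nd (.nd (.nd (.nd (.nd (.lf 0) (.lf 25794)) (.nd (.lf 10318) (.lf 0))) (.nd (.nd (.lf 64) (.lf 0)) (.nd (.lf 192) (.lf 0)))) (.nd (.nd (.nd (.lf 32) (.lf 0)) (.nd (.lf 20637) (.lf 0))) (.nd (.nd (.lf 5154) (.lf 0)) (.lf 0)))) (.nd (.nd (.nd (.nd (.lf 0) (.lf 33023)) (.lf 0)) (.lf 0)) (.nd (.lf 0) (.nd (.lf 0) (.nd (.lf 240) (.lf 0)))))) (.nd (.nd (.nd (.nd (.nd (.lf 0) (.lf 31986)) (.nd (.lf 11350) (.lf 0))) (.lf 0)) (.nd (.lf 0) (.nd (.nd (.lf 60) (.lf 0)) (.lf 0)))) (.nd (.nd (.nd (.nd (.lf 19) (.lf 0)) (.lf 0)) (.nd (.lf 0) (.nd (.lf 27861) (.lf 0)))) (.nd (.nd (.lf 0) (.nd (.lf 179) (.lf 0))) (.nd (.nd (.lf 9282) (.lf 0)) (.lf 0)))))) (.nd (.nd (.nd (.nd (.nd (.nd (.lf 0) (.lf 30438)) (.nd (.lf 88) (.lf 0))) (.lf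 0)) (.nd (.nd (.lf 0) (.nd (.lf 159) (.lf 0))) (.nd (.nd (.lf 6702) (.lf 0)) (.nd (.lf 228) (.lf 0))))) (.nd (.nd (.nd (.nd (.lf 2577) (.lf 0)) (.lf 0)) (.lf 0)) (.nd (.nd (.lf 0) (.nd (.lf 23217) (.lf 0))) (.lf 0)))) (.nd (.nd (.nd (.nd (.nd (.lf 0) (.lf 257)) (.lf 0)) (.lf 0)) (.nd (.nd (.nd (.lf 44) (.lf 0)) (.lf 0)) (.nd (.nd (.lf 7738) (.lf 0)) (.lf 0)))) (.nd (.nd (.lf 0) (.nd (.lf 0) (.nd (.lf 215) (.lf 0)))) (.nd (.lf 0) (.nd (.nd (.lf 80) (.lf 0)) (.lf 0)))))))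

/-- a row -/
def tab24 : Trie := (.nd (.nd (.nd (.nd (.lf 0) (.nd (.lf 0) (.nd (.lf 0) (.nd (.lf 144) (.lf 0))))) (.nd (.nd (.lf 0) (.nd (.nd (.lf 3085) (.lf 0)) (.nd (.lf 26241) (.lf 0)))) (.nd (.nd (.lf 0) (.nd (.lf 15475) (.lf 0))) (.nd (.lf 0) (.nd (.lf 34453) (.lf 0)))))) (.nd (.nd (.lf 0) (.nd (.nd (.nd (.lf 4) (.lf 0)) (.nd (.lf 104) (.lf 0))) (.lf 0))) (.nd (.nd (.nd (.nd (.lf 0) (.lf 260)) (.lf 0)) (.nd (.nd (.lf 4641) (.lf 0)) (.lf 0))) (.nd (.lf 0) (.nd (.lf 0) (.nd (.lf 36005) (.lf 0))))))) (.nd (.nd (.lf 0) (.nd (.nd (.lf 0) (.nd (.nd (.lf 3598) (.lf 0)) (.nd (.lf 26247) (.lf 0)))) (.nd (.lf 0) (.nd (.lf 0) (.nd (.lf 34458) (.lf 0)))))) (.nd (.nd (.nd (.lf 0) (.nd (.lf 0) (.nd (.lf 124) (.lf 0)))) (.nd (.nd (.lf 0) (.nd (.lf 15469) (.lf 0))) (.lf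 0))) (.nd (.nd (.nd (.nd (.lf 0) (.lf 264)) (.lf 0)) (.nd (.nd (.lf 5154) (.lf 0)) (.lf 0))) (.nd (.nd (.nd (.lf 8) (.lf 0)) (.nd (.lf 116) (.lf 0))) (.nd (.lf 0) (.nd (.lf 36011) (.lf 0))))))))

/-- a row -/
def tab25 : Trie := (.nd (.nd (.nd (.lf 0) (.nd (.nd (.lf 0) (.nd (.lf 0) (.nd (.lf 26761) (.lf 0)))) (.lf 0))) (.nd (.nd (.nd (.lf 0) (.nd (.nd (.lf 3081) (.lf 0)) (.nd (.lf 124) (.lf 0)))) (.nd (.lf 0) (.nd (.lf 0) (.nd (.lf 33946) (.lf 0))))) (.nd (.nd (.nd (.lf 0) (.nd (.lf 14957) (.lf 0))) (.nd (.nd (.lf 6189) (.lf 0)) (.lf 0))) (.nd (.lf 0) (.nd (.lf 0) (.nd (.lf 36537) (.lf 0))))))) (.nd (.nd (.nd (.lf 0) (.nd (.lf 0) (.nd (.lf 0) (.nd (.lf 33941) (.lf 0))))) (.nd (.nd (.nd (.nd (.lf 0) (.lf 260)) (.lf 0)) (.nd (.lf 0) (.nd (.lf 26767) (.lf 0)))) (.lf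 0))) (.nd (.nd (.nd (.nd (.lf 0) (.nd (.lf 100) (.lf 0))) (.nd (.nd (.lf 3594) (.lf 0)) (.lf 0))) (.nd (.lf 0) (.nd (.lf 0) (.nd (.lf 172) (.lf 0))))) (.nd (.nd (.nd (.nd (.lf 4) (.lf 268)) (.nd (.lf 14963) (.lf 0))) (.nd (.nd (.lf 6702) (.lf 0)) (.lf 0))) (.nd (.nd (.nd (.lf 12) (.lf 0)) (.nd (.lf 120) (.lf 0))) (.nd (.lf 0) (.nd (.lf 36543) (.lf 0))))))))

/-- a row -/
def tab26 : Trie := (.nd (.nd (.nd (.nd (.nd (.nd (.lf 0) (.nd (.lf 100) (.lf 0))) (.nd (.nd (.lf 24) (.lf 0)) (.lf 0))) (.nd (.lf 0) (.nd (.lf 0) (.nd (.lf 20085) (.lf 0))))) (.nd (.nd (.nd (.nd (.lf 4) (.lf 260)) (.lf 0)) (.nd (.nd (.lf 48) (.lf 0)) (.lf 0))) (.nd (.nd (.lf 0) (.nd (.lf 120) (.lf 0))) (.nd (.lf 0) (.nd (.lf 184) (.lf 0)))))) (.nd (.nd (.nd (.nd (.lf 0) (.nd (.lf 104) (.lf 0)))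 (.nd (.nd (.lf 36) (.lf 0)) (.nd (.lf 16485) (.lf 0)))) (.nd (.lf 0) (.nd (.lf 0) (.nd (.lf 169) (.lf 0))))) (.nd (.nd (.lf 0) (.nd (.nd (.lf 56) (.lf 0)) (.nd (.lf 148) (.lf 0)))) (.nd (.lf 0) (.nd (.lf 0) (.nd (.lf 196) (.lf 0))))))) (.nd (.nd (.nd (.nd (.lf 0) (.nd (.nd (.lf 28) (.lf 0)) (.lf 0))) (.nd (.lf 0) (.nd (.lf 0) (.nd (.lf 164) (.lf 0))))) (.nd (.nd (.lf 0) (.nd (.nd (.lf 52) (.lf 0)) (.lf 0))) (.nd (.lf 0) (.nd (.lf 0) (.nd (.lf 189) (.lf 0)))))) (.nd (.nd (.nd (.lf 0) (.nd (.nd (.lf 40) (.lf 0)) (.nd (.lf 17513) (.lf 0)))) (.nd (.lf 0) (.nd (.lf 0) (.nd (.lf 22649) (.lf 0))))) (.nd (.nd (.nd (.nd (.lf 0) (.lf 35077)) (.nd (.lf 116) (.lf 0))) (.nd (.nd (.lf 60) (.lf 0)) (.nd (.lf 152) (.lf 0)))) (.nd (.nd (.nd (.lf 2053) (.lf 0)) (.lf 0)) (.nd (.lf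 0) (.nd (.lf 200) (.lf 0))))))))

/-- a row -/
def tab27 : Trie := (.nd (.nd (.nd (.nd (.nd (.lf 0) (.nd (.nd (.lf 29) (.lf 0)) (.lf 0))) (.nd (.lf 0) (.nd (.lf 0) (.nd (.lf 20599) (.lf 0))))) (.nd (.nd (.lf 0) (.nd (.nd (.lf 6705) (.lf 0)) (.lf 0))) (.nd (.lf 0) (.nd (.lf 0) (.nd (.lf 188) (.lf 0)))))) (.nd (.nd (.nd (.lf 0) (.nd (.nd (.lf 5157) (.lf 0)) (.nd (.lf 16999) (.lf 0)))) (.nd (.lf 0) (.nd (.lf 0) (.nd (.lf 21671) (.lf 0))))) (.nd (.nd (.nd (.lf 0) (.nd (.lf 116) (.lf 0))) (.nd (.nd (.lf 61) (.lf 0)) (.nd (.lf 19605) (.lf 0)))) (.nd (.lf 0) (.nd (.lf 0) (.nd (.lf 25797) (.lf 0))))))) (.nd (.nd (.nd (.nd (.nd (.lf 0) (.nd (.lf 104) (.lf 0))) (.nd (.nd (.lf 3610) (.lf 0)) (.lf 0))) (.nd (.lf 0) (.nd (.lf 0) (.nd (.lf 168) (.lf 0))))) (.nd (.nd (.lf 0)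 (.nd (.nd (.lf 50) (.lf 0)) (.lf 0))) (.nd (.lf 0) (.nd (.lf 0) (.nd (.lf 24251) (.lf 0)))))) (.nd (.nd (.nd (.nd (.nd (.lf 4) (.lf 260)) (.lf 0)) (.nd (.nd (.lf 38) (.lf 0)) (.nd (.lf 18027) (.lf 0)))) (.nd (.nd (.lf 0) (.nd (.lf 120) (.lf 0))) (.nd (.lf 0) (.nd (.lf 23163) (.lf 0))))) (.nd (.nd (.nd (.nd (.lf 0) (.lf 35591)) (.lf 0)) (.nd (.nd (.lf 7738) (.lf 0)) (.nd (.lf 150) (.lf 0)))) (.nd (.nd (.nd (.lf 2567) (.lf 0)) (.lf 0)) (.nd (.nd (.lf 100) (.lf 0)) (.nd (.lf 198) (.lf 0))))))))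

/-- a row -/
def tab28 : Trie := (.nd (.nd (.nd (.nd (.nd (.lf 0) (.nd (.nd (.lf 4617) (.lf 0)) (.lf 0))) (.lf 0)) (.nd (.nd (.lf 0) (.nd (.nd (.lf 7213) (.lf 0)) (.nd (.lf 29341) (.lf 0)))) (.nd (.lf 0) (.nd (.lf 0) (.nd (.lf 36549) (.lf 0)))))) (.nd (.nd (.nd (.nd (.nd (.lf 4) (.lf 260)) (.nd (.lf 14443) (.lf 0))) (.nd (.lf 0) (.nd (.lf 144) (.lf 0)))) (.nd (.nd (.lf 0) (.nd (.lf 120) (.lf 0))) (.lf 0))) (.nd (.nd (.lf 0) (.nd (.lf 0) (.nd (.lf 33957) (.lf 0)))) (.nd (.lf 0) (.nd (.nd (.lf 100) (.lf 0)) (.lf 0)))))) (.nd (.nd (.nd (.nd (.nd (.lf 0) (.nd (.lf 13929) (.lf 0))) (.nd (.nd (.lf 5130) (.lf 0)) (.lf 0))) (.lf 0)) (.nd (.nd (.lf 0) (.nd (.nd (.lf 7726) (.lf 0)) (.nd (.lf 29347) (.lf 0)))) (.nd (.lf 0) (.nd (.lf 0) (.nd (.lf 36554) (.lf 0)))))) (.nd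 (.nd (.lf 0) (.nd (.lf 0) (.nd (.lf 0) (.nd (.lf 192) (.lf 0))))) (.nd (.nd (.nd (.nd (.lf 0) (.lf 280)) (.lf 0)) (.nd (.lf 0) (.nd (.lf 33963) (.lf 0)))) (.nd (.nd (.nd (.lf 32) (.lf 0)) (.lf 0)) (.lf 0))))))

/-- a row -/
def tab29 : Trie := (.nd (.nd (.nd (.nd (.nd (.nd (.lf 0) (.nd (.lf 14439) (.lf 0))) (.nd (.nd (.lf 6157) (.lf 0)) (.lf 0))) (.nd (.lf 0) (.nd (.lf 0) (.nd (.lf 192) (.lf 0))))) (.nd (.nd (.lf 0) (.nd (.lf 0) (.nd (.lf 30897) (.lf 0)))) (.lf 0))) (.nd (.nd (.nd (.lf 0) (.nd (.nd (.lf 7201) (.lf 0)) (.lf 0))) (.nd (.lf 0) (.nd (.lf 0) (.nd (.lf 36042) (.lf 0))))) (.nd (.nd (.lf 0) (.nd (.lf 0) (.nd (.lf 34489) (.lf 0)))) (.nd (.lf 0) (.nd (.nd (.lf 104) (.lf 0)) (.lf 0)))))) (.nd (.nd (.nd (.nd (.nd (.nd (.lf 4) (.lf 260)) (.lf 0)) (.nd (.nd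 (.lf 6670) (.lf 0)) (.lf 0))) (.nd (.lf 0) (.nd (.lf 0) (.nd (.lf 36037) (.lf 0))))) (.nd (.nd (.lf 0) (.nd (.lf 0) (.nd (.lf 30903) (.lf 0)))) (.lf 0))) (.nd (.nd (.nd (.nd (.lf 0) (.nd (.lf 116) (.lf 0))) (.nd (.nd (.lf 7714) (.lf 0)) (.nd (.lf 172) (.lf 0)))) (.lf 0)) (.nd (.nd (.nd (.nd (.lf 0) (.lf 284)) (.lf 0)) (.nd (.lf 0) (.nd (.lf 34495) (.lf 0)))) (.nd (.nd (.nd (.lf 44) (.lf 0)) (.lf 0)) (.nd (.nd (.lf 13925) (.lf 0)) (.lf 0)))))))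

/-- a row -/
def tab30 : Trie := (.nd (.nd (.nd (.nd (.nd (.lf 0) (.nd (.lf 0) (.nd (.lf 33429) (.lf 0)))) (.nd (.lf 0) (.nd (.lf 0) (.nd (.lf 204) (.lf 0))))) (.nd (.lf 0) (.nd (.nd (.lf 0) (.nd (.lf 22159) (.lf 0))) (.nd (.nd (.lf 100) (.lf 0)) (.lf 0))))) (.nd (.nd (.lf 0) (.nd (.nd (.nd (.lf 12) (.lf 0)) (.lf 0)) (.lf 0))) (.nd (.nd (.nd (.nd (.lf 0) (.lf 268)) (.nd (.lf 18561) (.lf 0))) (.nd (.nd (.lf 8769) (.lf 0)) (.lf 0))) (.nd (.nd (.nd (.lf 3590) (.lf 0)) (.lf 0)) (.nd (.lf 0) (.nd (.lf 37085) (.lf 0))))))) (.nd (.nd (.nd (.nd (.lf 0) (.nd (.lf 0) (.nd (.lf 33434) (.lf 0)))) (.lf 0)) (.nd (.nd (.nd (.nd (.lf 0) (.lf 264)) (.lf 0)) (.lf 0)) (.nd (.nd (.nd (.lf 3077) (.lf 0)) (.lf 0)) (.nd (.nd (.lf 104) (.lf 0)) (.lf 0))))) (.nd (.nd (.lf 0) (.nd (.nd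 (.lf 0) (.nd (.lf 22153) (.lf 0))) (.nd (.lf 0) (.nd (.lf 208) (.lf 0))))) (.nd (.nd (.nd (.nd (.lf 8) (.lf 0)) (.nd (.lf 18567) (.lf 0))) (.nd (.nd (.lf 9282) (.lf 0)) (.lf 0))) (.nd (.lf 0) (.nd (.lf 0) (.nd (.lf 37091) (.lf 0))))))))

/-- a row -/
def tab31 : Trie := (.nd (.nd (.nd (.nd (.nd (.lf 0) (.nd (.lf 0) (.nd (.lf 164) (.lf 0)))) (.lf 0)) (.nd (.nd (.nd (.nd (.lf 8) (.lf 264)) (.lf 0)) (.nd (.nd (.lf 68) (.lf 0)) (.lf 0))) (.nd (.nd (.nd (.lf 28) (.lf 0)) (.lf 0)) (.nd (.lf 0) (.nd (.lf 220) (.lf 0)))))) (.nd (.nd (.nd (.nd (.lf 0) (.nd (.lf 124) (.lf 0))) (.lf 0)) (.nd (.nd (.nd (.lf 2057) (.lf 0)) (.nd (.lf 17533) (.lf 0))) (.lf 0))) (.nd (.nd (.nd (.nd (.lf 0) (.lf 35081)) (.lf 0)) (.nd (.nd (.lf 76) (.lf 0)) (.lf 0))) (.nd (.nd (.nd (.lf 40) (.lf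 0)) (.nd (.lf 152) (.lf 0))) (.nd (.lf 0) (.nd (.lf 232) (.lf 0))))))) (.nd (.nd (.nd (.nd (.lf 0) (.nd (.lf 0) (.nd (.lf 169) (.lf 0)))) (.lf 0)) (.nd (.nd (.lf 0) (.nd (.nd (.lf 72) (.lf 0)) (.nd (.lf 204) (.lf 0)))) (.nd (.nd (.nd (.lf 36) (.lf 0)) (.nd (.lf 148) (.lf 0))) (.nd (.nd (.lf 13925) (.lf 0)) (.nd (.lf 225) (.lf 0)))))) (.nd (.nd (.lf 0) (.nd (.nd (.nd (.lf 24) (.lf 0)) (.lf 0)) (.nd (.nd (.lf 100) (.lf 0)) (.nd (.lf 27341) (.lf 0))))) (.nd (.nd (.nd (.lf 0) (.nd (.lf 144) (.lf 0))) (.nd (.nd (.lf 80) (.lf 0)) (.lf 0))) (.nd (.nd (.lf 0) (.nd (.lf 20113) (.lf 0))) (.nd (.lf 0) (.nd (.lf 236) (.lf 0))))))))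

/-- a row -/
def tab32 : Trie := (.nd (.nd (.nd (.nd (.nd (.lf 0) (.nd (.lf 0) (.nd (.lf 168) (.lf 0)))) (.lf 0)) (.nd (.nd (.lf 0) (.nd (.nd (.lf 9285) (.lf 0)) (.nd (.lf 204) (.lf 0)))) (.nd (.nd (.nd (.lf 3610) (.lf 0)) (.lf 0)) (.nd (.lf 0) (.nd (.lf 224) (.lf 0)))))) (.nd (.nd (.lf 0) (.nd (.nd (.nd (.lf 2571) (.lf 0)) (.nd (.lf 18047) (.lf 0))) (.nd (.nd (.lf 100) (.lf 0)) (.lf 0)))) (.nd (.nd (.nd (.nd (.lf 0) (.lf 35595)) (.nd (.lf 144) (.lf 0))) (.nd (.nd (.lf 81) (.lf 0)) (.lf 0))) (.nd (.nd (.nd (.lf 38) (.lf 0)) (.nd (.lf 150) (.lf 0))) (.nd (.lf 0) (.nd (.lf 30441) (.lf 0))))))) (.nd (.nd (.nd (.nd (.nd (.lf 0) (.nd (.lf 124) (.lf 0))) (.nd (.lf 0) (.nd (.lf 21671) (.lf 0)))) (.lf 0)) (.nd (.nd (.lf 0) (.nd (.nd (.lf 70) (.lf 0)) (.lf 0))) (.nd (.nd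 (.nd (.lf 5157) (.lf 0)) (.nd (.lf 19605) (.lf 0))) (.nd (.nd (.lf 14439) (.lf 0)) (.nd (.lf 28895) (.lf 0)))))) (.nd (.nd (.nd (.nd (.nd (.lf 8) (.lf 264)) (.lf 0)) (.lf 0)) (.nd (.nd (.nd (.lf 29) (.lf 0)) (.lf 0)) (.nd (.lf 0) (.nd (.lf 27855) (.lf 0))))) (.nd (.nd (.lf 0) (.nd (.nd (.lf 10318) (.lf 0)) (.lf 0))) (.nd (.nd (.lf 0) (.nd (.lf 20627) (.lf 0))) (.nd (.lf 0) (.nd (.lf 234) (.lf 0))))))))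

/-- a row -/
def tab33 : Trie := (.nd (.nd (.nd (.nd (.nd (.nd (.lf 0) (.nd (.lf 124) (.lf 0))) (.nd (.lf 0) (.nd (.lf 184) (.lf 0)))) (.nd (.nd (.nd (.lf 24) (.lf 0)) (.nd (.lf 148) (.lf 0))) (.nd (.lf 0) (.nd (.lf 27345) (.lf 0))))) (.nd (.nd (.nd (.nd (.lf 12) (.lf 268)) (.lf 0)) (.lf 0)) (.nd (.nd (.lf 0) (.nd (.lf 172) (.lf 0))) (.nd (.nd (.lf 13929) (.lf 0)) (.lf 0))))) (.nd (.nd (.nd (.lf 0) (.nd (.nd (.lf 68) (.lf 0)) (.lf 0))) (.nd (.lf 0) (.nd (.lf 0) (.nd (.lf 225) (.lf 0))))) (.nd (.nd (.lf 0) (.nd (.nd (.lf 84) (.lf 0)) (.lf 0))) (.nd (.nd (.nd (.lf 52) (.lf 0)) (.lf 0)) (.nd (.lf 0) (.nd (.lf 244) (.lf 0))))))) (.nd (.nd (.nd (.nd (.lf 0) (.nd (.lf 0) (.nd (.lf 189) (.lf 0)))) (.nd (.nd (.nd (.lf 28) (.lf 0)) (.nd (.lf 152) (.lf 0))) (.nd (.lf 0)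 (.nd (.lf 220) (.lf 0))))) (.nd (.nd (.nd (.nd (.lf 0) (.lf 35085)) (.lf 0)) (.nd (.lf 0) (.nd (.lf 208) (.lf 0)))) (.nd (.nd (.nd (.lf 48) (.lf 0)) (.lf 0)) (.lf 0)))) (.nd (.nd (.nd (.nd (.lf 0) (.nd (.lf 16509) (.lf 0))) (.nd (.nd (.lf 72) (.lf 0)) (.lf 0))) (.nd (.lf 0) (.nd (.nd (.lf 104) (.lf 0)) (.lf 0)))) (.nd (.nd (.nd (.nd (.lf 2061) (.lf 0)) (.lf 0)) (.nd (.nd (.lf 88) (.lf 0)) (.lf 0))) (.nd (.nd (.lf 0) (.nd (.lf 22701) (.lf 0))) (.nd (.lf 0) (.nd (.lf 248) (.lf 0))))))))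

/-- a row -/
def tab34 : Trie := (.nd (.nd (.nd (.nd (.nd (.lf 0) (.nd (.lf 0) (.nd (.lf 188) (.lf 0)))) (.nd (.nd (.nd (.lf 29) (.lf 0)) (.nd (.lf 19605) (.lf 0))) (.nd (.lf 0) (.nd (.lf 27859) (.lf 0))))) (.nd (.nd (.lf 0) (.nd (.lf 0) (.nd (.lf 208) (.lf 0)))) (.nd (.lf 0) (.nd (.nd (.lf 14443) (.lf 0)) (.lf 0))))) (.nd (.nd (.nd (.lf 0) (.nd (.nd (.lf 9285) (.lf 0)) (.lf 0))) (.nd (.lf 0) (.nd (.nd (.lf 104) (.lf 0)) (.nd (.lf 28895) (.lf 0))))) (.nd (.nd (.lf 0) (.nd (.nd (.lf 89) (.lf 0)) (.lf 0))) (.nd (.nd (.nd (.lf 50) (.lf 0)) (.lf 0)) (.nd (.lf 0) (.nd (.lf 31989) (.lf 0))))))) (.nd (.nd (.nd (.nd (.lf 0) (.nd (.lf 0) (.nd (.lf 24251) (.lf 0)))) (.nd (.nd (.nd (.lf 3610) (.lf 0)) (.nd (.lf 150) (.lf 0))) (.nd (.lf 0) (.nd (.lf 224) (.lf 0))))) (.nd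 (.nd (.nd (.nd (.lf 0) (.lf 35599)) (.lf 0)) (.lf 0)) (.nd (.nd (.nd (.lf 6705) (.lf 0)) (.lf 0)) (.lf 0)))) (.nd (.nd (.nd (.nd (.nd (.lf 12) (.lf 268)) (.nd (.lf 17023) (.lf 0))) (.nd (.nd (.lf 70) (.lf 0)) (.lf 0))) (.nd (.nd (.lf 0) (.nd (.lf 172) (.lf 0))) (.lf 0))) (.nd (.nd (.nd (.nd (.lf 2575) (.lf 0)) (.lf 0)) (.nd (.nd (.lf 11350) (.lf 0)) (.lf 0))) (.nd (.nd (.lf 0) (.nd (.lf 23215) (.lf 0))) (.nd (.nd (.lf 124) (.lf 0)) (.nd (.lf 246) (.lf 0))))))))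

/-- a row -/
def tab35 : Trie := (.nd (.nd (.nd (.lf 0) (.nd (.nd (.lf 0) (.nd (.nd (.lf 9793) (.lf 0)) (.lf 0))) (.nd (.nd (.nd (.lf 5126) (.lf 0)) (.nd (.lf 24739) (.lf 0))) (.nd (.lf 0) (.nd (.lf 37097) (.lf 0)))))) (.nd (.nd (.nd (.nd (.nd (.lf 8) (.lf 264)) (.nd (.lf 17023) (.lf 0))) (.lf 0)) (.nd (.nd (.nd (.lf 32) (.lf 0)) (.lf 0)) (.lf 0))) (.nd (.nd (.nd (.nd (.lf 0) (.lf 280)) (.lf 0)) (.lf 0)) (.nd (.nd (.lf 0) (.nd (.lf 33451) (.lf 0))) (.lf 0))))) (.nd (.nd (.nd (.nd (.nd (.lf 0) (.nd (.lf 16509) (.lf 0))) (.lf 0)) (.nd (.lf 0) (.nd (.nd (.lf 100) (.lf 0)) (.lf 0)))) (.nd (.nd (.lf 0) (.nd (.nd (.lf 10306) (.lf 0)) (.lf 0))) (.nd (.nd (.lf 0) (.nd (.lf 33445) (.lf 0))) (.nd (.nd (.lf 116) (.lf 0)) (.nd (.lf 37102) (.lf 0)))))) (.nd (.nd (.nd (.lf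 0) (.nd (.lf 0) (.nd (.lf 204) (.lf 0)))) (.nd (.nd (.nd (.lf 4613) (.lf 0)) (.nd (.lf 24733) (.lf 0))) (.nd (.lf 0) (.nd (.lf 228) (.lf 0))))) (.lf 0))))

/-- a row -/
def tab36 : Trie := (.nd (.nd (.nd (.nd (.lf 0) (.nd (.lf 0) (.nd (.lf 0) (.nd (.lf 34025) (.lf 0))))) (.nd (.nd (.nd (.nd (.lf 29) (.lf 0)) (.lf 0)) (.nd (.nd (.lf 136) (.lf 0)) (.nd (.lf 220) (.lf 0)))) (.nd (.nd (.nd (.lf 104) (.lf 0)) (.nd (.lf 188) (.lf 0))) (.lf 0)))) (.nd (.nd (.nd (.lf 0) (.nd (.nd (.lf 128) (.lf 0)) (.lf 0))) (.nd (.nd (.nd (.lf 13361) (.lf 0)) (.lf 0)) (.nd (.lf 0) (.nd (.lf 264) (.lf 0))))) (.nd (.nd (.nd (.lf 0) (.nd (.lf 164) (.lf 0))) (.lf 0)) (.nd (.nd (.nd (.lf 112) (.lf 0)) (.lf 0)) (.nd (.lf 0) (.nd (.lf 272) (.lf 0))))))) (.nd (.nd (.nd (.nd (.lf 0) (.nd (.nd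 (.lf 124) (.lf 0)) (.nd (.lf 260) (.lf 0)))) (.nd (.nd (.nd (.lf 100) (.lf 0)) (.lf 0)) (.lf 0))) (.nd (.nd (.lf 0) (.nd (.nd (.lf 140) (.lf 0)) (.nd (.lf 224) (.lf 0)))) (.nd (.nd (.nd (.lf 108) (.lf 0)) (.lf 0)) (.nd (.lf 0) (.nd (.lf 268) (.lf 0)))))) (.nd (.nd (.nd (.nd (.nd (.lf 24) (.lf 0)) (.lf 0)) (.nd (.nd (.lf 132) (.lf 0)) (.lf 0))) (.nd (.nd (.lf 0) (.nd (.lf 184) (.lf 0))) (.nd (.lf 0) (.nd (.lf 34549) (.lf 0))))) (.nd (.nd (.nd (.nd (.lf 12837) (.lf 0)) (.nd (.lf 168) (.lf 0))) (.lf 0)) (.nd (.nd (.nd (.lf 15941) (.lf 0)) (.nd (.lf 33477) (.lf 0))) (.nd (.lf 0) (.nd (.lf 276) (.lf 0))))))))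

/-- a row -/
def tab37 : Trie := (.nd (.nd (.nd (.nd (.nd (.lf 0) (.nd (.nd (.lf 124) (.lf 0)) (.nd (.lf 260) (.lf 0)))) (.nd (.nd (.nd (.lf 100) (.lf 0)) (.lf 0)) (.nd (.lf 0) (.nd (.lf 34030) (.lf 0))))) (.nd (.nd (.nd (.nd (.lf 3610) (.lf 0)) (.lf 0)) (.nd (.nd (.lf 18057) (.lf 0)) (.nd (.lf 225) (.lf 0)))) (.nd (.nd (.lf 0) (.nd (.lf 24251) (.lf 0))) (.nd (.lf 0) (.nd (.lf 268) (.lf 0)))))) (.nd (.nd (.nd (.lf 0) (.nd (.nd (.lf 17025) (.lf 0)) (.lf 0))) (.nd (.nd (.nd (.lf 13366) (.lf 0)) (.lf 0)) (.lf 0))) (.nd (.nd (.nd (.lf 0) (.nd (.lf 169) (.lf 0))) (.lf 0)) (.nd (.nd (.nd (.lf 111) (.lf 0)) (.lf 0)) (.nd (.lf 0) (.nd (.lf 35601) (.lf 0))))))) (.nd (.nd (.nd (.lf 0) (.nd (.lf 0) (.nd (.lf 0) (.nd (.lf 264) (.lf 0))))) (.nd (.nd (.lf 0) (.nd (.nd (.lf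 139) (.lf 0)) (.nd (.lf 28895) (.lf 0)))) (.nd (.nd (.nd (.lf 14445) (.lf 0)) (.lf 0)) (.lf 0)))) (.nd (.nd (.nd (.nd (.nd (.lf 28) (.lf 0)) (.lf 0)) (.nd (.nd (.lf 131) (.lf 0)) (.lf 0))) (.nd (.nd (.nd (.lf 104) (.lf 0)) (.nd (.lf 189) (.lf 0))) (.nd (.lf 0) (.nd (.lf 34554) (.lf 0))))) (.nd (.nd (.nd (.nd (.lf 12842) (.lf 0)) (.nd (.lf 21671) (.lf 0))) (.lf 0)) (.nd (.nd (.nd (.lf 15946) (.lf 0)) (.nd (.lf 33482) (.lf 0))) (.nd (.lf 0) (.nd (.lf 275) (.lf 0))))))))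

/-- a row -/
def tab38 : Trie := (.nd (.nd (.nd (.nd (.nd (.nd (.lf 0) (.nd (.lf 144) (.lf 0))) (.nd (.nd (.lf 76) (.lf 0)) (.lf 0))) (.lf 0)) (.nd (.nd (.nd (.nd (.lf 32) (.lf 280)) (.nd (.lf 164) (.lf 0))) (.nd (.nd (.lf 92) (.lf 0)) (.lf 0))) (.nd (.nd (.nd (.lf 60) (.lf 0)) (.nd (.lf 192) (.lf 0))) (.nd (.lf 0) (.nd (.lf 252) (.lf 0)))))) (.nd (.nd (.nd (.nd (.nd (.lf 4113) (.lf 36113)) (.lf 0)) (.lf 0)) (.nd (.nd (.lf 0) (.nd (.lf 24753) (.lf 0))) (.lf 0))) (.nd (.nd (.nd (.nd (.lf 40) (.lf 0)) (.lf 0)) (.nd (.lf 0) (.nd (.lf 232) (.lf 0)))) (.nd (.nd (.lf 0) (.nd (.lf 200) (.lf 0))) (.nd (.nd (.lf 18561) (.lf 0)) (.lf 0)))))) (.nd (.nd (.nd (.nd (.lf 0) (.nd (.nd (.lf 80) (.lf 0)) (.lf 0))) (.nd (.lf 0) (.nd (.nd (.lf 14957) (.lf 0)) (.lf 0)))) (.nd (.nd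 (.nd (.nd (.lf 36) (.lf 0)) (.nd (.lf 169) (.lf 0))) (.nd (.nd (.lf 96) (.lf 0)) (.nd (.lf 228) (.lf 0)))) (.nd (.nd (.lf 0) (.nd (.lf 196) (.lf 0))) (.nd (.lf 0) (.nd (.lf 257) (.lf 0)))))) (.nd (.nd (.nd (.lf 0) (.nd (.lf 0) (.nd (.lf 29397) (.lf 0)))) (.nd (.nd (.nd (.lf 56) (.lf 0)) (.lf 0)) (.nd (.nd (.lf 116) (.lf 0)) (.lf 0)))) (.nd (.nd (.lf 0) (.nd (.lf 0) (.nd (.lf 236) (.lf 0)))) (.lf 0)))))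

/-- a row -/
def tab39 : Trie := (.nd (.nd (.nd (.nd (.nd (.lf 0) (.nd (.nd (.lf 81) (.lf 0)) (.lf 0))) (.lf 0)) (.nd (.nd (.nd (.lf 0) (.nd (.lf 168) (.lf 0))) (.nd (.nd (.lf 12381) (.lf 0)) (.nd (.lf 228) (.lf 0)))) (.nd (.nd (.nd (.lf 7738) (.lf 0)) (.lf 0)) (.nd (.lf 0) (.nd (.lf 256) (.lf 0)))))) (.nd (.nd (.nd (.nd (.nd (.lf 4119) (.lf 36119)) (.lf 0)) (.lf 0)) (.nd (.nd (.lf 0) (.nd (.lf 24759) (.lf 0))) (.nd (.nd (.lf 116) (.lf 0)) (.lf 0)))) (.nd (.nd (.nd (.nd (.lf 38) (.lf 0)) (.lf 0)) (.nd (.lf 0) (.nd (.lf 30441) (.lf 0)))) (.nd (.nd (.lf 0) (.nd (.lf 198) (.lf 0))) (.nd (.nd (.lf 18567) (.lf 0)) (.lf 0)))))) (.nd (.nd (.nd (.nd (.lf 0) (.nd (.nd (.lf 10318) (.lf 0)) (.lf 0))) (.nd (.lf 0) (.nd (.nd (.lf 14963) (.lf 0)) (.lf 0)))) (.nd (.nd (.nd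 (.nd (.lf 5157) (.lf 0)) (.nd (.lf 21671) (.lf 0))) (.nd (.nd (.lf 94) (.lf 0)) (.lf 0))) (.nd (.nd (.lf 0) (.nd (.lf 25797) (.lf 0))) (.nd (.lf 0) (.nd (.lf 33023) (.lf 0)))))) (.nd (.nd (.nd (.nd (.nd (.lf 32) (.lf 280)) (.lf 0)) (.nd (.lf 0) (.nd (.lf 29403) (.lf 0)))) (.nd (.nd (.nd (.lf 61) (.lf 0)) (.nd (.lf 192) (.lf 0))) (.lf 0))) (.nd (.nd (.lf 0) (.nd (.lf 0) (.nd (.lf 234) (.lf 0)))) (.nd (.lf 0) (.nd (.nd (.lf 144) (.lf 0)) (.lf 0)))))))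

/-- a row -/
def tab40 : Trie := (.nd (.nd (.nd (.nd (.nd (.lf 0) (.nd (.nd (.lf 128) (.lf 0)) (.lf 0))) (.lf 0)) (.nd (.nd (.nd (.nd (.lf 5157) (.lf 0)) (.lf 0)) (.nd (.lf 0) (.nd (.lf 232) (.lf 0)))) (.nd (.nd (.nd (.lf 14445) (.lf 0)) (.nd (.lf 25797) (.lf 0))) (.nd (.lf 0) (.nd (.lf 272) (.lf 0)))))) (.nd (.nd (.nd (.nd (.nd (.lf 12825) (.lf 0)) (.nd (.lf 19605) (.lf 0))) (.lf 0)) (.nd (.nd (.nd (.lf 14905) (.lf 0)) (.nd (.lf 33465) (.lf 0))) (.lf 0))) (.nd (.nd (.nd (.nd (.lf 100) (.lf 0)) (.lf 0)) (.nd (.nd (.lf 156) (.lf 0)) (.lf 0))) (.nd (.nd (.nd (.lf 116) (.lf 0)) (.nd (.lf 260) (.lf 0))) (.lf 0))))) (.nd (.nd (.nd (.nd (.nd (.lf 0) (.nd (.lf 148) (.lf 0))) (.nd (.nd (.lf 17025) (.lf 0)) (.lf 0))) (.lf 0)) (.nd (.nd (.lf 0) (.nd (.lf 0) (.nd (.lf 30441)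 (.lf 0)))) (.nd (.lf 0) (.nd (.lf 0) (.nd (.lf 35601) (.lf 0)))))) (.nd (.nd (.nd (.nd (.nd (.lf 36) (.lf 0)) (.lf 0)) (.nd (.nd (.lf 144) (.lf 0)) (.nd (.lf 34013) (.lf 0)))) (.nd (.nd (.nd (.lf 108) (.lf 0)) (.nd (.lf 196) (.lf 0))) (.nd (.lf 0) (.nd (.lf 36093) (.lf 0))))) (.nd (.nd (.lf 0) (.nd (.nd (.lf 20637) (.lf 0)) (.nd (.lf 264) (.lf 0)))) (.nd (.nd (.nd (.lf 18509) (.lf 0)) (.lf 0)) (.nd (.lf 0) (.nd (.lf 280) (.lf 0))))))))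

/-- a row -/
def tab41 : Trie := (.nd (.nd (.nd (.nd (.nd (.lf 0) (.nd (.nd (.lf 132) (.lf 0)) (.lf 0))) (.lf 0)) (.nd (.nd (.nd (.nd (.lf 38) (.lf 0)) (.lf 0)) (.nd (.lf 0) (.nd (.lf 236) (.lf 0)))) (.nd (.nd (.nd (.lf 111) (.lf 0)) (.nd (.lf 198) (.lf 0))) (.nd (.lf 0) (.nd (.lf 276) (.lf 0)))))) (.nd (.nd (.nd (.nd (.nd (.lf 12830) (.lf 0)) (.nd (.lf 150) (.lf 0))) (.nd (.nd (.lf 144) (.lf 0)) (.lf 0))) (.nd (.nd (.nd (.lf 14910) (.lf 0)) (.nd (.lf 33471) (.lf 0))) (.lf 0))) (.nd (.nd (.lf 0) (.nd (.nd (.lf 160) (.lf 0)) (.nd (.lf 264) (.lf 0)))) (.nd (.lf 0) (.nd (.lf 0) (.nd (.lf 280) (.lf 0))))))) (.nd (.nd (.nd (.nd (.nd (.lf 0) (.nd (.lf 152) (.lf 0))) (.nd (.nd (.lf 131) (.lf 0)) (.lf 0))) (.lf 0)) (.nd (.nd (.nd (.nd (.lf 100) (.lf 0)) (.lf 0)) (.nd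 (.lf 0) (.nd (.lf 234) (.lf 0)))) (.nd (.nd (.nd (.lf 116) (.lf 0)) (.nd (.lf 260) (.lf 0))) (.nd (.lf 0) (.nd (.lf 275) (.lf 0)))))) (.nd (.nd (.nd (.nd (.nd (.lf 40) (.lf 0)) (.lf 0)) (.nd (.lf 0) (.nd (.lf 34019) (.lf 0)))) (.nd (.nd (.nd (.lf 112) (.lf 0)) (.nd (.lf 200) (.lf 0))) (.nd (.lf 0) (.nd (.lf 36099) (.lf 0))))) (.nd (.nd (.lf 0) (.nd (.nd (.lf 159) (.lf 0)) (.lf 0))) (.nd (.nd (.nd (.lf 18514) (.lf 0)) (.lf 0)) (.lf 0))))))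

/-- a row -/
def tab42 : Trie := (.nd (.nd (.nd (.nd (.nd (.nd (.lf 0) (.nd (.lf 18047) (.lf 0))) (.lf 0)) (.nd (.nd (.nd (.lf 6149) (.lf 0)) (.nd (.lf 33465) (.lf 0))) (.nd (.nd (.lf 104) (.lf 0)) (.nd (.lf 240) (.lf 0))))) (.nd (.lf 0) (.nd (.lf 0) (.nd (.nd (.lf 120) (.lf 0)) (.lf 0))))) (.nd (.nd (.nd (.lf 0) (.nd (.nd (.lf 10817) (.lf 0)) (.nd (.lf 208) (.lf 0)))) (.nd (.lf 0) (.nd (.lf 0) (.nd (.lf 37114) (.lf 0))))) (.nd (.nd (.nd (.lf 0) (.nd (.lf 24753) (.lf 0))) (.lf 0)) (.lf 0)))) (.nd (.nd (.nd (.nd (.nd (.nd (.lf 12) (.lf 268)) (.lf 0)) (.lf 0)) (.nd (.nd (.nd (.lf 6662) (.lf 0)) (.nd (.lf 33471) (.lf 0))) (.nd (.lf 0) (.nd (.lf 37109) (.lf 0))))) (.nd (.nd (.nd (.nd (.lf 0) (.lf 284)) (.lf 0)) (.lf 0)) (.lf 0))) (.nd (.nd (.nd (.lf 0) (.nd (.nd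 (.lf 11330) (.lf 0)) (.lf 0))) (.lf 0)) (.nd (.nd (.nd (.nd (.lf 44) (.lf 0)) (.nd (.lf 24759) (.lf 0))) (.lf 0)) (.nd (.lf 0) (.nd (.nd (.lf 17533) (.lf 0)) (.lf 0)))))))

/-- a row -/
def tab43 : Trie := (.nd (.nd (.nd (.nd (.nd (.lf 0) (.nd (.nd (.lf 84) (.lf 0)) (.lf 0))) (.nd (.nd (.nd (.lf 56) (.lf 0)) (.nd (.lf 196) (.lf 0))) (.nd (.nd (.lf 15469) (.lf 0)) (.lf 0)))) (.nd (.nd (.nd (.nd (.lf 44) (.lf 284)) (.nd (.lf 184) (.lf 0))) (.lf 0)) (.lf 0))) (.nd (.nd (.nd (.nd (.lf 0) (.nd (.lf 172) (.lf 0))) (.nd (.nd (.lf 92) (.lf 0)) (.nd (.lf 30933) (.lf 0)))) (.nd (.lf 0) (.nd (.lf 0) (.nd (.lf 257) (.lf 0))))) (.nd (.nd (.nd (.nd (.lf 52) (.lf 0)) (.lf 0)) (.nd (.lf 0) (.nd (.lf 244) (.lf 0)))) (.nd (.lf 0) (.nd (.nd (.lf 22153) (.lf 0)) (.lf 0)))))) (.nd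 (.nd (.nd (.nd (.nd (.nd (.lf 5649) (.lf 36625)) (.lf 0)) (.nd (.nd (.lf 88) (.lf 0)) (.lf 0))) (.nd (.nd (.nd (.lf 60) (.lf 0)) (.nd (.lf 200) (.lf 0))) (.nd (.lf 0) (.nd (.lf 252) (.lf 0))))) (.nd (.nd (.nd (.nd (.lf 48) (.lf 0)) (.nd (.lf 189) (.lf 0))) (.nd (.lf 0) (.nd (.lf 240) (.lf 0)))) (.lf 0))) (.nd (.nd (.nd (.nd (.lf 0) (.nd (.lf 24733) (.lf 0))) (.nd (.nd (.lf 96) (.lf 0)) (.lf 0))) (.nd (.lf 0) (.nd (.nd (.lf 120) (.lf 0)) (.lf 0)))) (.nd (.nd (.nd (.lf 0) (.nd (.lf 192) (.lf 0))) (.nd (.lf 0) (.nd (.lf 248) (.lf 0)))) (.lf 0)))))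

/-- a row -/
def tab44 : Trie := (.nd (.nd (.nd (.nd (.nd (.lf 0) (.nd (.nd (.lf 89) (.lf 0)) (.lf 0))) (.nd (.nd (.nd (.lf 61) (.lf 0)) (.nd (.lf 25797) (.lf 0))) (.nd (.nd (.lf 15475) (.lf 0)) (.lf 0)))) (.nd (.nd (.nd (.lf 0) (.nd (.lf 188) (.lf 0))) (.nd (.lf 0) (.nd (.lf 240) (.lf 0)))) (.lf 0))) (.nd (.nd (.nd (.lf 0) (.nd (.nd (.lf 12381) (.lf 0)) (.nd (.lf 30939) (.lf 0)))) (.nd (.lf 0) (.nd (.nd (.lf 120) (.lf 0)) (.nd (.lf 33023) (.lf 0))))) (.nd (.nd (.nd (.nd (.lf 50) (.lf 0)) (.nd (.lf 192) (.lf 0))) (.nd (.lf 0) (.nd (.lf 31989) (.lf 0)))) (.nd (.lf 0) (.nd (.nd (.lf 22159) (.lf 0)) (.lf 0)))))) (.nd (.nd (.nd (.nd (.nd (.nd (.lf 5655) (.lf 36631)) (.nd (.lf 172) (.lf 0))) (.nd (.nd (.lf 11350) (.lf 0)) (.lf 0))) (.nd (.nd (.nd (.lf 7738) (.lf 0))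 (.nd (.lf 198) (.lf 0))) (.nd (.lf 0) (.nd (.lf 256) (.lf 0))))) (.nd (.nd (.nd (.nd (.lf 6705) (.lf 0)) (.nd (.lf 24251) (.lf 0))) (.lf 0)) (.lf 0))) (.nd (.nd (.nd (.nd (.nd (.lf 44) (.lf 284)) (.nd (.lf 24739) (.lf 0))) (.nd (.nd (.lf 94) (.lf 0)) (.lf 0))) (.lf 0)) (.nd (.nd (.lf 0) (.nd (.lf 0) (.nd (.lf 246) (.lf 0)))) (.lf 0)))))

/-- a row -/
def tab45 : Trie := (.nd (.nd (.nd (.nd (.nd (.nd (.lf 0) (.nd (.lf 19605) (.lf 0))) (.nd (.nd (.lf 136) (.lf 0)) (.lf 0))) (.nd (.nd (.nd (.lf 108) (.lf 0)) (.lf 0)) (.nd (.lf 0) (.nd (.lf 36605) (.lf 0))))) (.nd (.nd (.nd (.nd (.lf 6705) (.lf 0)) (.lf 0)) (.nd (.lf 0) (.nd (.lf 244) (.lf 0)))) (.lf 0))) (.nd (.nd (.nd (.lf 0) (.nd (.lf 0) (.nd (.lf 34525) (.lf 0)))) (.nd (.lf 0) (.nd (.lf 0) (.nd (.lf 35601) (.lf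 0))))) (.nd (.nd (.nd (.nd (.lf 104) (.lf 0)) (.nd (.lf 196) (.lf 0))) (.nd (.nd (.lf 176) (.lf 0)) (.lf 0))) (.nd (.nd (.nd (.lf 120) (.lf 0)) (.lf 0)) (.lf 0))))) (.nd (.nd (.nd (.nd (.nd (.nd (.lf 13337) (.lf 0)) (.lf 0)) (.nd (.nd (.lf 18057) (.lf 0)) (.lf 0))) (.nd (.nd (.nd (.lf 14445) (.lf 0)) (.nd (.lf 260) (.lf 0))) (.nd (.lf 0) (.nd (.lf 272) (.lf 0))))) (.nd (.nd (.lf 0) (.nd (.nd (.lf 172) (.lf 0)) (.nd (.lf 31989) (.lf 0)))) (.lf 0))) (.nd (.nd (.nd (.nd (.nd (.lf 48) (.lf 0)) (.nd (.lf 33445) (.lf 0))) (.lf 0)) (.lf 0)) (.nd (.nd (.nd (.nd (.lf 15417) (.lf 0)) (.nd (.lf 25797) (.lf 0))) (.nd (.nd (.lf 23217) (.lf 0)) (.nd (.lf 268) (.lf 0)))) (.nd (.nd (.nd (.lf 22101) (.lf 0)) (.lf 0)) (.nd (.nd (.lf 148) (.lf 0)) (.nd (.lf 284) (.lf 0))))))))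

/-- a row -/
def tab46 : Trie := (.nd (.nd (.nd (.nd (.nd (.nd (.lf 0) (.nd (.lf 150) (.lf 0))) (.nd (.nd (.lf 140) (.lf 0)) (.lf 0))) (.nd (.nd (.nd (.lf 112) (.lf 0)) (.nd (.lf 260) (.lf 0))) (.nd (.lf 0) (.nd (.lf 36611) (.lf 0))))) (.nd (.nd (.nd (.nd (.lf 50) (.lf 0)) (.lf 0)) (.nd (.nd (.lf 172) (.lf 0)) (.nd (.lf 248) (.lf 0)))) (.lf 0))) (.nd (.nd (.nd (.lf 0) (.nd (.lf 0) (.nd (.lf 34531) (.lf 0)))) (.nd (.lf 0) (.nd (.lf 0) (.nd (.lf 275) (.lf 0))))) (.nd (.nd (.nd (.lf 0) (.nd (.lf 200) (.lf 0))) (.nd (.nd (.lf 180) (.lf 0)) (.nd (.lf 268) (.lf 0)))) (.nd (.lf 0) (.nd (.lf 0) (.nd (.lf 284) (.lf 0))))))) (.nd (.nd (.nd (.nd (.nd (.nd (.lf 13342) (.lf 0)) (.lf 0)) (.nd (.nd (.lf 139) (.lf 0)) (.lf 0))) (.nd (.nd (.nd (.lf 111) (.lf 0)) (.lf 0)) (.nd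 (.lf 0) (.nd (.lf 276) (.lf 0))))) (.nd (.nd (.nd (.nd (.lf 104) (.lf 0)) (.lf 0)) (.nd (.lf 0) (.nd (.lf 246) (.lf 0)))) (.nd (.nd (.nd (.lf 120) (.lf 0)) (.lf 0)) (.lf 0)))) (.nd (.nd (.nd (.nd (.nd (.lf 52) (.lf 0)) (.nd (.lf 33451) (.lf 0))) (.lf 0)) (.lf 0)) (.nd (.nd (.nd (.nd (.lf 15422) (.lf 0)) (.nd (.lf 198) (.lf 0))) (.nd (.nd (.lf 179) (.lf 0)) (.lf 0))) (.nd (.nd (.nd (.lf 22106) (.lf 0)) (.lf 0)) (.nd (.nd (.lf 152) (.lf 0)) (.lf 0)))))))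

/-- a row -/
def tab47 : Trie := (.nd (.nd (.nd (.nd (.nd (.nd (.lf 0) (.nd (.lf 20627) (.lf 0))) (.nd (.nd (.lf 11841) (.lf 0)) (.lf 0))) (.nd (.lf 0) (.nd (.nd (.lf 116) (.lf 0)) (.lf 0)))) (.nd (.nd (.nd (.lf 0) (.nd (.lf 33477) (.lf 0))) (.lf 0)) (.lf 0))) (.nd (.nd (.nd (.nd (.nd (.lf 44) (.lf 284)) (.nd (.lf 23215) (.lf 0))) (.nd (.lf 0) (.nd (.lf 228) (.lf 0)))) (.lf 0)) (.nd (.nd (.nd (.nd (.lf 7686) (.lf 0)) (.lf 0)) (.nd (.lf 0) (.nd (.lf 37117) (.lf 0)))) (.lf 0)))) (.nd (.nd (.nd (.nd (.nd (.nd (.lf 32) (.lf 280)) (.nd (.lf 22701) (.lf 0))) (.nd (.nd (.lf 12354) (.lf 0)) (.lf 0))) (.nd (.lf 0) (.nd (.nd (.lf 120) (.lf 0)) (.lf 0)))) (.nd (.nd (.nd (.nd (.lf 7173) (.lf 0)) (.nd (.lf 33482) (.lf 0))) (.lf 0)) (.lf 0))) (.nd (.nd (.nd (.lf 0) (.nd (.lf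 0) (.nd (.lf 240) (.lf 0)))) (.lf 0)) (.nd (.nd (.lf 0) (.nd (.lf 0) (.nd (.lf 37123) (.lf 0)))) (.nd (.lf 0) (.nd (.nd (.lf 20113) (.lf 0)) (.lf 0)))))))

/-- a row -/
def tab48 : Trie := (.nd (.nd (.nd (.nd (.nd (.nd (.lf 0) (.nd (.lf 168) (.lf 0))) (.lf 0)) (.lf 0)) (.nd (.nd (.nd (.nd (.lf 61) (.lf 0)) (.lf 0)) (.nd (.nd (.lf 176) (.lf 0)) (.nd (.lf 252) (.lf 0)))) (.nd (.nd (.nd (.lf 120) (.lf 0)) (.lf 0)) (.lf 0)))) (.nd (.nd (.nd (.nd (.nd (.lf 15409) (.lf 0)) (.nd (.lf 188) (.lf 0))) (.nd (.nd (.lf 156) (.lf 0)) (.nd (.lf 36073) (.lf 0)))) (.nd (.lf 0) (.nd (.lf 0) (.nd (.lf 280) (.lf 0))))) (.nd (.nd (.nd (.nd (.lf 112) (.lf 0)) (.lf 0)) (.nd (.lf 0) (.nd (.lf 272) (.lf 0)))) (.nd (.lf 0) (.nd (.nd (.lf 33429) (.lf 0)) (.lf 0)))))) (.nd (.nd (.nd (.nd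 (.nd (.nd (.lf 14885) (.lf 0)) (.nd (.lf 184) (.lf 0))) (.lf 0)) (.nd (.nd (.nd (.lf 116) (.lf 0)) (.lf 0)) (.lf 0))) (.nd (.nd (.nd (.nd (.lf 108) (.lf 0)) (.nd (.lf 260) (.lf 0))) (.nd (.nd (.lf 180) (.lf 0)) (.nd (.lf 256) (.lf 0)))) (.nd (.lf 0) (.nd (.lf 0) (.nd (.lf 284) (.lf 0)))))) (.nd (.nd (.nd (.nd (.nd (.lf 56) (.lf 0)) (.lf 0)) (.nd (.nd (.lf 160) (.lf 0)) (.nd (.lf 36597) (.lf 0)))) (.lf 0)) (.nd (.nd (.lf 0) (.nd (.nd (.lf 192) (.lf 0)) (.nd (.lf 276) (.lf 0)))) (.nd (.nd (.nd (.lf 24669) (.lf 0)) (.lf 0)) (.nd (.nd (.lf 164) (.lf 0)) (.lf 0)))))))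

/-- a row -/
def tab49 : Trie := (.nd (.nd (.nd (.nd (.nd (.nd (.lf 0) (.nd (.lf 21671) (.lf 0))) (.lf 0)) (.nd (.nd (.nd (.lf 116) (.lf 0)) (.lf 0)) (.lf 0))) (.nd (.nd (.nd (.nd (.lf 7738) (.lf 0)) (.nd (.lf 260) (.lf 0))) (.nd (.nd (.lf 23217) (.lf 0)) (.nd (.lf 257) (.lf 0)))) (.nd (.lf 0) (.nd (.lf 0) (.nd (.lf 284) (.lf 0)))))) (.nd (.nd (.nd (.nd (.nd (.lf 15414) (.lf 0)) (.nd (.lf 24251) (.lf 0))) (.nd (.nd (.lf 20637) (.lf 0)) (.nd (.lf 36078) (.lf 0)))) (.lf 0)) (.nd (.nd (.nd (.nd (.lf 111) (.lf 0)) (.lf 0)) (.nd (.nd (.lf 192) (.lf 0)) (.nd (.lf 35601) (.lf 0)))) (.nd (.lf 0) (.nd (.nd (.lf 33434) (.lf 0)) (.lf 0)))))) (.nd (.nd (.nd (.nd (.nd (.nd (.lf 14890) (.lf 0)) (.nd (.lf 189) (.lf 0))) (.lf 0)) (.nd (.lf 0) (.nd (.lf 0) (.nd (.lf 280) (.lf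 0))))) (.nd (.nd (.nd (.nd (.lf 14445) (.lf 0)) (.lf 0)) (.nd (.nd (.lf 179) (.lf 0)) (.nd (.lf 33023) (.lf 0)))) (.lf 0))) (.nd (.nd (.nd (.nd (.nd (.lf 60) (.lf 0)) (.lf 0)) (.nd (.nd (.lf 159) (.lf 0)) (.nd (.lf 36602) (.lf 0)))) (.nd (.nd (.nd (.lf 120) (.lf 0)) (.lf 0)) (.lf 0))) (.nd (.nd (.lf 0) (.nd (.lf 0) (.nd (.lf 275) (.lf 0)))) (.nd (.nd (.nd (.lf 24674) (.lf 0)) (.lf 0)) (.nd (.nd (.lf 169) (.lf 0)) (.lf 0)))))))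

/-- a row -/
def tab50 : Trie := (.nd (.nd (.nd (.nd (.nd (.nd (.nd (.lf 8) (.lf 264)) (.lf 0)) (.nd (.lf 0) (.nd (.lf 36073) (.lf 0)))) (.lf 0)) (.nd (.lf 0) (.nd (.nd (.nd (.lf 9230) (.lf 0)) (.nd (.lf 30939) (.lf 0))) (.nd (.nd (.lf 144) (.lf 0)) (.lf 0))))) (.nd (.nd (.lf 0) (.nd (.nd (.nd (.lf 64) (.lf 0)) (.nd (.lf 208) (.lf 0))) (.nd (.nd (.lf 16485) (.lf 0)) (.lf 0)))) (.nd (.nd (.nd (.nd (.lf 0) (.lf 288)) (.lf 0)) (.lf 0)) (.nd (.nd (.nd (.lf 10274) (.lf 0)) (.nd (.lf 34531) (.lf 0))) (.lf 0))))) (.nd (.nd (.nd (.nd (.lf 0) (.nd (.lf 0) (.nd (.lf 36078) (.lf 0)))) (.nd (.lf 0) (.nd (.nd (.lf 124) (.lf 0)) (.lf 0)))) (.nd (.lf 0) (.nd (.nd (.nd (.lf 9761) (.lf 0)) (.nd (.lf 34525) (.lf 0))) (.lf 0)))) (.nd (.nd (.lf 0) (.nd (.nd (.nd (.lf 8717) (.lf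 0)) (.nd (.lf 30933) (.lf 0))) (.nd (.nd (.lf 16999) (.lf 0)) (.lf 0)))) (.nd (.lf 0) (.nd (.nd (.lf 0) (.nd (.lf 228) (.lf 0))) (.lf 0))))))

/-- a row -/
def tab51 : Trie := (.nd (.nd (.nd (.nd (.nd (.nd (.nd (.lf 12) (.lf 268)) (.lf 0)) (.nd (.lf 0) (.nd (.lf 36597) (.lf 0)))) (.nd (.nd (.nd (.lf 8713) (.lf 0)) (.nd (.lf 34013) (.lf 0))) (.nd (.nd (.lf 124) (.lf 0)) (.lf 0)))) (.lf 0)) (.nd (.nd (.lf 0) (.nd (.lf 0) (.nd (.nd (.lf 17513) (.lf 0)) (.lf 0)))) (.nd (.nd (.nd (.lf 0) (.nd (.lf 29397) (.lf 0))) (.lf 0)) (.nd (.nd (.nd (.lf 11310) (.lf 0)) (.lf 0)) (.lf 0))))) (.nd (.nd (.nd (.nd (.lf 0) (.nd (.lf 0) (.nd (.lf 36602) (.lf 0)))) (.nd (.nd (.nd (.lf 9226) (.lf 0)) (.nd (.lf 34019) (.lf 0))) (.lf 0))) (.nd (.nd (.nd (.nd (.lf 0) (.lf 288)) (.lf 0))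 (.lf 0)) (.nd (.nd (.nd (.lf 10797) (.lf 0)) (.lf 0)) (.nd (.nd (.lf 172) (.lf 0)) (.lf 0))))) (.nd (.nd (.nd (.nd (.lf 0) (.nd (.lf 204) (.lf 0))) (.lf 0)) (.nd (.lf 0) (.nd (.nd (.lf 18027) (.lf 0)) (.lf 0)))) (.nd (.nd (.nd (.nd (.lf 64) (.lf 0)) (.nd (.lf 29403) (.lf 0))) (.lf 0)) (.nd (.nd (.lf 0) (.nd (.lf 240) (.lf 0))) (.lf 0))))))

/-- a row -/
def tab52 : Trie := (.nd (.nd (.nd (.nd (.nd (.nd (.nd (.lf 8209) (.lf 37137)) (.nd (.lf 204) (.lf 0))) (.nd (.lf 0) (.nd (.lf 252) (.lf 0)))) (.nd (.nd (.nd (.lf 76) (.lf 0)) (.nd (.lf 232) (.lf 0))) (.nd (.nd (.lf 26241) (.lf 0)) (.lf 0)))) (.nd (.nd (.nd (.nd (.lf 64) (.lf 288)) (.nd (.lf 220) (.lf 0))) (.lf 0)) (.nd (.nd (.nd (.lf 88) (.lf 0)) (.nd (.lf 240) (.lf 0))) (.nd (.nd (.lf 29341) (.lf 0)) (.lf 0)))))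 (.nd (.nd (.nd (.nd (.lf 0) (.nd (.lf 208) (.lf 0))) (.lf 0)) (.lf 0)) (.nd (.nd (.nd (.nd (.lf 72) (.lf 0)) (.lf 0)) (.lf 0)) (.nd (.nd (.nd (.lf 96) (.lf 0)) (.nd (.lf 248) (.lf 0))) (.lf 0))))) (.nd (.nd (.nd (.nd (.lf 0) (.nd (.lf 0) (.nd (.lf 257) (.lf 0)))) (.nd (.nd (.nd (.lf 80) (.lf 0)) (.nd (.lf 236) (.lf 0))) (.nd (.nd (.lf 26761) (.lf 0)) (.lf 0)))) (.nd (.nd (.nd (.nd (.lf 68) (.lf 0)) (.nd (.lf 225) (.lf 0))) (.lf 0)) (.nd (.nd (.nd (.lf 92) (.lf 0)) (.nd (.lf 244) (.lf 0))) (.nd (.nd (.lf 30897) (.lf 0)) (.lf 0))))) (.nd (.nd (.lf 0) (.nd (.nd (.nd (.lf 84) (.lf 0)) (.lf 0)) (.lf 0))) (.nd (.nd (.nd (.lf 0) (.nd (.lf 228) (.lf 0))) (.lf 0)) (.lf 0)))))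

/-- a row -/
def tab53 : Trie := (.nd (.nd (.nd (.nd (.nd (.nd (.nd (.lf 8215) (.lf 37143)) (.lf 0)) (.nd (.lf 0) (.nd (.lf 256) (.lf 0)))) (.nd (.nd (.nd (.lf 81) (.lf 0)) (.nd (.lf 30441) (.lf 0))) (.nd (.nd (.lf 26247) (.lf 0)) (.lf 0)))) (.nd (.nd (.nd (.lf 0) (.nd (.lf 224) (.lf 0))) (.lf 0)) (.nd (.nd (.nd (.lf 11350) (.lf 0)) (.lf 0)) (.nd (.nd (.lf 29347) (.lf 0)) (.lf 0))))) (.nd (.lf 0) (.nd (.nd (.nd (.nd (.lf 70) (.lf 0)) (.nd (.lf 228) (.lf 0))) (.lf 0)) (.nd (.nd (.nd (.lf 94) (.lf 0)) (.nd (.lf 246) (.lf 0))) (.lf 0))))) (.nd (.nd (.nd (.nd (.nd (.lf 0) (.nd (.lf 208) (.lf 0))) (.nd (.lf 0) (.nd (.lf 33023) (.lf 0)))) (.nd (.nd (.nd (.lf 10318) (.lf 0)) (.nd (.lf 234) (.lf 0))) (.nd (.nd (.lf 26767) (.lf 0)) (.lf 0)))) (.nd (.nd (.nd (.nd (.lf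 9285) (.lf 0)) (.nd (.lf 28895) (.lf 0))) (.lf 0)) (.nd (.nd (.nd (.lf 12381) (.lf 0)) (.nd (.lf 31989) (.lf 0))) (.nd (.nd (.lf 30903) (.lf 0)) (.lf 0))))) (.nd (.nd (.nd (.nd (.nd (.lf 64) (.lf 288)) (.lf 0)) (.lf 0)) (.nd (.nd (.nd (.lf 89) (.lf 0)) (.nd (.lf 240) (.lf 0))) (.lf 0))) (.nd (.lf 0) (.nd (.lf 0) (.nd (.nd (.lf 204) (.lf 0)) (.lf 0)))))))

/-- a row -/
def tab54 : Trie := (.nd (.nd (.nd (.nd (.nd (.nd (.nd (.lf 15897) (.lf 0)) (.lf 0)) (.nd (.lf 0) (.nd (.lf 272) (.lf 0)))) (.nd (.nd (.nd (.lf 128) (.lf 0)) (.lf 0)) (.lf 0))) (.nd (.nd (.nd (.nd (.lf 9285) (.lf 0)) (.lf 0)) (.lf 0)) (.nd (.nd (.nd (.lf 18057) (.lf 0)) (.nd (.lf 31989) (.lf 0))) (.nd (.nd (.lf 33957) (.lf 0)) (.lf 0))))) (.nd (.nd (.lf 0) (.nd (.nd (.nd (.lf 26709) (.lf 0)) (.lf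 0)) (.nd (.nd (.lf 148) (.lf 0)) (.lf 0)))) (.nd (.nd (.nd (.nd (.lf 124) (.lf 0)) (.nd (.lf 232) (.lf 0))) (.nd (.nd (.lf 212) (.lf 0)) (.lf 0))) (.nd (.nd (.lf 0) (.nd (.lf 268) (.lf 0))) (.lf 0))))) (.nd (.nd (.nd (.nd (.lf 0) (.nd (.lf 0) (.nd (.lf 35601) (.lf 0)))) (.nd (.nd (.nd (.lf 17025) (.lf 0)) (.nd (.lf 264) (.lf 0))) (.lf 0))) (.nd (.nd (.lf 0) (.nd (.nd (.lf 208) (.lf 0)) (.lf 0))) (.nd (.lf 0) (.nd (.nd (.lf 34489) (.lf 0)) (.lf 0))))) (.nd (.nd (.nd (.nd (.nd (.lf 68) (.lf 0)) (.lf 0)) (.nd (.nd (.lf 204) (.lf 0)) (.lf 0))) (.nd (.nd (.nd (.lf 136) (.lf 0)) (.nd (.lf 244) (.lf 0))) (.nd (.nd (.lf 19605) (.lf 0)) (.lf 0)))) (.nd (.nd (.nd (.nd (.lf 26189) (.lf 0)) (.nd (.lf 30441) (.lf 0))) (.nd (.nd (.lf 27861) (.lf 0)) (.lf 0))) (.nd (.nd (.lf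 0) (.nd (.lf 37117) (.lf 0))) (.nd (.lf 0) (.nd (.lf 288) (.lf 0))))))))

/-- a row -/
def tab55 : Trie := (.nd (.nd (.nd (.nd (.nd (.nd (.nd (.lf 15902) (.lf 0)) (.lf 0)) (.nd (.lf 0) (.nd (.lf 276) (.lf 0)))) (.nd (.nd (.nd (.lf 132) (.lf 0)) (.nd (.lf 264) (.lf 0))) (.lf 0))) (.nd (.nd (.nd (.nd (.lf 70) (.lf 0)) (.lf 0)) (.nd (.nd (.lf 208) (.lf 0)) (.lf 0))) (.nd (.nd (.nd (.lf 139) (.lf 0)) (.nd (.lf 246) (.lf 0))) (.nd (.nd (.lf 33963) (.lf 0)) (.lf 0))))) (.nd (.nd (.nd (.lf 0) (.nd (.nd (.lf 204) (.lf 0)) (.lf 0))) (.nd (.nd (.nd (.lf 26714) (.lf 0)) (.lf 0)) (.nd (.nd (.lf 152) (.lf 0)) (.lf 0)))) (.nd (.nd (.nd (.lf 0) (.nd (.lf 236) (.lf 0))) (.nd (.nd (.lf 216) (.lf 0)) (.lf 0))) (.nd (.lf 0) (.nd (.lf 0) (.nd (.lf 288) (.lf 0))))))) (.nd (.nd (.nd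 (.nd (.lf 0) (.nd (.lf 0) (.nd (.lf 275) (.lf 0)))) (.nd (.nd (.nd (.lf 131) (.lf 0)) (.lf 0)) (.lf 0))) (.nd (.nd (.nd (.nd (.lf 124) (.lf 0)) (.lf 0)) (.lf 0)) (.nd (.nd (.lf 0) (.nd (.lf 268) (.lf 0))) (.nd (.nd (.lf 34495) (.lf 0)) (.lf 0))))) (.nd (.nd (.nd (.nd (.nd (.lf 72) (.lf 0)) (.lf 0)) (.lf 0)) (.nd (.nd (.nd (.lf 140) (.lf 0)) (.nd (.lf 248) (.lf 0))) (.nd (.nd (.lf 150) (.lf 0)) (.lf 0)))) (.nd (.nd (.nd (.nd (.lf 26194) (.lf 0)) (.nd (.lf 234) (.lf 0))) (.nd (.nd (.lf 215) (.lf 0)) (.lf 0))) (.nd (.nd (.lf 0) (.nd (.lf 37123) (.lf 0))) (.lf 0))))))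

/-- a row -/
def tab56 : Trie := (.nd (.nd (.nd (.nd (.nd (.nd (.nd (.lf 32) (.lf 280)) (.lf 0)) (.lf 0)) (.nd (.lf 0) (.nd (.nd (.lf 144) (.lf 0)) (.lf 0)))) (.nd (.nd (.nd (.lf 0) (.nd (.lf 34025) (.lf 0))) (.lf 0)) (.nd (.nd (.nd (.lf 12334) (.lf 0)) (.lf 0)) (.lf 0)))) (.nd (.nd (.nd (.nd (.nd (.lf 64) (.lf 288)) (.nd (.lf 27859) (.lf 0))) (.lf 0)) (.nd (.nd (.lf 0) (.nd (.lf 240) (.lf 0))) (.nd (.nd (.lf 20085) (.lf 0)) (.lf 0)))) (.nd (.nd (.nd (.nd (.lf 10250) (.lf 0)) (.lf 0)) (.lf 0)) (.nd (.nd (.lf 0) (.nd (.lf 36611) (.lf 0))) (.nd (.nd (.lf 204) (.lf 0)) (.lf 0)))))) (.nd (.nd (.nd (.nd (.nd (.lf 0) (.nd (.lf 27345) (.lf 0))) (.lf 0)) (.lf 0)) (.nd (.nd (.nd (.nd (.lf 9737) (.lf 0)) (.nd (.lf 34030) (.lf 0))) (.lf 0)) (.nd (.nd (.lf 0) (.nd (.lf 36605)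 (.lf 0))) (.nd (.nd (.lf 192) (.lf 0)) (.lf 0))))) (.nd (.nd (.lf 0) (.nd (.nd (.nd (.lf 11821) (.lf 0)) (.lf 0)) (.nd (.nd (.lf 20599) (.lf 0)) (.lf 0)))) (.lf 0))))

/-- a row -/
def tab57 : Trie := (.nd (.nd (.nd (.nd (.nd (.nd (.nd (.lf 18469) (.lf 0)) (.lf 0)) (.lf 0)) (.lf 0)) (.nd (.nd (.nd (.nd (.lf 81) (.lf 0)) (.lf 0)) (.nd (.nd (.lf 212) (.lf 0)) (.lf 0))) (.nd (.nd (.lf 0) (.nd (.lf 256) (.lf 0))) (.lf 0)))) (.nd (.nd (.nd (.nd (.nd (.lf 26181) (.lf 0)) (.nd (.lf 224) (.lf 0))) (.lf 0)) (.nd (.nd (.nd (.lf 29277) (.lf 0)) (.nd (.lf 37109) (.lf 0))) (.nd (.nd (.lf 164) (.lf 0)) (.lf 0)))) (.nd (.nd (.nd (.nd (.lf 132) (.lf 0)) (.lf 0)) (.lf 0)) (.nd (.nd (.nd (.lf 160) (.lf 0)) (.nd (.lf 276) (.lf 0))) (.lf 0))))) (.nd (.nd (.nd (.nd (.nd (.lf 0) (.nd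 (.lf 220) (.lf 0))) (.nd (.nd (.lf 204) (.lf 0)) (.nd (.lf 280) (.lf 0)))) (.nd (.nd (.nd (.lf 144) (.lf 0)) (.lf 0)) (.nd (.nd (.lf 33941) (.lf 0)) (.lf 0)))) (.nd (.nd (.nd (.nd (.lf 128) (.lf 0)) (.nd (.lf 264) (.lf 0))) (.nd (.nd (.lf 216) (.lf 0)) (.lf 0))) (.nd (.nd (.nd (.lf 156) (.lf 0)) (.nd (.lf 272) (.lf 0))) (.nd (.nd (.lf 36037) (.lf 0)) (.nd (.lf 288) (.lf 0)))))) (.nd (.nd (.nd (.nd (.nd (.lf 76) (.lf 0)) (.lf 0)) (.lf 0)) (.nd (.nd (.lf 0) (.nd (.lf 252) (.lf 0))) (.nd (.nd (.lf 168) (.lf 0)) (.lf 0)))) (.nd (.nd (.lf 0) (.nd (.nd (.lf 228) (.lf 0)) (.lf 0))) (.lf 0)))))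

/-- a row -/
def tab58 : Trie := (.nd (.nd (.nd (.nd (.nd (.nd (.nd (.lf 18474) (.lf 0)) (.lf 0)) (.nd (.nd (.lf 204) (.lf 0)) (.nd (.lf 280) (.lf 0)))) (.nd (.nd (.nd (.lf 144) (.lf 0)) (.lf 0)) (.lf 0))) (.nd (.nd (.nd (.nd (.lf 10318) (.lf 0)) (.nd (.lf 264) (.lf 0))) (.nd (.nd (.lf 27861) (.lf 0)) (.lf 0))) (.nd (.nd (.lf 0) (.nd (.lf 33023) (.lf 0))) (.nd (.lf 0) (.nd (.lf 288) (.lf 0)))))) (.nd (.nd (.nd (.nd (.nd (.lf 26186) (.lf 0)) (.nd (.lf 28895) (.lf 0))) (.lf 0)) (.nd (.nd (.nd (.lf 29282) (.lf 0)) (.nd (.lf 37114) (.lf 0))) (.nd (.nd (.lf 169) (.lf 0)) (.lf 0)))) (.nd (.nd (.nd (.nd (.lf 131) (.lf 0)) (.lf 0)) (.nd (.nd (.lf 228) (.lf 0)) (.lf 0))) (.nd (.nd (.nd (.lf 159) (.lf 0)) (.nd (.lf 275) (.lf 0))) (.lf 0))))) (.nd (.nd (.nd (.nd (.nd (.lf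 0) (.nd (.lf 225) (.lf 0))) (.lf 0)) (.nd (.lf 0) (.nd (.nd (.lf 33946) (.lf 0)) (.lf 0)))) (.nd (.nd (.nd (.nd (.lf 17025) (.lf 0)) (.lf 0)) (.nd (.nd (.lf 215) (.lf 0)) (.lf 0))) (.nd (.nd (.nd (.lf 20637) (.lf 0)) (.nd (.lf 35601) (.lf 0))) (.nd (.nd (.lf 36042) (.lf 0)) (.lf 0))))) (.nd (.nd (.nd (.nd (.nd (.lf 80) (.lf 0)) (.lf 0)) (.lf 0)) (.nd (.nd (.lf 0) (.nd (.lf 257) (.lf 0))) (.nd (.nd (.lf 21671) (.lf 0)) (.lf 0)))) (.lf 0))))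

/-- a row -/
def tab59 : Trie := (.nd (.nd (.nd (.nd (.nd (.nd (.nd (.lf 44) (.lf 284)) (.nd (.lf 27855) (.lf 0))) (.lf 0)) (.nd (.nd (.nd (.lf 11809) (.lf 0)) (.nd (.lf 36093) (.lf 0))) (.lf 0))) (.nd (.nd (.nd (.lf 0) (.nd (.lf 34549) (.lf 0))) (.lf 0)) (.nd (.lf 0) (.nd (.nd (.lf 192) (.lf 0)) (.lf 0))))) (.nd (.nd (.lf 0) (.nd (.lf 0) (.nd (.nd (.lf 22649) (.lf 0)) (.lf 0)))) (.nd (.nd (.nd (.nd (.lf 11278) (.lf 0)) (.lf 0)) (.lf 0)) (.nd (.lf 0) (.nd (.nd (.lf 208) (.lf 0)) (.lf 0)))))) (.nd (.nd (.nd (.nd (.nd (.nd (.lf 64) (.lf 288)) (.lf 0)) (.lf 0)) (.nd (.nd (.nd (.lf 12322) (.lf 0)) (.nd (.lf 36099) (.lf 0))) (.nd (.nd (.lf 172) (.lf 0)) (.lf 0)))) (.nd (.nd (.nd (.nd (.lf 10765) (.lf 0)) (.nd (.lf 34554) (.lf 0))) (.lf 0)) (.lf 0))) (.nd (.nd (.nd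 (.nd (.lf 0) (.nd (.lf 228) (.lf 0))) (.lf 0)) (.nd (.lf 0) (.nd (.nd (.lf 23163) (.lf 0)) (.lf 0)))) (.nd (.lf 0) (.nd (.lf 0) (.nd (.nd (.lf 27341) (.lf 0)) (.lf 0)))))))

/-- a row -/
def tab60 : Trie := (.nd (.nd (.nd (.nd (.nd (.nd (.nd (.lf 22065) (.lf 0)) (.nd (.lf 224) (.lf 0))) (.lf 0)) (.nd (.nd (.lf 0) (.nd (.lf 272) (.lf 0))) (.nd (.nd (.lf 34453) (.lf 0)) (.lf 0)))) (.nd (.nd (.nd (.nd (.lf 89) (.lf 0)) (.lf 0)) (.lf 0)) (.nd (.nd (.nd (.lf 172) (.lf 0)) (.lf 0)) (.nd (.nd (.lf 36549) (.lf 0)) (.lf 0))))) (.nd (.nd (.nd (.lf 0) (.nd (.nd (.lf 212) (.lf 0)) (.lf 0))) (.nd (.lf 0) (.nd (.nd (.lf 184) (.lf 0)) (.nd (.lf 288) (.lf 0))))) (.nd (.nd (.nd (.nd (.lf 140) (.lf 0)) (.nd (.lf 252) (.lf 0))) (.lf 0)) (.nd (.nd (.nd (.lf 180) (.lf 0)) (.lf 0))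 (.lf 0))))) (.nd (.nd (.nd (.nd (.nd (.nd (.lf 26693) (.lf 0)) (.lf 0)) (.nd (.nd (.lf 208) (.lf 0)) (.nd (.lf 284) (.lf 0)))) (.nd (.nd (.lf 0) (.nd (.lf 276) (.lf 0))) (.lf 0))) (.nd (.nd (.nd (.nd (.lf 136) (.lf 0)) (.nd (.lf 268) (.lf 0))) (.lf 0)) (.nd (.nd (.nd (.lf 176) (.lf 0)) (.lf 0)) (.lf 0)))) (.nd (.nd (.nd (.nd (.nd (.lf 84) (.lf 0)) (.nd (.lf 37097) (.lf 0))) (.nd (.nd (.lf 216) (.lf 0)) (.lf 0))) (.nd (.lf 0) (.nd (.nd (.lf 188) (.lf 0)) (.lf 0)))) (.nd (.nd (.nd (.nd (.lf 30813) (.lf 0)) (.nd (.lf 256) (.lf 0))) (.nd (.nd (.lf 240) (.lf 0)) (.lf 0))) (.nd (.lf 0) (.nd (.nd (.lf 220) (.lf 0)) (.lf 0)))))))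

/-- a row -/
def tab61 : Trie := (.nd (.nd (.nd (.nd (.nd (.nd (.nd (.lf 22070) (.lf 0)) (.nd (.lf 28895) (.lf 0))) (.nd (.nd (.lf 208) (.lf 0)) (.nd (.lf 284) (.lf 0)))) (.nd (.nd (.lf 0) (.nd (.lf 35601) (.lf 0))) (.nd (.nd (.lf 34458) (.lf 0)) (.lf 0)))) (.nd (.nd (.nd (.nd (.lf 11350) (.lf 0)) (.nd (.lf 268) (.lf 0))) (.lf 0)) (.nd (.lf 0) (.nd (.nd (.lf 36554) (.lf 0)) (.lf 0))))) (.nd (.nd (.nd (.lf 0) (.nd (.nd (.lf 27861) (.lf 0)) (.lf 0))) (.nd (.lf 0) (.nd (.nd (.lf 189) (.lf 0)) (.lf 0)))) (.nd (.nd (.nd (.nd (.lf 139) (.lf 0)) (.nd (.lf 257) (.lf 0))) (.nd (.nd (.lf 240) (.lf 0)) (.lf 0))) (.nd (.nd (.nd (.lf 179) (.lf 0)) (.lf 0)) (.lf 0))))) (.nd (.nd (.nd (.nd (.nd (.nd (.lf 26698) (.lf 0)) (.lf 0)) (.lf 0)) (.nd (.nd (.lf 0) (.nd (.lf 275) (.lf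 0))) (.nd (.lf 0) (.nd (.lf 288) (.lf 0))))) (.nd (.nd (.nd (.nd (.lf 18057) (.lf 0)) (.lf 0)) (.lf 0)) (.nd (.nd (.nd (.lf 23217) (.lf 0)) (.lf 0)) (.lf 0)))) (.nd (.nd (.nd (.nd (.nd (.lf 88) (.lf 0)) (.nd (.lf 37102) (.lf 0))) (.nd (.nd (.lf 215) (.lf 0)) (.lf 0))) (.nd (.nd (.nd (.lf 172) (.lf 0)) (.lf 0)) (.nd (.nd (.lf 24251) (.lf 0)) (.lf 0)))) (.nd (.nd (.nd (.nd (.lf 30818) (.lf 0)) (.nd (.lf 33023) (.lf 0))) (.lf 0)) (.nd (.lf 0) (.nd (.nd (.lf 225) (.lf 0)) (.lf 0)))))))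

/-- a row -/
def tab62 : Trie := (.nd (.nd (.nd (.nd (.nd (.nd (.nd (.lf 24633) (.lf 0)) (.nd (.lf 30441) (.lf 0))) (.nd (.nd (.lf 212) (.lf 0)) (.lf 0))) (.nd (.nd (.nd (.lf 156) (.lf 0)) (.lf 0)) (.nd (.nd (.lf 36005) (.lf 0)) (.lf 0)))) (.nd (.nd (.nd (.nd (.lf 12381) (.lf 0)) (.nd (.lf 272) (.lf 0))) (.lf 0)) (.nd (.nd (.nd (.lf 23217) (.lf 0)) (.lf 0)) (.lf 0)))) (.nd (.nd (.nd (.nd (.nd (.lf 30805) (.lf 0)) (.nd (.lf 31989) (.lf 0))) (.lf 0)) (.nd (.lf 0) (.nd (.nd (.lf 196) (.lf 0)) (.lf 0)))) (.nd (.lf 0) (.nd (.nd (.nd (.lf 192) (.lf 0)) (.nd (.lf 284) (.lf 0))) (.nd (.nd (.lf 37085) (.lf 0)) (.lf 0)))))) (.nd (.nd (.nd (.nd (.nd (.nd (.lf 29261) (.lf 0)) (.nd (.lf 244) (.lf 0))) (.nd (.nd (.lf 27861) (.lf 0)) (.lf 0))) (.nd (.nd (.nd (.lf 20637) (.lf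 0)) (.nd (.lf 280) (.lf 0))) (.nd (.nd (.lf 36537) (.lf 0)) (.lf 0)))) (.nd (.nd (.nd (.lf 0) (.nd (.lf 35601) (.lf 0))) (.nd (.nd (.lf 240) (.lf 0)) (.lf 0))) (.lf 0))) (.nd (.nd (.nd (.nd (.nd (.lf 92) (.lf 0)) (.lf 0)) (.nd (.nd (.lf 228) (.lf 0)) (.lf 0))) (.nd (.nd (.nd (.lf 176) (.lf 0)) (.lf 0)) (.nd (.nd (.lf 25797) (.lf 0)) (.lf 0)))) (.nd (.nd (.lf 0) (.nd (.lf 0) (.nd (.lf 288) (.lf 0)))) (.nd (.lf 0) (.nd (.nd (.lf 232) (.lf 0)) (.lf 0)))))))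

/-- a row -/
def tab63 : Trie := (.nd (.nd (.nd (.nd (.nd (.nd (.nd (.lf 24638) (.lf 0)) (.nd (.lf 234) (.lf 0))) (.nd (.nd (.lf 216) (.lf 0)) (.lf 0))) (.nd (.nd (.nd (.lf 160) (.lf 0)) (.nd (.lf 280) (.lf 0))) (.nd (.nd (.lf 36011) (.lf 0)) (.lf 0)))) (.nd (.nd (.nd (.nd (.lf 94) (.lf 0)) (.nd (.lf 276) (.lf 0))) (.nd (.nd (.lf 240) (.lf 0)) (.lf 0))) (.nd (.nd (.nd (.lf 179) (.lf 0)) (.lf 0)) (.lf 0)))) (.nd (.nd (.nd (.nd (.nd (.lf 30810) (.lf 0)) (.nd (.lf 246) (.lf 0))) (.nd (.nd (.lf 228) (.lf 0)) (.lf 0))) (.nd (.lf 0) (.nd (.nd (.lf 200) (.lf 0)) (.lf 0)))) (.nd (.nd (.lf 0) (.nd (.lf 0) (.nd (.lf 288) (.lf 0)))) (.nd (.lf 0) (.nd (.nd (.lf 37091) (.lf 0)) (.lf 0)))))) (.nd (.nd (.nd (.nd (.nd (.nd (.lf 29266) (.lf 0)) (.nd (.lf 248) (.lf 0))) (.nd (.nd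 (.lf 215) (.lf 0)) (.lf 0))) (.nd (.nd (.nd (.lf 159) (.lf 0)) (.lf 0)) (.nd (.nd (.lf 36543) (.lf 0)) (.lf 0)))) (.nd (.nd (.nd (.lf 0) (.nd (.lf 275) (.lf 0))) (.lf 0)) (.nd (.nd (.nd (.lf 192) (.lf 0)) (.nd (.lf 284) (.lf 0))) (.lf 0)))) (.nd (.nd (.nd (.nd (.nd (.lf 96) (.lf 0)) (.lf 0)) (.lf 0)) (.nd (.nd (.nd (.lf 180) (.lf 0)) (.lf 0)) (.nd (.nd (.lf 198) (.lf 0)) (.lf 0)))) (.nd (.lf 0) (.nd (.lf 0) (.nd (.nd (.lf 236) (.lf 0)) (.lf 0)))))))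

/-- a row -/
def tab64 : Trie := (.nd (.nd (.nd (.nd (.nd (.lf 0) (.nd (.nd (.lf 19069) (.lf 0)) (.lf 0))) (.nd (.lf 0) (.nd (.lf 0) (.nd (.lf 280) (.lf 0))))) (.nd (.nd (.nd (.nd (.lf 14343) (.lf 0)) (.lf 0)) (.nd (.nd (.lf 23725) (.lf 0)) (.nd (.lf 37137) (.lf 0)))) (.lf 0))) (.nd (.nd (.nd (.nd (.nd (.lf 104) (.lf 0)) (.lf 0)) (.nd (.nd (.lf 21137) (.lf 0)) (.nd (.lf 264) (.lf 0)))) (.nd (.nd (.nd (.lf 120) (.lf 0)) (.lf 0)) (.lf 0))) (.nd (.nd (.lf 0) (.nd (.nd (.lf 25281) (.lf 0)) (.lf 0))) (.lf 0)))) (.nd (.nd (.nd (.nd (.nd (.nd (.lf 100) (.lf 0)) (.lf 0)) (.nd (.nd (.lf 19582) (.lf 0)) (.lf 0))) (.lf 0)) (.nd (.nd (.lf 0) (.nd (.nd (.lf 24239) (.lf 0)) (.nd (.lf 37143) (.lf 0)))) (.lf 0))) (.nd (.nd (.nd (.nd (.nd (.lf 13829) (.lf 0)) (.lf 0)) (.nd (.nd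 (.lf 21651) (.lf 0)) (.nd (.lf 268) (.lf 0)))) (.nd (.lf 0) (.nd (.lf 0) (.nd (.lf 284) (.lf 0))))) (.nd (.nd (.nd (.nd (.lf 116) (.lf 0)) (.lf 0)) (.nd (.nd (.lf 25794) (.lf 0)) (.lf 0))) (.lf 0)))))

/-- a row -/
def tab65 : Trie := (.nd (.nd (.nd (.nd (.nd (.nd (.nd (.lf 100) (.lf 0)) (.lf 0)) (.lf 0)) (.lf 0)) (.nd (.nd (.nd (.nd (.lf 16907) (.lf 0)) (.lf 0)) (.nd (.nd (.lf 28369) (.lf 0)) (.lf 0))) (.nd (.nd (.nd (.lf 19562) (.lf 0)) (.nd (.lf 36631) (.lf 0))) (.lf 0)))) (.nd (.nd (.nd (.nd (.nd (.lf 124) (.lf 0)) (.lf 0)) (.lf 0)) (.nd (.nd (.lf 0) (.nd (.lf 268) (.lf 0))) (.lf 0))) (.nd (.nd (.lf 0) (.nd (.nd (.lf 29925) (.lf 0)) (.lf 0))) (.nd (.nd (.nd (.lf 21623) (.lf 0)) (.lf 0)) (.lf 0))))) (.nd (.nd (.lf 0) (.nd (.nd (.lf 0) (.nd (.nd (.lf 28883)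 (.lf 0)) (.lf 0))) (.nd (.nd (.nd (.lf 21109) (.lf 0)) (.lf 0)) (.nd (.nd (.lf 260) (.lf 0)) (.lf 0))))) (.nd (.nd (.nd (.nd (.nd (.lf 16393) (.lf 0)) (.lf 0)) (.lf 0)) (.nd (.nd (.nd (.lf 19049) (.lf 0)) (.nd (.lf 36625) (.lf 0))) (.nd (.lf 0) (.nd (.lf 288) (.lf 0))))) (.nd (.nd (.nd (.nd (.lf 144) (.lf 0)) (.lf 0)) (.nd (.nd (.lf 30438) (.lf 0)) (.lf 0))) (.nd (.nd (.nd (.lf 204) (.lf 0)) (.nd (.lf 280) (.lf 0))) (.lf 0))))))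

/-- a row -/
def tab66 : Trie := (.nd (.nd (.nd (.nd (.nd (.nd (.nd (.lf 104) (.lf 0)) (.lf 0)) (.lf 0)) (.nd (.nd (.nd (.lf 19045) (.lf 0)) (.lf 0)) (.nd (.lf 0) (.nd (.lf 288) (.lf 0))))) (.nd (.nd (.nd (.nd (.lf 17935) (.lf 0)) (.lf 0)) (.lf 0)) (.nd (.lf 0) (.nd (.nd (.lf 260) (.lf 0)) (.lf 0))))) (.nd (.nd (.nd (.lf 0) (.nd (.nd (.lf 28365) (.lf 0)) (.lf 0))) (.nd (.nd (.nd (.lf 172) (.lf 0)) (.lf 0)) (.lf 0))) (.nd (.nd (.nd (.lf 0) (.nd (.lf 36113) (.lf 0))) (.nd (.nd (.lf 31473) (.lf 0)) (.lf 0))) (.nd (.nd (.nd (.lf 24187) (.lf 0)) (.lf 0)) (.lf 0))))) (.nd (.nd (.nd (.nd (.nd (.nd (.lf 124) (.lf 0)) (.lf 0)) (.lf 0)) (.nd (.nd (.nd (.lf 19558) (.lf 0)) (.lf 0)) (.lf 0))) (.nd (.lf 0) (.nd (.nd (.nd (.lf 23673) (.lf 0)) (.lf 0)) (.lf 0)))) (.nd (.nd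 (.nd (.nd (.nd (.lf 17421) (.lf 0)) (.nd (.lf 264) (.lf 0))) (.nd (.nd (.lf 28879) (.lf 0)) (.lf 0))) (.lf 0)) (.nd (.nd (.nd (.lf 0) (.nd (.lf 36119) (.lf 0))) (.nd (.nd (.lf 31986) (.lf 0)) (.lf 0))) (.nd (.nd (.nd (.lf 208) (.lf 0)) (.nd (.lf 284) (.lf 0))) (.lf 0))))))

/-- a row -/
def tab67 : Trie := (.nd (.nd (.nd (.nd (.nd (.nd (.nd (.lf 33389) (.lf 0)) (.nd (.lf 264) (.lf 0))) (.nd (.nd (.lf 220) (.lf 0)) (.lf 0))) (.nd (.nd (.nd (.lf 164) (.lf 0)) (.lf 0)) (.lf 0))) (.nd (.nd (.lf 0) (.nd (.nd (.lf 244) (.lf 0)) (.lf 0))) (.nd (.nd (.nd (.lf 189) (.lf 0)) (.nd (.lf 284) (.lf 0))) (.lf 0)))) (.nd (.nd (.nd (.nd (.nd (.lf 34441) (.lf 0)) (.nd (.lf 268) (.lf 0))) (.nd (.nd (.lf 232) (.lf 0)) (.lf 0))) (.nd (.nd (.nd (.lf 36529) (.lf 0)) (.lf 0)) (.lf 0)))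 (.nd (.nd (.nd (.nd (.lf 152) (.lf 0)) (.lf 0)) (.nd (.nd (.lf 252) (.lf 0)) (.lf 0))) (.nd (.nd (.nd (.lf 200) (.lf 0)) (.lf 0)) (.lf 0))))) (.nd (.nd (.nd (.nd (.nd (.nd (.lf 33921) (.lf 0)) (.lf 0)) (.nd (.nd (.lf 225) (.lf 0)) (.lf 0))) (.nd (.nd (.nd (.lf 169) (.lf 0)) (.lf 0)) (.lf 0))) (.nd (.nd (.nd (.nd (.lf 148) (.lf 0)) (.lf 0)) (.nd (.nd (.lf 248) (.lf 0)) (.nd (.lf 288) (.lf 0)))) (.nd (.nd (.nd (.lf 196) (.lf 0)) (.lf 0)) (.lf 0)))) (.nd (.nd (.nd (.lf 0) (.nd (.nd (.lf 236) (.lf 0)) (.lf 0))) (.nd (.nd (.nd (.lf 184) (.lf 0)) (.lf 0)) (.nd (.nd (.lf 260) (.lf 0)) (.lf 0)))) (.nd (.nd (.nd (.nd (.lf 35997) (.lf 0)) (.nd (.lf 280) (.lf 0))) (.nd (.nd (.lf 257) (.lf 0)) (.lf 0))) (.nd (.nd (.nd (.lf 37077) (.lf 0)) (.lf 0)) (.lf 0))))))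

/-- a row -/
def tab68 : Trie := (.nd (.nd (.nd (.nd (.nd (.nd (.nd (.lf 33395) (.lf 0)) (.lf 0)) (.nd (.nd (.lf 224) (.lf 0)) (.lf 0))) (.nd (.nd (.nd (.lf 168) (.lf 0)) (.lf 0)) (.lf 0))) (.nd (.nd (.lf 0) (.nd (.nd (.lf 31989) (.lf 0)) (.nd (.lf 288) (.lf 0)))) (.nd (.nd (.nd (.lf 24251) (.lf 0)) (.lf 0)) (.lf 0)))) (.nd (.nd (.nd (.nd (.nd (.lf 34447) (.lf 0)) (.lf 0)) (.nd (.nd (.lf 30441) (.lf 0)) (.lf 0))) (.nd (.nd (.nd (.lf 36535) (.lf 0)) (.lf 0)) (.nd (.nd (.lf 260) (.lf 0)) (.lf 0)))) (.nd (.nd (.nd (.nd (.lf 150) (.lf 0)) (.nd (.lf 280) (.lf 0))) (.nd (.nd (.lf 256) (.lf 0)) (.lf 0))) (.nd (.nd (.nd (.lf 198) (.lf 0)) (.lf 0)) (.lf 0))))) (.nd (.nd (.nd (.nd (.nd (.nd (.lf 33927) (.lf 0)) (.nd (.lf 268) (.lf 0))) (.nd (.nd (.lf 28895) (.lf 0)) (.lf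 0))) (.nd (.nd (.nd (.lf 21671) (.lf 0)) (.lf 0)) (.lf 0))) (.nd (.nd (.nd (.nd (.lf 19605) (.lf 0)) (.lf 0)) (.nd (.nd (.lf 246) (.lf 0)) (.lf 0))) (.nd (.nd (.nd (.lf 25797) (.lf 0)) (.lf 0)) (.lf 0)))) (.nd (.nd (.nd (.lf 0) (.nd (.nd (.lf 234) (.lf 0)) (.lf 0))) (.nd (.nd (.nd (.lf 188) (.lf 0)) (.nd (.lf 284) (.lf 0))) (.lf 0))) (.nd (.nd (.nd (.nd (.lf 36003) (.lf 0)) (.lf 0)) (.nd (.nd (.lf 33023) (.lf 0)) (.lf 0))) (.nd (.nd (.nd (.lf 37083) (.lf 0)) (.lf 0)) (.nd (.nd (.lf 264) (.lf 0)) (.lf 0)))))))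

/-- a row -/
def tab69 : Trie := (.nd (.nd (.nd (.nd (.nd (.nd (.nd (.lf 116) (.lf 0)) (.lf 0)) (.nd (.nd (.lf 29901) (.lf 0)) (.lf 0))) (.lf 0)) (.nd (.nd (.nd (.nd (.lf 20515) (.lf 0)) (.lf 0)) (.nd (.nd (.lf 32497) (.lf 0)) (.lf 0))) (.nd (.nd (.nd (.lf 25722) (.lf 0)) (.lf 0)) (.lf 0)))) (.nd (.nd (.nd (.nd (.lf 0) (.nd (.lf 35599) (.lf 0))) (.lf 0)) (.nd (.nd (.nd (.lf 192) (.lf 0)) (.nd (.lf 284) (.lf 0))) (.lf 0))) (.nd (.nd (.nd (.nd (.lf 21607) (.lf 0)) (.lf 0)) (.lf 0)) (.nd (.lf 0) (.nd (.nd (.lf 264) (.lf 0)) (.lf 0)))))) (.nd (.nd (.nd (.nd (.nd (.nd (.lf 144) (.lf 0)) (.nd (.lf 35085) (.lf 0))) (.nd (.nd (.lf 30414) (.lf 0)) (.lf 0))) (.nd (.lf 0) (.nd (.nd (.lf 260) (.lf 0)) (.lf 0)))) (.nd (.nd (.nd (.nd (.lf 21093) (.lf 0)) (.lf 0)) (.nd (.nd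 (.lf 33011) (.lf 0)) (.lf 0))) (.lf 0))) (.nd (.nd (.nd (.nd (.nd (.lf 20001) (.lf 0)) (.lf 0)) (.nd (.lf 0) (.nd (.lf 288) (.lf 0)))) (.nd (.nd (.nd (.lf 25209) (.lf 0)) (.lf 0)) (.lf 0))) (.nd (.lf 0) (.nd (.nd (.nd (.lf 228) (.lf 0)) (.lf 0)) (.lf 0))))))

/-- a row -/
def tab70 : Trie := (.nd (.nd (.nd (.nd (.nd (.nd (.nd (.lf 120) (.lf 0)) (.nd (.lf 35595) (.lf 0))) (.nd (.nd (.lf 31441) (.lf 0)) (.lf 0))) (.nd (.nd (.nd (.lf 25205) (.lf 0)) (.lf 0)) (.nd (.nd (.lf 260) (.lf 0)) (.lf 0)))) (.nd (.nd (.nd (.nd (.lf 23087) (.lf 0)) (.lf 0)) (.lf 0)) (.lf 0))) (.nd (.nd (.nd (.nd (.nd (.lf 172) (.lf 0)) (.lf 0)) (.nd (.nd (.lf 32485) (.lf 0)) (.nd (.lf 288) (.lf 0)))) (.lf 0)) (.nd (.nd (.nd (.nd (.lf 24171) (.lf 0)) (.lf 0)) (.lf 0)) (.nd (.lf 0) (.nd (.nd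 (.lf 268) (.lf 0)) (.lf 0)))))) (.nd (.nd (.nd (.nd (.lf 0) (.nd (.nd (.lf 31954) (.lf 0)) (.lf 0))) (.nd (.nd (.nd (.lf 25718) (.lf 0)) (.lf 0)) (.lf 0))) (.nd (.nd (.nd (.nd (.lf 23657) (.lf 0)) (.lf 0)) (.lf 0)) (.lf 0))) (.nd (.nd (.nd (.nd (.nd (.lf 22573) (.lf 0)) (.nd (.lf 280) (.lf 0))) (.nd (.nd (.lf 32999) (.lf 0)) (.lf 0))) (.lf 0)) (.nd (.nd (.nd (.nd (.lf 192) (.lf 0)) (.lf 0)) (.lf 0)) (.nd (.nd (.nd (.lf 240) (.lf 0)) (.lf 0)) (.nd (.nd (.lf 35081) (.lf 0)) (.lf 0)))))))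

/-- a row -/
def tab71 : Trie := (.nd (.nd (.nd (.nd (.lf 0) (.nd (.nd (.nd (.lf 29841) (.lf 0)) (.lf 0)) (.nd (.nd (.lf 264) (.lf 0)) (.lf 0)))) (.nd (.nd (.nd (.nd (.lf 27715) (.lf 0)) (.lf 0)) (.lf 0)) (.nd (.nd (.nd (.lf 31918) (.lf 0)) (.lf 0)) (.nd (.nd (.lf 280) (.lf 0)) (.lf 0))))) (.nd (.nd (.nd (.nd (.nd (.lf 208) (.lf 0)) (.lf 0)) (.lf 0)) (.nd (.nd (.nd (.lf 240) (.lf 0)) (.lf 0)) (.nd (.nd (.lf 35077) (.lf 0)) (.lf 0)))) (.nd (.nd (.nd (.nd (.lf 28799) (.lf 0)) (.lf 0)) (.lf 0)) (.nd (.nd (.nd (.lf 32963) (.lf 0)) (.lf 0)) (.lf 0))))) (.nd (.nd (.nd (.nd (.nd (.nd (.lf 204) (.lf 0)) (.lf 0)) (.lf 0)) (.nd (.nd (.nd (.lf 30354) (.lf 0)) (.lf 0)) (.nd (.nd (.lf 268) (.lf 0)) (.lf 0)))) (.nd (.nd (.nd (.nd (.lf 28285) (.lf 0)) (.lf 0)) (.lf 0)) (.nd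 (.nd (.nd (.lf 32449) (.lf 0)) (.lf 0)) (.nd (.nd (.lf 284) (.lf 0)) (.lf 0))))) (.nd (.nd (.nd (.nd (.nd (.lf 27201) (.lf 0)) (.lf 0)) (.lf 0)) (.nd (.nd (.nd (.lf 31405) (.lf 0)) (.lf 0)) (.nd (.nd (.lf 35591) (.lf 0)) (.lf 0)))) (.nd (.nd (.nd (.nd (.lf 228) (.lf 0)) (.lf 0)) (.lf 0)) (.lf 0)))))

/-- the rows -/
noncomputable def tabRow (x : Nat) : Trie :=
  (bif Nat.blt x 36 then (bif Nat.blt x 18 then (bif Nat.blt x 9 then (bif Nat.blt x 4 then (bif Nat.blt x 2 then (bif Nat.blt x 1 then tab0 else tab1) else (bif Nat.blt x 3 then tab2 else tab3)) else (bif Nat.blt x 6 then (bif Nat.blt x 5 then tab4 else tab5) else (bif Nat.blt x 7 then tab6 else (bif Nat.blt x 8 then tab7 else tab8)))) else (bif Nat.blt x 13 then (bif Nat.blt x 11 then (bif Nat.blt x 10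 then tab9 else tab10) else (bif Nat.blt x 12 then tab11 else tab12)) else (bif Nat.blt x 15 then (bif Nat.blt x 14 then tab13 else tab14) else (bif Nat.blt x 16 then tab15 else (bif Nat.blt x 17 then tab16 else tab17))))) else (bif Nat.blt x 27 then (bif Nat.blt x 22 then (bif Nat.blt x 20 then (bif Nat.blt x 19 then tab18 else tab19) else (bif Nat.blt x 21 then tab20 else tab21)) else (bif Nat.blt x 24 then (bif Nat.blt x 23 then tab22 else tab23) else (bif Nat.blt x 25 then tab24 else (bif Nat.blt x 26 then tab25 else tab26)))) else (bif Nat.blt x 31 then (bif Nat.blt x 29 then (bif Nat.blt x 28 then tab27 else tab28) else (bif Nat.blt x 30 then tab29 else tab30)) else (bif Nat.blt x 33 then (bif Nat.blt x 32 then tab31 else tab32) else (bif Nat.blt x 34 then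 tab33 else (bif Nat.blt x 35 then tab34 else tab35)))))) else (bif Nat.blt x 54 then (bif Nat.blt x 45 then (bif Nat.blt x 40 then (bif Nat.blt x 38 then (bif Nat.blt x 37 then tab36 else tab37) else (bif Nat.blt x 39 then tab38 else tab39)) else (bif Nat.blt x 42 then (bif Nat.blt x 41 then tab40 else tab41) else (bif Nat.blt x 43 then tab42 else (bif Nat.blt x 44 then tab43 else tab44)))) else (bif Nat.blt x 49 then (bif Nat.blt x 47 then (bif Nat.blt x 46 then tab45 else tab46) else (bif Nat.blt x 48 then tab47 else tab48)) else (bif Nat.blt x 51 then (bif Nat.blt x 50 then tab49 else tab50) else (bif Nat.blt x 52 then tab51 else (bif Nat.blt x 53 then tab52 else tab53))))) else (bif Nat.blt x 63 then (bif Nat.blt x 58 then (bif Nat.blt x 56 then (bif Nat.blt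 x 55 then tab54 else tab55) else (bif Nat.blt x 57 then tab56 else tab57)) else (bif Nat.blt x 60 then (bif Nat.blt x 59 then tab58 else tab59) else (bif Nat.blt x 61 then tab60 else (bif Nat.blt x 62 then tab61 else tab62)))) else (bif Nat.blt x 67 then (bif Nat.blt x 65 then (bif Nat.blt x 64 then tab63 else tab64) else (bif Nat.blt x 66 then tab65 else tab66)) else (bif Nat.blt x 69 then (bif Nat.blt x 68 then tab67 else tab68) else (bif Nat.blt x 70 then tab69 else (bif Nat.blt x 71 then tab70 else tab71)))))))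

end CfsgLib.Chev.E62Two
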