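import Cfsg.Agent.Lib.Chev.E62Two.Coll
import Cfsg.Agent.Lib.Chev.E62Two.TabData
import Cfsg.Agent.Lib.Chev.E62Two.ActData

/-!
The table of commutation rules of twisted E6 over two elements and the six transformations.
-/

set_option autoImplicit false
set_option maxRecDepth 100000

namespace CfsgLib.Chev.E62Two

open CfsgLib.KnownB.U62Mult

/-- unpack up to two numbers below `B - 1`, offset by one -/
noncomputable def dec2 (B v : ℕ) : List ℕ :=
  bif Nat.beq v 0 then []
  else bif Nat.beq (v / B) 0 then [v % B - 1]
  else [v % B - 1, v / B - 1]

/-- the orbit of a symbol -/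
noncomputable def so (l : ℕ) : ℕ := soT.get l
/-- the opposite orbit -/
noncomputable def oneg (o : ℕ) : ℕ := onegT.get o
/-- the first root of an orbit -/
noncomputable def orep (o : ℕ) : ℕ := repT.get o
/-- the second root of an orbit -/
noncomputable def orp (o : ℕ) : ℕ := rpT.get o
/-- the orbit is positive -/
noncomputable def posO (o : ℕ) : Bool := Nat.blt o 48 && Nat.ble 36 (orep o)
/-- the orbits in the commutators of two orbits -/
noncomputable def sums (o p : ℕ) : List ℕ := dec2 64 ((sumRow o).get p)
/-- an entry of the table -/
noncomputable def ent (x z : ℕ) : ℕ := (tabRow x).get z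
/-- allowed pairs -/
noncomputable def okP (x z : ℕ) : Bool :=
  Nat.blt x 72 && Nat.blt z 72 && !Nat.beq x z && !Nat.beq (so z) (oneg (so x))

/-- the table -/
noncomputable def tabE : Tab where
  ok := okP
  W x z := dec2 128 (ent x z / 4)
  D x z := ent x z % 4

/-- a transformation on orbits -/
noncomputable def sig (g o : ℕ) : ℕ := (sigRow g).get o
/-- a transformation on symbols -/
noncomputable def img (g l : ℕ) : List ℕ := dec2 128 ((imgRow g).get l / 4)
/-- the central part of a transformation -/
noncomputable def muG (g l : ℕ) : ℕ := (imgRow g).get l % 4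
/-- the image of a word -/
noncomputable def imgW (g : ℕ) (w : List ℕ) : List ℕ := w.flatMap (img g)
/-- the central part of the image of a word -/
noncomputable def muW (g : ℕ) : List ℕ → ℕ
  | [] => 0
  | l :: w => Nat.xor (muG g l) (muW g w)

/-- a transformation respects the rules at one symbol -/
noncomputable def genAt (g x : ℕ) : Bool :=
  tabE.eqc (img g x ++ img g x) [] 0 &&
    (List.range 72).all fun z => !okP x z ||
      tabE.eqc (imgW g [x, z]) (imgW g (z :: x :: tabE.W x z)) (Nat.xor (muW g (tabE.W x z)) (tabE.D x z))

/-- a transformation respects orbits -/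
noncomputable def sigChk (g : ℕ) : Bool :=
  (List.range 48).all fun o => Nat.blt (sig g o) 48 && Nat.beq (sig g (oneg o)) (oneg (sig g o)) &&
    (List.range 48).all fun p => (Nat.beq o p || !Nat.beq (sig g o) (sig g p)) &&
      (sums o p).all fun q => (sums (sig g o) (sig g p)).contains (sig g q)

/-- the letters of a transformed symbol -/
noncomputable def imgChk (g : ℕ) : Bool :=
  (List.range 72).all fun l => (img g l).all fun m => Nat.blt m 72 && Nat.beq (so m) (sig g (so l))

/-- the basic facts of the table -/
noncomputable def tabChk : Bool :=
  ((List.range 72).all fun x => Nat.blt (so x) 48 && (List.range 72).all fun z => !okP x z ||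
      (tabE.W x z).all fun l => Nat.blt l 72 && (sums (so x) (so z)).contains (so l)) &&
    ((List.range 48).all fun o => Nat.blt (oneg o) 48 && Nat.beq (oneg (oneg o)) o &&
      (posO o == !posO (oneg o)) &&
      (List.range 48).all fun p => (sums o p).all fun q => Nat.blt q 48 && (!(posO o && posO p) || posO q)) &&
    ((List.range 72).all fun l => (posL.contains l) == posO (so l))

theorem tabChk_true : tabChk = true := by decide +kernel

theorem sigChk_true : ∀ g < 6, sigChk g = true ∧ imgChk g = true := by decide +kernel

theorem tri_posL : tabE.tri posL = true := by decide +kernel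

end CfsgLib.Chev.E62Two
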