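import Cfsg.Agent.Lib.Chev.E62Two.UGen
import Cfsg.Agent.Lib.Chev.E62Two.GenChecks

/-!
The monomial group transports systems of elements satisfying the rules.
-/

set_option autoImplicit false
set_option maxRecDepth 100000

namespace CfsgLib.Chev.E62Two

open Cfsg.Lie Matrix CfsgLib.Chev

/-- the symbols of a set of orbits -/
def inR (R : ℕ → Prop) (l : ℕ) : Prop := l < 72 ∧ R (so l)

/-- a set of orbits closed under the commutators -/
def RCl (R : ℕ → Prop) : Prop := (∀ o, R o → o < 48) ∧ ∀ o p, R o → R p → ∀ q ∈ sums o p, R q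

/-- a permutation of orbits respecting commutators and opposites -/
def Compat (s : ℕ → ℕ) : Prop :=
  ∀ o < 48, s o < 48 ∧ s (oneg o) = oneg (s o) ∧
    ∀ p < 48, (s o = s p → o = p) ∧ ∀ q ∈ sums o p, s q ∈ sums (s o) (s p)

/-- the preimage of a set of orbits -/
def pre (R : ℕ → Prop) (s : ℕ → ℕ) (o : ℕ) : Prop := o < 48 ∧ R (s o)

theorem RCl.closed {R : ℕ → Prop} (h : RCl R) : Closed tabE (inR R) := by
  intro x z hx hz ho l hl
  have := (tab_spec.1 x hx.1).2 z hz.1 ho l hl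
  exact ⟨this.1, h.2 _ _ hx.2 hz.2 _ this.2⟩

theorem RCl.preimage {R : ℕ → Prop} (h : RCl R) {s : ℕ → ℕ} (hs : Compat s) : RCl (pre R s) :=
  ⟨fun _ ho => ho.1, fun o p ho hp q hq => ⟨((tab_spec.2.1 o ho.1).2.2.2 p hp.1 q hq).1,
    h.2 _ _ ho.2 hp.2 _ (((hs o ho.1).2.2 p hp.1).2 q hq)⟩⟩

theorem compat_id : Compat id := fun o ho => ⟨ho, rfl, fun p _ => ⟨id, fun _ h => h⟩⟩

theorem Compat.comp {s t : ℕ → ℕ} (hs : Compat s) (ht : Compat t) : Compat (s ∘ t) := fun o ho => by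
  obtain ⟨h1, h2, h3⟩ := ht o ho
  obtain ⟨g1, g2, g3⟩ := hs (t o) h1
  refine ⟨g1, by simp only [Function.comp_apply]; rw [h2, g2], fun p hp => ?_⟩
  obtain ⟨k1, -, -⟩ := ht p hp
  exact ⟨fun e => (h3 p hp).1 ((g3 (t p) k1).1 e), fun q hq => (g3 (t p) k1).2 _ ((h3 p hp).2 q hq)⟩

variable {K : Type*} [Field K] {σ : K →+* K} (P : W4 K σ)

/-- the root group of an orbit -/
noncomputable def W4.xO (o : ℕ) : Subgroup ↥(E62.tw σ).fix :=
  Subgroup.closure (P.rt '' {m | m < 72 ∧ so m = o})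

/-- an element of the monomial group transports the rules -/
def Tr (x : ↥(E62.tw σ).fix) : Prop :=
  ∃ s : ℕ → ℕ, Compat s ∧ (∀ l < 72, x * P.rt l * x⁻¹ ∈ P.xO (s (so l))) ∧
    ∀ (Y : Type) [Group Y] (c : Cen Y) (y : ℕ → Y) (π₀ : Y →* ↥(E62.tw σ).fix) (R : ℕ → Prop), RCl R →
      Rel tabE c y (inR R) → (∀ a, π₀ (c.ι a) = 1) → (∀ l, inR R l → π₀ (y l) = P.rt l) →
      ∃ y' : ℕ → Y, Rel tabE c y' (inR (pre R s)) ∧ ∀ l, inR (pre R s) l → π₀ (y' l) = x * P.rt l * x⁻¹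

theorem tr_one : Tr P 1 := by
  refine ⟨id, compat_id, fun l hl => ?_, fun Y _ c y π₀ R _ hR hι hy => ?_⟩
  · show 1 * P.rt l * 1⁻¹ ∈ P.xO (so l)
    rw [one_mul, inv_one, mul_one]
    exact Subgroup.subset_closure ⟨l, ⟨hl, rfl⟩, rfl⟩
  · exact ⟨y, hR.mono _ fun l hl => ⟨hl.1, hl.2.2⟩, fun l hl => by simp [hy l ⟨hl.1, hl.2.2⟩]⟩

theorem Tr.mul {x₂ x₁ : ↥(E62.tw σ).fix} (h₂ : Tr P x₂) (h₁ : Tr P x₁) : Tr P (x₂ * x₁) := by
  obtain ⟨s, hs, hsx, hst⟩ := h₂
  obtain ⟨t, ht, htx, htt⟩ := h₁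
  refine ⟨s ∘ t, hs.comp ht, fun l hl => ?_, fun Y _ c y π₀ R hcl hR hι hy => ?_⟩
  · have h := htx l hl
    have hle : P.xO (t (so l)) ≤ (P.xO (s (t (so l)))).comap (MulAut.conj x₂).toMonoidHom := by
      rw [W4.xO, Subgroup.closure_le]
      rintro _ ⟨m, ⟨hm, hmo⟩, rfl⟩
      show x₂ * P.rt m * x₂⁻¹ ∈ P.xO (s (t (so l)))
      rw [← hmo]
      exact hsx m hm
    have := hle h
    show x₂ * x₁ * P.rt l * (x₂ * x₁)⁻¹ ∈ P.xO (s (t (so l)))
    rw [show x₂ * x₁ * P.rt l * (x₂ * x₁)⁻¹ = x₂ * (x₁ * P.rt l * x₁⁻¹) * x₂⁻¹ by group]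
    exact this
  · obtain ⟨y', hR', hy'⟩ := hst Y c y π₀ R hcl hR hι hy
    obtain ⟨y'', hR'', hy''⟩ := htt Y c y' ((MulAut.conj x₂⁻¹).toMonoidHom.comp π₀) (pre R s) (hcl.preimage hs) hR'
      (fun a => by simp [hι]) fun l hl => by
        show x₂⁻¹ * π₀ (y' l) * x₂⁻¹⁻¹ = _
        rw [hy' l hl]; group
    have hsub : ∀ l, inR (pre R (s ∘ t)) l → inR (pre (pre R s) t) l := fun l hl =>
      ⟨hl.1, hl.2.1, (ht _ hl.2.1).1, hl.2.2⟩
    refine ⟨y'', hR''.mono _ hsub, fun l hl => ?_⟩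
    have h : x₂⁻¹ * π₀ (y'' l) * x₂⁻¹⁻¹ = x₁ * P.rt l * x₁⁻¹ := hy'' l (hsub l hl)
    calc π₀ (y'' l) = x₂ * (x₂⁻¹ * π₀ (y'' l) * x₂⁻¹⁻¹) * x₂⁻¹ := by group
      _ = _ := by rw [h]; group

theorem img_spec {g : ℕ} (hg : g < 6) : Compat (sig g) ∧
    ∀ l < 72, ∀ m ∈ img g l, m < 72 ∧ so m = sig g (so l) := by
  obtain ⟨h1, h2⟩ := sigChk_true g hg
  simp only [sigChk, imgChk, List.all_eq_true, List.mem_range, Bool.and_eq_true, Bool.or_eq_true,
    Bool.not_eq_true', Nat.blt_eq, Nat.beq_eq, List.contains_iff_mem] at h1 h2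
  refine ⟨fun o ho => ⟨(h1 o ho).1.1, (h1 o ho).1.2, fun p hp => ⟨fun e => ?_, ((h1 o ho).2 p hp).2⟩⟩, h2⟩
  rcases ((h1 o ho).2 p hp).1 with h | h
  · exact h
  · simp [e] at h

theorem genAt_spec {g x : ℕ} (hg : g < 6) (hx : x < 72) : genAt g x = true := by
  have h : genChk g = true := by
    rcases (by omega : g = 0 ∨ g = 1 ∨ g = 2 ∨ g = 3 ∨ g = 4 ∨ g = 5) with rfl | rfl | rfl | rfl | rfl | rfl
    exacts [genChk0, genChk1, genChk2, genChk3, genChk4, genChk5]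
  exact List.all_eq_true.1 h x (List.mem_range.2 hx)

theorem tr_gen {g : ℕ} (hg : g < 6) : Tr P ⟨P.gen g, gen_fix P⟩ := by
  obtain ⟨hcs, him⟩ := img_spec hg
  have hval : ∀ l < 72, (⟨P.gen g, gen_fix P⟩ : ↥(E62.tw σ).fix) * P.rt l * ⟨P.gen g, gen_fix P⟩⁻¹ =
      ev P.rt (img g l) := fun l hl => Subtype.ext (by
    rw [ev_rt_val P fun m hm => (him l hl m hm).1, Subgroup.coe_mul, Subgroup.coe_mul, Subgroup.coe_inv,
      rt_val P hl]
    exact gen_conj P hg hl)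
  refine ⟨sig g, hcs, fun l hl => ?_, fun Y _ c y π₀ R hcl hR hι hy => ?_⟩
  · rw [hval l hl]
    exact ev_mem _ fun m hm => Subgroup.subset_closure ⟨m, him l hl m hm, rfl⟩
  · let y' : ℕ → Y := fun l => c.ι (muG g l) * ev y (img g l)
    have hin : ∀ l, inR (pre R (sig g)) l → ∀ m ∈ img g l, inR R m := fun l hl m hm =>
      ⟨(him l hl.1 m hm).1, by rw [(him l hl.1 m hm).2]; exact hl.2.2⟩
    have hw : ∀ w : List ℕ, ev y' w = c.ι (muW g w) * ev y (imgW g w) := by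
      intro w
      induction w with
      | nil => simp [muW, imgW, c.zero]
      | cons a w ih =>
        have e : imgW g (a :: w) = img g a ++ imgW g w := by simp [imgW]
        rw [ev_cons, ih, e, ev_append, muW, show Nat.xor (muG g a) (muW g w) = muG g a ^^^ muW g w from rfl, c.xor]
        simp only [y']
        rw [← mul_assoc (c.ι (muG g a) * ev y (img g a)), mul_assoc (c.ι (muG g a)) (ev y (img g a)),
          c.comm (muW g w) (ev y (img g a))]
        group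
    have hS := hcl.closed
    have hcl' : Closed tabE (inR (pre R (sig g))) := (hcl.preimage hcs).closed
    refine ⟨y', ⟨fun l hl => ?_, fun x z hx hz ho => ?_⟩, fun l hl => ?_⟩
    · have hk := genAt_spec hg hl.1
      simp only [genAt, Bool.and_eq_true] at hk
      have e := eqc_spec hR hS (fun m hm => by
        rcases List.mem_append.1 hm with h | h <;> exact hin l hl m h) (by simp) hk.1
      rw [ev_append, ev_nil, c.zero, mul_one] at e
      show c.ι (muG g l) * ev y (img g l) * (c.ι (muG g l) * ev y (img g l)) = 1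
      rw [mul_assoc, ← mul_assoc (ev y _), c.comm, mul_assoc (c.ι _) (ev y _), e, mul_one, c.sq]
    · have hk := genAt_spec hg hx.1
      simp only [genAt, Bool.and_eq_true, List.all_eq_true, List.mem_range, Bool.or_eq_true, Bool.not_eq_true'] at hk
      rcases hk.2 z hz.1 with h | h
      · rw [show okP x z = true from ho] at h; exact absurd h (by simp)
      have hW : ∀ m ∈ tabE.W x z, inR (pre R (sig g)) m := hcl' x z hx hz ho
      have hmem : ∀ w : List ℕ, (∀ m ∈ w, inR (pre R (sig g)) m) → ∀ m ∈ imgW g w, inR R m := fun w hwm m hm => by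
        obtain ⟨a, ha, hm⟩ := List.mem_flatMap.1 hm
        exact hin a (hwm a ha) m hm
      have e := eqc_spec hR hS (hmem [x, z] (fun m hm => by
        simp only [List.mem_cons, List.not_mem_nil, or_false] at hm
        rcases hm with rfl | rfl <;> assumption))
        (hmem (z :: x :: tabE.W x z) (fun m hm => by
          simp only [List.mem_cons] at hm
          rcases hm with rfl | rfl | hm
          exacts [hz, hx, hW m hm])) h
      have e1 := hw [x, z]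
      have e2 := hw (z :: x :: tabE.W x z)
      simp only [ev_cons, ev_nil, mul_one] at e1 e2
      rw [e1, mul_assoc (y' z), e2, e, show Nat.xor (muW g (tabE.W x z)) (tabE.D x z) =
        muW g (tabE.W x z) ^^^ tabE.D x z from rfl, c.xor]
      have m2 : muW g (z :: x :: tabE.W x z) = muW g [x, z] ^^^ muW g (tabE.W x z) := by
        simp only [muW]
        show muG g z ^^^ (muG g x ^^^ muW g (tabE.W x z)) = muG g x ^^^ (muG g z ^^^ 0) ^^^ muW g (tabE.W x z)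
        rw [Nat.xor_zero, ← Nat.xor_assoc, Nat.xor_comm (muG g z)]
      rw [m2, c.xor, mul_assoc (c.ι (muW g [x, z]))]
      rw [show ∀ E : Y, c.ι (muW g [x, z]) * (c.ι (muW g (tabE.W x z)) * E) * c.ι (tabE.D x z) =
        c.ι (muW g [x, z]) * (c.ι (muW g (tabE.W x z)) * E * c.ι (tabE.D x z)) from fun E => by group]
      congr 1
      rw [← c.comm (muW g (tabE.W x z)) (ev y (imgW g (z :: x :: tabE.W x z))), mul_assoc]
    · show π₀ (c.ι (muG g l) * ev y (img g l)) = _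
      rw [map_mul, hι, one_mul, map_ev, hval l hl.1]
      exact ev_congr _ fun m hm => hy m (hin l hl m hm)

variable [Fintype K]

theorem tr_mono (hK : Fintype.card K = 4) {w : List ℕ} (hw : ∀ j ∈ w, j < foldE62.num) {t : GL chevE6.Idx K}
    (ht : t ∈ chevE6.diagonalSubgroup K ⊓ (E62.tw σ).fix)
    (hm : t * nW K stdE6.good (foldE62.flat w) ∈ (E62.tw σ).fix) :
    Tr P ⟨t * nW K stdE6.good (foldE62.flat w), hm⟩ := by
  have hσ : ∀ x, σ x = x ^ 2 := fun x => by rw [P.frob, sq]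
  have hpow : ∀ (g : ℕ), g < 6 → ∀ n : ℕ, Tr P ((⟨P.gen g, gen_fix P⟩ : ↥(E62.tw σ).fix) ^ n) := fun g hg n => by
    induction n with
    | zero => rw [pow_zero]; exact tr_one P
    | succ n ih => rw [pow_succ]; exact ih.mul P (tr_gen P hg)
  have hword : ∀ (w : List ℕ), (∀ j ∈ w, j < foldE62.num) → ∀ h : nW K stdE6.good (foldE62.flat w) ∈ (E62.tw σ).fix,
      Tr P ⟨_, h⟩ := by
    intro w
    induction w with
    | nil => intro _ h; convert tr_one P; simp [Fold.flat, nW]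
    | cons j w ih =>
      intro hw h
      have hj := hw j (List.mem_cons_self ..)
      have hw' : ∀ i ∈ w, i < foldE62.num := fun i hi => hw i (List.mem_cons_of_mem _ hi)
      have e : (⟨_, h⟩ : ↥(E62.tw σ).fix) = ⟨P.gen j, gen_fix P⟩ * ⟨_, (E62.tw σ).nFlat_fix hw'⟩ := Subtype.ext (by
        show nW K stdE6.good (foldE62.flat (j :: w)) = P.gen j * nW K stdE6.good (foldE62.flat w)
        rw [W4.gen, if_pos (show j < 4 from hj)]
        simp [Fold.flat, nW, Twist.nJ])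
      rw [e]
      exact (tr_gen P (show j < 6 by have : j < 4 := hj; omega)).mul P (ih hw' _)
  have hm' := (E62.tw σ).nFlat_fix hw
  have e : (⟨_, hm⟩ : ↥(E62.tw σ).fix) = ⟨t, ht.2⟩ * ⟨_, hm'⟩ := rfl
  rw [e]
  refine Tr.mul P ?_ (hword w hw hm')
  obtain ⟨c, hc, hct⟩ : t ∈ (E62.tw σ).thetaFix.map (tor chevE6 auxE6) := by
    rw [← E62.diag_eq hσ (show Fintype.card K = 2 ^ 2 from hK)]; exact ht
  obtain ⟨h1, h3, h0, h2, -, -⟩ := (E62.thetaFix_iff c).1 hc
  have hone : ∀ u : Kˣ, σ (u : K) = u → u = 1 := fun u hu => by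
    rw [P.frob] at hu
    exact Units.ext (mul_left_cancel₀ u.ne_zero (hu.trans (mul_one _).symm))
  have hpw : ∀ u : Kˣ, ∃ n : ℕ, u = P.w ^ n := fun u => by
    obtain ⟨k, hk, e⟩ := P.exists_code hK (u : K)
    interval_cases k
    · exact absurd e.symm u.ne_zero
    · exact ⟨0, Units.ext (by simpa [W4.cv] using e.symm)⟩
    · exact ⟨1, Units.ext (by simpa [W4.cv] using e.symm)⟩
    · exact ⟨2, Units.ext (by simpa [W4.cv, sq, P.ww] using e.symm)⟩
  obtain ⟨n, hn⟩ := hpw (c (E62.ix 0))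
  obtain ⟨m, hm2⟩ := hpw (c (E62.ix 2))
  have hs : ∀ a b : Kˣ, σ (a : K) = b → b = a ^ 2 := fun a b h => Units.ext (by
    rw [← h, P.frob, Units.val_pow_eq_pow_val, sq])
  have ec : c = (![P.w, 1, 1, 1, 1, P.w ^ 2] : Fin 6 → Kˣ) ^ n * (![1, 1, P.w, 1, P.w ^ 2, 1] : Fin 6 → Kˣ) ^ m := by
    have key : ∀ k : Fin 6, c (E62.ix k) =
        ((![P.w, 1, 1, 1, 1, P.w ^ 2] : Fin 6 → Kˣ) ^ n * (![1, 1, P.w, 1, P.w ^ 2, 1] : Fin 6 → Kˣ) ^ m) k := by
      intro k
      fin_cases k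
      · simp [hn]
      · simp [hone _ h1]
      · simp [hm2]
      · simp [hone _ h3]
      · simp [hs _ _ h2, hm2, ← pow_mul, mul_comm]
      · simp [hs _ _ h0, hn, ← pow_mul, mul_comm]
    exact funext key
  have et : (⟨t, ht.2⟩ : ↥(E62.tw σ).fix) = ⟨P.gen 4, gen_fix P⟩ ^ n * ⟨P.gen 5, gen_fix P⟩ ^ m := Subtype.ext (by
    show t = P.gen 4 ^ n * P.gen 5 ^ m
    rw [← hct, ec]
    refine (map_mul _ _ _).trans ?_
    congr 1
    · refine (map_pow _ _ _).trans ?_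
      rw [W4.gen, if_neg (by norm_num), if_pos rfl]
    · refine (map_pow _ _ _).trans ?_
      rw [W4.gen, if_neg (by norm_num), if_neg (by norm_num)])
  rw [et]
  exact (hpow 4 (by norm_num) n).mul P (hpow 5 (by norm_num) m)

end CfsgLib.Chev.E62Two
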