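import Cfsg.Agent.Lib.Chev.E62Two.RootGroup
import Cfsg.Agent.Lib.Chev.E62Mult.Chain

/-!
The positive root elements generate the unipotent part, which meets the opposite part trivially.
-/

set_option autoImplicit false
set_option maxRecDepth 100000

namespace CfsgLib.Chev.E62Two

open Cfsg.Lie Matrix CfsgLib.Chev CfsgLib.KnownB.U62Mult

variable {K : Type*} [Field K] {σ : K →+* K} (P : W4 K σ)

/-- the positive unipotent part of the fixed group -/
noncomputable def uPos (K : Type*) [Field K] (σ : K →+* K) : Subgroup ↥(E62.tw σ).fix :=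
  (chevE6.posUnipotent K).subgroupOf (E62.tw σ).fix

/-- the negative unipotent part of the fixed group -/
noncomputable def uNeg (K : Type*) [Field K] (σ : K →+* K) : Subgroup ↥(E62.tw σ).fix :=
  (chevE6.negUnipotent K).subgroupOf (E62.tw σ).fix

/-- the symbols of a block parameter -/
noncomputable def blkSym (i c : ℕ) : List ℕ :=
  posL.filter fun l => Nat.beq (so l) (orbT.get (E62Mult.top i)) && Nat.testBit c (sc l - 1)

/-- the block elements are words in the symbols -/
noncomputable def blkSymChk : Bool :=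
  (List.range 24).all fun i => match E62Mult.blk i with
    | [(a, s)] => decide (s = 1) && eqc6 [(a, 1)] (elts (blkSym i 1))
    | [(a, s), (b, s')] => decide (s = 1 ∧ (s' = 1 ∨ s' = -1)) &&
        (List.range 4).all fun c => eqc6 [(a, c), (b, mulc c c)] (elts (blkSym i c))
    | _ => false

theorem blkSymChk_true : blkSymChk = true := by decide +kernel

theorem W4.exists_code [Fintype K] (hK : Fintype.card K = 4) (t : K) : ∃ c < 4, P.cv c = t := by
  classical
  let f : Fin 4 → K := fun c => P.cv c.val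
  have hinj : Function.Injective f := by
    intro a b e
    have h1 : ∀ c : Fin 4, P.cv c.val = 0 → c = 0 := by
      intro c hc
      have hw0 : (P.w : K) ≠ 0 := P.w.ne_zero
      fin_cases c
      · rfl
      · simp [W4.cv] at hc
      · simp [W4.cv] at hc
      · exfalso
        simp [W4.cv] at hc
        have h := P.ww
        rw [hc, mul_eq_zero] at h
        exact hw0 (h.elim id id)
    have e' : P.cv (Nat.xor a.val b.val) = 0 := by
      rw [P.cv_xor a.2 b.2, show P.cv a.val = P.cv b.val from e]
      linear_combination (P.cv b.val) * P.two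
    have := h1 ⟨Nat.xor a.val b.val, Nat.xor_lt_two_pow (n := 2) a.2 b.2⟩ e'
    exact Fin.ext (Nat.xor_eq_zero_iff.1 (congrArg Fin.val this))
  obtain ⟨c, hc⟩ := ((Fintype.bijective_iff_injective_and_card f).2 ⟨hinj, by rw [Fintype.card_fin, hK]⟩).2 t
  exact ⟨c, c.2, hc⟩

theorem posL_lt : ∀ l ∈ posL, l < 72 := by decide

theorem rt_mem_uPos {l : ℕ} (hl : l < 72) (hp : posO (so l) = true) : P.rt l ∈ uPos K σ := by
  rw [uPos, Subgroup.mem_subgroupOf, rt_val P hl, W4.rtGL, W4.ev6]
  refine Subgroup.list_prod_mem _ fun y hy => ?_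
  obtain ⟨p, hpm, rfl⟩ := List.mem_map.1 hy
  have := ((sym_spec hl).2.1 p hpm).2.2
  rw [hp] at this
  rw [posUnipotent_eq stdE6.good]
  exact Subgroup.subset_closure ⟨p.1, _, of_decide_eq_true this, rfl⟩

theorem rt_mem_uNeg {l : ℕ} (hl : l < 72) (hp : posO (so l) = false) : P.rt l ∈ uNeg K σ := by
  rw [uNeg, Subgroup.mem_subgroupOf, rt_val P hl, W4.rtGL, W4.ev6]
  refine Subgroup.list_prod_mem _ fun y hy => ?_
  obtain ⟨p, hpm, rfl⟩ := List.mem_map.1 hy
  have := ((sym_spec hl).2.1 p hpm).2.2
  rw [hp] at this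
  exact xG_mem_negUnipotent stdE6.good (of_decide_eq_true this) _

theorem uPos_inf_uNeg {y : ↥(E62.tw σ).fix} (h1 : y ∈ uPos K σ) (h2 : y ∈ uNeg K σ) : y = 1 := by
  have h : (y : GL chevE6.Idx K) ∈ chevE6.borelSubgroup K ⊓ chevE6.negUnipotent K := ⟨pos_le_borel h1, h2⟩
  rw [borel_inf_negUnipotent stdE6, Subgroup.mem_bot] at h
  exact Subtype.ext h

variable [Fintype K]

theorem uPos_eq (hK : Fintype.card K = 4) :
    uPos K σ = Sp (Cen.trivial ↥(E62.tw σ).fix) P.rt posL := by
  have hσ : ∀ x, σ x = x ^ 2 := fun x => by rw [P.frob, sq]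
  have hK2 : Fintype.card K = 2 ^ 2 := hK
  refine le_antisymm ?_ (Sp_le (fun a => one_mem _) fun l hl => rt_mem_uPos P (posL_lt l hl) ?_)
  swap
  · rw [← tab_spec.2.2 l (posL_lt l hl)]
    exact List.contains_iff_mem.2 hl
  have hchk := blkSymChk_true
  simp only [blkSymChk, List.all_eq_true, List.mem_range] at hchk
  have key : ∀ n i, i + n = 24 → E62Mult.Ug σ i ≤ Sp (Cen.trivial ↥(E62.tw σ).fix) P.rt posL := by
    intro n
    induction n with
    | zero => intro i hi; rw [show i = 24 by omega, E62Mult.Ug_last]; exact bot_le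
    | succ n ih =>
      intro i hi v hv
      have hi' : i < 24 := by omega
      obtain ⟨t, ht, hv'⟩ := E62Mult.blk_split hσ hK2 hi' hv
      have h2 := ih (i + 1) (by omega) hv'
      suffices hm : E62Mult.mI hσ hK2 i hi' t ∈ Sp (Cen.trivial ↥(E62.tw σ).fix) P.rt posL by
        have := mul_mem hm h2
        rwa [mul_inv_cancel_left] at this
      have fin : ∀ w : List ℕ, (∀ l ∈ w, l ∈ posL) → P.ev6 (elts w) = E62Mult.M σ (E62Mult.blk i) t →
          E62Mult.mI hσ hK2 i hi' t ∈ Sp (Cen.trivial ↥(E62.tw σ).fix) P.rt posL := fun w hw e => by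
        have : E62Mult.mI hσ hK2 i hi' t = ev P.rt w := Subtype.ext (by
          rw [E62Mult.mI_val hσ hK2 hi' ht, ev_rt_val P fun l hl => posL_lt l (hw l hl), e])
        rw [this]
        exact ev_mem _ fun l hl => y_mem _ _ _ (hw l hl)
      have hsub : ∀ c, ∀ l ∈ blkSym i c, l ∈ posL := fun c l hl => (List.mem_filter.1 hl).1
      obtain ⟨c, hc, rfl⟩ := P.exists_code hK t
      have hb := hchk i hi'
      split at hb
      · next a s e =>
        simp only [Bool.and_eq_true, decide_eq_true_eq] at hb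
        obtain ⟨rfl, hb⟩ := hb
        have hfix : σ (P.cv c) = P.cv c := ht (by rw [e]; rfl)
        have hc01 : P.cv c = 0 ∨ P.cv c = 1 := by
          rw [P.frob] at hfix
          rcases mul_eq_zero.1 (show P.cv c * (P.cv c - 1) = 0 by linear_combination hfix) with h | h
          exacts [Or.inl h, Or.inr (sub_eq_zero.1 h)]
        rcases hc01 with h | h
        · exact fin [] (by simp) (by rw [e, h]; simp [E62Mult.M, TwSub.orbE, xG_zero, elts, W4.ev6])
        · refine fin _ (hsub 1) ?_
          rw [← eqc6_spec P hb, e, h]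
          simp [E62Mult.M, TwSub.orbE, W4.ev6, W4.cv]
      · next a s b s' e =>
        simp only [Bool.and_eq_true, decide_eq_true_eq, List.all_eq_true, List.mem_range] at hb
        obtain ⟨⟨rfl, hs'⟩, hb⟩ := hb
        refine fin _ (hsub c) ?_
        rw [← eqc6_spec P (hb c hc), e]
        simp [E62Mult.M, TwSub.orbE, W4.ev6, cast_unit P.two hs', P.cv_frob hc]
      · exact absurd hb (by simp)
  intro y hy
  refine key 24 0 rfl ?_
  rw [E62Mult.Ug_zero]
  exact hy

end CfsgLib.Chev.E62Two
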