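import Cfsg.Agent.Lib.Chev.E62Two.Cover
import Cfsg.Agent.Lib.Chev.E62Two.Bound
import Cfsg.Agent.Lib.Chev.E62Mult.Prime
import Cfsg.Agent.Lib.Schur.TransferKill

/-!
The kernel of a stem extension of the twisted group of type E6 over two elements.
-/

set_option autoImplicit false
set_option maxRecDepth 100000

namespace CfsgLib.Chev.E62Two

open Cfsg.Lie Matrix CfsgLib.Chev CfsgLib.Schur
open scoped commutatorElement

universe u

variable {K : Type u} [Field K] [Fintype K] {σ : K →+* K}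

theorem commutator_central {H : Type*} [Group H] {g h c d : H} (hc : ∀ v, c * v = v * c)
    (hd : ∀ v, d * v = v * d) : (h * d * (g * c))⁻¹ * (g * c * (h * d)) = (h * g)⁻¹ * (g * h) := by
  have hc' : ∀ v, c⁻¹ * v = v * c⁻¹ := fun v => by
    rw [inv_mul_eq_iff_eq_mul, ← mul_assoc, hc, mul_inv_cancel_right]
  calc (h * d * (g * c))⁻¹ * (g * c * (h * d))
      = (c⁻¹ * g⁻¹) * d⁻¹ * h⁻¹ * g * (c * (h * d)) := by group
    _ = g⁻¹ * c⁻¹ * d⁻¹ * h⁻¹ * g * (h * d * c) := by rw [hc' g⁻¹, hc (h * d)]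
    _ = g⁻¹ * (c⁻¹ * (d⁻¹ * h⁻¹ * g * h * d)) * c := by group
    _ = g⁻¹ * (d⁻¹ * (h⁻¹ * g * h * d)) := by rw [hc']; group
    _ = g⁻¹ * (d⁻¹ * (d * (h⁻¹ * g * h))) := by rw [hd]
    _ = _ := by group

theorem ker_bound (P : W4 K σ) (hK : Fintype.card K = 4) {Γ : Type*} [Group Γ] [Finite Γ]
    (π : Γ →* ↥(E62.tw σ).fix) (hs : Cfsg.IsStemExtension π) :
    ∃ z₁ ∈ π.ker, ∃ z₂ ∈ π.ker, z₁ ^ 2 = 1 ∧ z₂ ^ 2 = 1 ∧
      ∃ N : Subgroup π.ker, (∀ k : π.ker, k ∈ N ↔ (k : Γ) ∈ Subgroup.zpowers z₁ ⊔ Subgroup.zpowers z₂) ∧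
        (N.index = 1 ∨ N.index = 3) := by
  classical
  have hσ : ∀ x, σ x = x ^ 2 := fun x => by rw [P.frob, sq]
  have hK2 : Fintype.card K = 2 ^ 2 := hK
  haveI : Fact (Nat.Prime 2) := ⟨Nat.prime_two⟩
  haveI : CharP K 2 := CharTwo.of_one_ne_zero_of_two_eq_zero one_ne_zero P.two
  haveI : Finite (GL chevE6.Idx K) := finite_GL
  obtain ⟨hsurj, hc, hst⟩ := hs
  choose b hb using fun l => hsurj (P.rt l)
  obtain ⟨hg, hA0, hB0, hsq0, hsq1, hv0, hv1, hfull⟩ := bound_spec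
  choose gx gz hgo hgc hgW using hg
  let a : ℕ → Γ := fun l =>
    if hl : l < 72 then (b (gz l hl) * b (gx l hl))⁻¹ * (b (gx l hl) * b (gz l hl)) else 1
  have hR := rel_rt P
  have hok : ∀ {x z}, okP x z = true → x < 72 ∧ z < 72 := fun h => by
    simp only [okP, Bool.and_eq_true, Nat.blt_eq] at h
    exact ⟨h.1.1.1, h.1.1.2⟩
  have hπa : ∀ l < 72, π (a l) = P.rt l := fun l hl => by
    obtain ⟨h1, h2⟩ := hok (hgo l hl)
    have e := hR.comm _ _ h1 h2 (hgo l hl)
    simp only [a, dif_pos hl, map_mul, map_inv, hb]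
    rw [e, hgW, ev_cons, ev_nil, mul_one]
    simp [Cen.trivial]
    try group
  have hπev : ∀ w : List ℕ, (∀ l ∈ w, l < 72) → π (ev a w) = ev P.rt w := fun w hw => by
    rw [map_ev]; exact ev_congr _ fun l hl => hπa l (hw l hl)
  have hker : ∀ k, vOK k = true → dv a k ∈ π.ker := by
    intro k hk
    rw [MonoidHom.mem_ker]
    cases e : Nat.blt k 5184 <;> simp only [vOK, e, cond_false, cond_true] at hk <;>
      simp only [dv, e, cond_false, cond_true]
    · have : ¬ k < 5184 := fun h => by rw [← Nat.blt_eq, e] at h; exact absurd h (by simp)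
      rw [Nat.blt_eq] at hk
      rw [map_mul, hπa _ (by omega), hR.sq _ (show k - 5184 < 72 by omega)]
    · obtain ⟨h1, h2⟩ := hok hk
      rw [map_mul, map_inv, map_mul, map_mul, map_mul, hπev _ fun l hl => ((tab_spec.1 _ h1).2 _ h2 hk l hl).1,
        hπa _ h1, hπa _ h2, hR.comm _ _ h1 h2 hk]
      simp [Cen.trivial]
      try group
  have hcen : Central a := fun k hk => hc (hker k hk)
  have hA : Holds a knownA_0 := by
    rw [← hA0]
    refine holds_fold _ 0 (fun k hk => ?_) fun k hk => ?_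
    · obtain ⟨i, hi, rfl⟩ := List.getElem_of_mem hk
      have hi' : i < 72 := lt_of_lt_of_le hi (le_of_eq (by rfl))
      have e := hgc i hi'
      rw [List.getD_eq_getElem _ _ hi] at e
      obtain ⟨hx, hz⟩ := hok (hgo i hi')
      rw [e, dv_pair (hgo i hi'), hgW, ev_cons, ev_nil, mul_one]
      have hcm : ∀ l < 72, ∃ c, (∀ v : Γ, c * v = v * c) ∧ a l = b l * c := fun l hl =>
        ⟨(b l)⁻¹ * a l, fun v => ((Subgroup.mem_center_iff.1 (hc (show π ((b l)⁻¹ * a l) = 1 by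
          rw [map_mul, map_inv, hb, hπa l hl, inv_mul_cancel])) v)).symm, by group⟩
      obtain ⟨c, hc1, hc2⟩ := hcm _ hx
      obtain ⟨d, hd1, hd2⟩ := hcm _ hz
      have hai : a i = (b (gz i hi') * b (gx i hi'))⁻¹ * (b (gx i hi') * b (gz i hi')) := by simp only [a, dif_pos hi']
      rw [hc2, hd2, _root_.mul_inv_rev, mul_assoc, commutator_central hc1 hd1, ← hai, inv_mul_cancel]
    · simp [hasB, Nat.shiftRight_eq'] at hk
  have hA' := chainA hcen hA
  set z₁ := dv a base0.1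
  set z₂ := dv a base1.1
  have hz₁ : z₁ ^ 2 = 1 := step_spec hcen hsq0 hA'
  have hz₂ : z₂ ^ 2 = 1 := step_spec hcen hsq1 hA'
  refine ⟨z₁, hker _ hv0, z₂, hker _ hv1, hz₁, hz₂, ?_⟩
  set D := Subgroup.zpowers z₁ ⊔ Subgroup.zpowers z₂
  have hDk : D ≤ π.ker := sup_le (Subgroup.zpowers_le.2 (hker _ hv0)) (Subgroup.zpowers_le.2 (hker _ hv1))
  haveI : D.Normal := ⟨fun x hx g => by
    rw [Subgroup.mem_center_iff.1 (hc (hDk hx)) g, mul_inv_cancel_right]; exact hx⟩
  let π' : Γ ⧸ D →* ↥(E62.tw σ).fix := QuotientGroup.lift D π hDk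
  have hsurj' : Function.Surjective π' := fun g => by
    obtain ⟨x, hx⟩ := hsurj g; exact ⟨QuotientGroup.mk x, hx⟩
  have hc' : π'.ker ≤ Subgroup.center (Γ ⧸ D) := by
    intro x hx
    obtain ⟨x, rfl⟩ := QuotientGroup.mk_surjective x
    rw [Subgroup.mem_center_iff]
    intro y
    obtain ⟨y, rfl⟩ := QuotientGroup.mk_surjective y
    rw [← QuotientGroup.mk_mul, ← QuotientGroup.mk_mul, Subgroup.mem_center_iff.1 (hc (show x ∈ π.ker from hx)) y]
  have hperfΓ : _root_.commutator Γ = ⊤ := by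
    have hmap : (_root_.commutator Γ).map π = ⊤ := by
      rw [commutator_def, Subgroup.map_commutator, Subgroup.map_top_of_surjective π hsurj, ← commutator_def,
        E62.perfect hσ hK2]
    rw [eq_top_iff]
    intro g _
    obtain ⟨c, hc', e⟩ := (show π g ∈ (_root_.commutator Γ).map π by rw [hmap]; exact Subgroup.mem_top _)
    have h1 : c⁻¹ * g ∈ π.ker := by rw [MonoidHom.mem_ker, map_mul, map_inv, e, inv_mul_cancel]
    have h2 := mul_mem hc' (hst h1)
    rwa [mul_inv_cancel_left] at h2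
  have hperf' : _root_.commutator (Γ ⧸ D) = ⊤ := by
    have := congrArg (Subgroup.map (QuotientGroup.mk' D)) hperfΓ
    rwa [commutator_def, Subgroup.map_commutator, Subgroup.map_top_of_surjective _ (QuotientGroup.mk'_surjective D),
      ← commutator_def] at this
  -- the rules hold modulo the two elements
  let a' : ℕ → Γ ⧸ D := fun l => QuotientGroup.mk' D (a l)
  have hcen' : Central a' := fun k hk => by
    show dv (fun l => QuotientGroup.mk' D (a l)) k ∈ _
    rw [← map_dv]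
    exact hc' (show π (dv a k) = 1 from hker k hk)
  have hB : Holds a' knownB_0 := by
    rw [← hB0]
    refine holds_fold _ _ (fun k hk => ?_) fun k hk => ?_
    · show dv (fun l => QuotientGroup.mk' D (a l)) k = 1
      rw [← map_dv]
      refine (QuotientGroup.eq_one_iff _).2 ?_
      simp only [List.mem_cons, List.not_mem_nil, or_false] at hk
      rcases hk with rfl | rfl
      exacts [Subgroup.mem_sup_left (Subgroup.mem_zpowers z₁), Subgroup.mem_sup_right (Subgroup.mem_zpowers z₂)]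
    · show dv (fun l => QuotientGroup.mk' D (a l)) k = 1
      rw [← map_dv, hA' k hk, map_one]
  have hall := chainB hcen' hB
  have hR' : Rel tabE (Cen.trivial (Γ ⧸ D)) a' (· ∈ posL) := by
    refine ⟨fun l hl => ?_, fun x z hx hz ho => ?_⟩
    · rw [← dv_sq]; exact hall _ (hfull _ (vOK_sq (posL_lt l hl)))
    · have h := hall _ (hfull _ (pair_code ho).2.2.2)
      rw [dv_pair ho, inv_mul_eq_one] at h
      simp [Cen.trivial, h]
  -- the unipotent part lifts
  obtain ⟨Y, _, _, c, y, ξ, hRY, hI, hTop, ξι, ξy, hrange, -, -, -, hkerι⟩ := exists_uExt P hK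
  obtain ⟨φ₀, hφι, hφy⟩ := exists_hom tri_posL hRY hI hR'
  let φ : Y →* Γ ⧸ D := φ₀.comp ((MonoidHom.id Y).codRestrict (Sp c y posL) fun z => by rw [hTop]; trivial)
  have hcomp : ∀ z, π' (φ z) = ξ z := by
    have : π'.comp φ = ξ := by
      refine MonoidHom.eq_of_eqOn_dense hTop ?_
      rintro _ (⟨i, rfl⟩ | ⟨l, hl, rfl⟩)
      · show π' (φ₀ ⟨c.ι i, _⟩) = ξ (c.ι i)
        rw [hφι, ξι]; exact map_one π'
      · show π' (φ₀ ⟨y l, _⟩) = ξ (y l)
        rw [hφy l hl, ξy l hl]; exact hπa l (posL_lt l hl)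
    exact DFunLike.congr_fun this
  have hH : ∀ x ∈ ⁅(uPos K σ).comap π', (uPos K σ).comap π'⁆, x ∈ π'.ker → x = 1 := by
    intro x hx hxk
    have hle : ⁅(uPos K σ).comap π', (uPos K σ).comap π'⁆ ≤ φ.range := by
      rw [Subgroup.commutator_le]
      intro g hg h hh
      obtain ⟨u, hu⟩ := (hrange ▸ hg : π' g ∈ ξ.range)
      obtain ⟨v, hv⟩ := (hrange ▸ hh : π' h ∈ ξ.range)
      have hgc : ∃ d, (∀ w, d * w = w * d) ∧ g = φ u * d := ⟨(φ u)⁻¹ * g, fun w =>
        (Subgroup.mem_center_iff.1 (hc' (show π' ((φ u)⁻¹ * g) = 1 by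
          rw [map_mul, map_inv, hcomp, hu, inv_mul_cancel])) w).symm, by group⟩
      have hhc : ∃ d, (∀ w, d * w = w * d) ∧ h = φ v * d := ⟨(φ v)⁻¹ * h, fun w =>
        (Subgroup.mem_center_iff.1 (hc' (show π' ((φ v)⁻¹ * h) = 1 by
          rw [map_mul, map_inv, hcomp, hv, inv_mul_cancel])) w).symm, by group⟩
      obtain ⟨d, hd, rfl⟩ := hgc
      obtain ⟨d', hd', rfl⟩ := hhc
      refine ⟨⁅u, v⁆, ?_⟩
      rw [map_commutatorElement, commutatorElement_def, commutatorElement_def]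
      calc φ u * φ v * (φ u)⁻¹ * (φ v)⁻¹
          = φ u * φ v * (d' * (φ u)⁻¹) * d'⁻¹ * (φ v)⁻¹ := by rw [hd' (φ u)⁻¹]; group
        _ = φ u * (φ v * d' * d) * d⁻¹ * (φ u)⁻¹ * (d'⁻¹ * (φ v)⁻¹) := by group
        _ = _ := by rw [← hd (φ v * d')]; group
    obtain ⟨u, rfl⟩ := hle hx
    have hu : u ∈ ξ.ker := by rw [MonoidHom.mem_ker, ← hcomp]; exact hxk
    obtain ⟨i, rfl⟩ := hkerι u hu
    exact hφι i
  obtain ⟨S, hS⟩ := TwOut.sylow_U (p := 2) (TwOut.E6.fam hσ hK2)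
  have hco : (Nat.card π'.ker).Coprime 2 := by
    refine TransferKill.ker_coprime π' hsurj' hc' (by rw [hperf']; exact le_top) (uPos K σ) ?_ hH
    have := S.not_dvd_index
    rwa [hS] at this
  have h3 := E62Mult.card_ker_le 2 hσ hK2 π' hsurj' hc' hco hperf'
  refine ⟨(D.subgroupOf π.ker), fun k => Iff.rfl, ?_⟩
  let ψ : π.ker →* π'.ker := ((QuotientGroup.mk' D).comp π.ker.subtype).codRestrict π'.ker fun k => k.2
  have hψs : Function.Surjective ψ := by
    rintro ⟨x, hx⟩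
    obtain ⟨g, rfl⟩ := QuotientGroup.mk_surjective x
    exact ⟨⟨g, hx⟩, rfl⟩
  have hψk : ψ.ker = D.subgroupOf π.ker := by
    ext k
    rw [MonoidHom.mem_ker, Subgroup.mem_subgroupOf, ← QuotientGroup.eq_one_iff]
    exact ⟨fun h => congrArg Subtype.val h, fun h => Subtype.ext h⟩
  rw [← hψk, Subgroup.index_ker, MonoidHom.range_eq_top.2 hψs, Nat.card_congr Subgroup.topEquiv.toEquiv]
  have hpos : 0 < Nat.card π'.ker := Nat.card_pos
  have hne : Nat.card π'.ker ≠ 2 := fun e => by rw [e] at hco; norm_num at hco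
  have : Nat.gcd 3 (2 + 1) = 3 := rfl
  omega

end CfsgLib.Chev.E62Two
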